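import Cfsg.Agent.Lib.BlockCount.Involve
import Cfsg.Agent.Lib.CharInt.Basic
import Cfsg.Agent.Lib.Char.Linear

/-!
# Sums over the irreducible characters with a given central character; fixed vectors

`ω ψ z = ψ(z) / ψ(1)`. A quantity whose twists by `ω ψ z` sum to zero for `1 ≠ z ∈ Z(G)` is
distributed evenly over the central characters. If `w` normalises `P` and `ψ(wy) = ψ(w)` on `P`,
then `‖ψ(w)‖` is at most the dimension of the fixed space of `P`.
-/

set_option autoImplicit false
set_option linter.style.haveILetI false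
set_option linter.unusedSectionVars false

namespace Cfsg.Agent.DegreePSubTwo

open Cfsg Cfsg.Agent
open scoped ComplexConjugate Classical

universe u

variable {G : Type u} [Group G] [Fintype G]

/-- The central character. -/
noncomputable def omega (ψ : IrrCharacter G) (z : G) : ℂ := ψ.1 z / ψ.1 1

theorem apply_one_ne_zero (ψ : IrrCharacter G) : ψ.1 1 ≠ 0 :=
  Char.IsIrrCharacter.apply_one_ne_zero ψ.2

theorem omega_one (ψ : IrrCharacter G) : omega ψ 1 = 1 := div_self (apply_one_ne_zero ψ)

theorem apply_center_mul (ψ : IrrCharacter G) {z : G} (hz : z ∈ Subgroup.center G) (g : G) :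
    ψ.1 (z * g) = omega ψ z * ψ.1 g := by
  have h := Agent.BlockCount.mul_eq_sum_conj ψ.2 g z
  have hx : ∀ x : G, ψ.1 (g * (x * z * x⁻¹)) = ψ.1 (z * g) := fun x => by
    rw [Subgroup.mem_center_iff.1 hz x, mul_inv_cancel_right, Subgroup.mem_center_iff.1 hz g]
  simp only [hx, Finset.sum_const, Finset.card_univ, nsmul_eq_mul, ← Nat.card_eq_fintype_card] at h
  rw [omega]
  have h1 := apply_one_ne_zero ψ
  have h2 : (Nat.card G : ℂ) ≠ 0 := Char.card_ne_zero
  field_simp at h ⊢
  linear_combination h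

theorem omega_mul (ψ : IrrCharacter G) {z z' : G} (hz : z ∈ Subgroup.center G) :
    omega ψ (z * z') = omega ψ z * omega ψ z' := by
  rw [omega, apply_center_mul ψ hz, mul_div_assoc, omega, omega]

theorem omega_inv (ψ : IrrCharacter G) (z : G) : omega ψ z⁻¹ = conj (omega ψ z) := by
  rw [omega, omega, map_div₀, CharInt.char_inv (Char.irr_isCharacter ψ),
    Char.apply_one_eq_degree, map_natCast]

theorem omega_mul_conj (ψ : IrrCharacter G) {z : G} (hz : z ∈ Subgroup.center G) :
    omega ψ z * conj (omega ψ z) = 1 := by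
  rw [← omega_inv, ← omega_mul ψ hz, mul_inv_cancel, omega_one]

/-- Equal central characters. -/
def SameCentral (ψ₀ ψ : IrrCharacter G) : Prop :=
  ∀ z ∈ Subgroup.center G, omega ψ z = omega ψ₀ z

theorem sum_center (ψ₀ ψ : IrrCharacter G) :
    ∑ z : Subgroup.center G, omega ψ z * conj (omega ψ₀ z) =
      if SameCentral ψ₀ ψ then (Nat.card (Subgroup.center G) : ℂ) else 0 := by
  split_ifs with h
  · rw [Finset.sum_congr rfl fun (z : Subgroup.center G) _ => by rw [h z z.2, omega_mul_conj ψ₀ z.2],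
      Finset.sum_const, nsmul_eq_mul, mul_one, Finset.card_univ, Nat.card_eq_fintype_card]
  · let f : Subgroup.center G →* ℂ :=
      { toFun := fun z => omega ψ z * conj (omega ψ₀ z)
        map_one' := by simp [omega_one]
        map_mul' := fun a b => by
          rw [Subgroup.coe_mul, omega_mul ψ a.2, omega_mul ψ₀ a.2, map_mul]; ring }
    have hf : f ≠ 1 := fun he => h fun z hz => by
      have h1 : omega ψ z * conj (omega ψ₀ z) = 1 := DFunLike.congr_fun he (⟨z, hz⟩ : Subgroup.center G)
      calc omega ψ z = omega ψ z * (omega ψ₀ z * conj (omega ψ₀ z)) := by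
            rw [omega_mul_conj ψ₀ hz, mul_one]
        _ = omega ψ z * conj (omega ψ₀ z) * omega ψ₀ z := by ring
        _ = omega ψ₀ z := by rw [h1, one_mul]
    exact sum_hom_units_eq_zero f hf

/-- Even distribution over the central characters. -/
theorem card_mul_sum_sameCentral (ψ₀ : IrrCharacter G) (f : IrrCharacter G → ℂ)
    (h : ∀ z ∈ Subgroup.center G, z ≠ 1 → ∑ ψ, omega ψ z * f ψ = 0) :
    (Nat.card (Subgroup.center G) : ℂ) *
      ∑ ψ ∈ Finset.univ.filter (fun ψ => SameCentral ψ₀ ψ), f ψ = ∑ ψ, f ψ := by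
  calc (Nat.card (Subgroup.center G) : ℂ) *
        ∑ ψ ∈ Finset.univ.filter (fun ψ => SameCentral ψ₀ ψ), f ψ
      = ∑ ψ : IrrCharacter G, (∑ z : Subgroup.center G, omega ψ z * conj (omega ψ₀ z)) * f ψ := by
        rw [Finset.mul_sum, Finset.sum_filter]
        exact Finset.sum_congr rfl fun ψ _ => by rw [sum_center]; split_ifs <;> simp
    _ = ∑ z : Subgroup.center G, conj (omega ψ₀ z) * ∑ ψ : IrrCharacter G, omega ψ z * f ψ := by
        simp only [Finset.sum_mul, Finset.mul_sum]
        rw [Finset.sum_comm]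
        exact Finset.sum_congr rfl fun z _ => Finset.sum_congr rfl fun ψ _ => by ring
    _ = ∑ ψ, f ψ := by
        rw [Finset.sum_eq_single_of_mem (1 : Subgroup.center G) (Finset.mem_univ _) fun z _ hz => by
          rw [h z z.2 fun e => hz (Subtype.ext e), mul_zero]]
        simp [omega_one]

/-- An element normalising `P` acts on the fixed space of `P`. -/
theorem exists_fixed_rep (ψ : IrrCharacter G) (P : Subgroup G) {w : G}
    (hw : ∀ y ∈ P, w * y * w⁻¹ ∈ P) (hinv : ∀ y ∈ P, ψ.1 (w * y) = ψ.1 w) {n : ℕ}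
    (hn : ∑ y : P, ψ.1 y = (Nat.card P : ℂ) * n) :
    ∃ (k : ℕ) (σ : Representation ℂ (Subgroup.zpowers w) (Fin k → ℂ)), k = n ∧
      ψ.1 w = σ.character ⟨w, Subgroup.mem_zpowers w⟩ := by
  obtain ⟨m, ρ, -, hρ⟩ := ψ.2
  set U : Submodule ℂ (Fin m → ℂ) := Representation.invariants (ρ.comp P.subtype) with hU
  have hmemU : ∀ v, v ∈ U ↔ ∀ y ∈ P, ρ y v = v := fun v => by
    rw [hU, Representation.mem_invariants]
    exact ⟨fun h y hy => h ⟨y, hy⟩, fun h y => h y y.2⟩
  have hP0 : (Nat.card P : ℂ) ≠ 0 := Nat.cast_ne_zero.2 Nat.card_pos.ne'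
  set e : Module.End ℂ (Fin m → ℂ) := (Nat.card P : ℂ)⁻¹ • ∑ y : P, ρ (y : G) with he
  have hproj : LinearMap.IsProj U e := by
    refine ⟨fun v => (hmemU _).2 fun a ha => ?_, fun v hv => ?_⟩
    · simp only [he, LinearMap.smul_apply, LinearMap.sum_apply, map_smul, map_sum]
      congr 1
      refine Fintype.sum_equiv (Equiv.mulLeft (⟨a, ha⟩ : P)) _ _ fun y => ?_
      show ρ a (ρ (y : G) v) = ρ (a * y) v
      rw [map_mul, Module.End.mul_apply]
    · simp only [he, LinearMap.smul_apply, LinearMap.sum_apply]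
      rw [Finset.sum_congr rfl fun (y : P) _ => (hmemU v).1 hv y y.2, Finset.sum_const,
        Finset.card_univ, ← Nat.card_eq_fintype_card, ← Nat.cast_smul_eq_nsmul ℂ, smul_smul,
        inv_mul_cancel₀ hP0, one_smul]
  have hfin : Module.finrank ℂ U = n := by
    have h1 := hproj.trace
    rw [he, map_smul, map_sum] at h1
    have h2 : ∀ y : P, LinearMap.trace ℂ _ (ρ (y : G)) = ψ.1 y := fun y => by rw [← hρ]; rfl
    simp only [h2, hn, smul_eq_mul, inv_mul_cancel_left₀ hP0] at h1
    exact_mod_cast h1.symm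
  -- the subgroup generated by `w` acts on `U`
  have hinvU : ∀ g ∈ Subgroup.zpowers w, ∀ v ∈ U, ρ g v ∈ U := by
    intro g hg
    obtain ⟨k, rfl⟩ := (mem_powers_iff_mem_zpowers (x := w)).2 hg
    induction k with
    | zero => intro v hv; simpa using hv
    | succ k ih =>
      intro v hv
      simp only [pow_succ] at ih ⊢
      rw [map_mul, Module.End.mul_apply]
      refine ih (Subgroup.mem_zpowers_iff.2 ⟨k, by simp⟩) _ ((hmemU _).2 fun y hy => ?_)
      have hfin' : orderOf w ≠ 0 := (orderOf_pos w).ne'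
      have hy' : w⁻¹ * y * w ∈ P := by
        have hpow : ∀ i : ℕ, ∀ u ∈ P, w ^ i * u * (w ^ i)⁻¹ ∈ P := by
          intro i
          induction i with
          | zero => intro u hu; simpa using hu
          | succ i hi =>
            intro u hu
            have := hi _ (hw u hu)
            rwa [pow_succ, show w ^ i * w * u * (w ^ i * w)⁻¹ = w ^ i * (w * u * w⁻¹) * (w ^ i)⁻¹ by
              group]
        have hinv' : w⁻¹ = w ^ (orderOf w - 1) := inv_eq_of_mul_eq_one_right (by
          rw [← pow_succ', Nat.sub_add_cancel (orderOf_pos w), pow_orderOf_eq_one])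
        have := hpow (orderOf w - 1) y hy
        rwa [← hinv', inv_inv] at this
      rw [← Module.End.mul_apply, ← map_mul, show y * w = w * (w⁻¹ * y * w) by group, map_mul,
        Module.End.mul_apply, (hmemU v).1 hv _ hy']
  let σ : Representation ℂ (Subgroup.zpowers w) U :=
    { toFun := fun g => (ρ (g : G)).restrict (hinvU g g.2)
      map_one' := LinearMap.ext fun v => Subtype.ext (by simp)
      map_mul' := fun a b => LinearMap.ext fun v => Subtype.ext (by simp) }
  have hψ : ψ.1 w = σ.character ⟨w, Subgroup.mem_zpowers w⟩ := by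
    have hmem : ∀ v, (ρ w * e) v ∈ U := fun v => hinvU w (Subgroup.mem_zpowers w) _ (hproj.map_mem v)
    have h1 : LinearMap.trace ℂ _ (ρ w * e) = ψ.1 w := by
      rw [he, mul_smul_comm, Finset.mul_sum, map_smul, map_sum]
      simp only [← map_mul]
      have h2 : ∀ y : P, LinearMap.trace ℂ _ (ρ (w * (y : G))) = ψ.1 w := fun y => by
        rw [← hinv y y.2, ← hρ]; rfl
      simp only [h2, Finset.sum_const, Finset.card_univ, ← Nat.card_eq_fintype_card, nsmul_eq_mul,
        smul_eq_mul, inv_mul_cancel_left₀ hP0]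
    rw [← h1, ← LinearMap.trace_restrict_eq_of_forall_mem U (ρ w * e) hmem]
    show _ = LinearMap.trace ℂ _ (σ ⟨w, _⟩)
    congr 1
    refine LinearMap.ext fun v => Subtype.ext ?_
    show ρ w (e v) = ρ w v
    rw [hproj.map_id v v.2]
  obtain ⟨k, σ', hσ'⟩ := Char.isCharacter_character σ
  refine ⟨k, σ', ?_, hψ.trans (congrFun hσ' _).symm⟩
  have h1 := congrFun hσ' 1
  rw [Representation.char_one, Representation.char_one, hfin] at h1
  simp only [Module.finrank_fin_fun] at h1
  exact_mod_cast h1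

/-- The value at an element normalising `P` is bounded by the fixed space of `P`. -/
theorem norm_le_fixed (ψ : IrrCharacter G) (P : Subgroup G) {w : G}
    (hw : ∀ y ∈ P, w * y * w⁻¹ ∈ P) (hinv : ∀ y ∈ P, ψ.1 (w * y) = ψ.1 w) {n : ℕ}
    (hn : ∑ y : P, ψ.1 y = (Nat.card P : ℂ) * n) : ‖ψ.1 w‖ ≤ n := by
  obtain ⟨k, σ, rfl, hψ⟩ := exists_fixed_rep ψ P hw hinv hn
  rw [hψ]
  exact (CharInt.norm_character_le σ _).trans (by rw [Module.finrank_fin_fun])

/-- On a one-dimensional fixed space the value is a root of unity. -/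
theorem ne_zero_of_fixed_one (ψ : IrrCharacter G) (P : Subgroup G) {w : G}
    (hw : ∀ y ∈ P, w * y * w⁻¹ ∈ P) (hinv : ∀ y ∈ P, ψ.1 (w * y) = ψ.1 w)
    (hn : ∑ y : P, ψ.1 y = (Nat.card P : ℂ) * (1 : ℕ)) : ψ.1 w ≠ 0 := by
  obtain ⟨k, σ, rfl, hψ⟩ := exists_fixed_rep ψ P hw hinv hn
  obtain ⟨lam, hlam⟩ := Char.IsCharacter.exists_monoidHom (Char.isCharacter_character σ)
    (by rw [Representation.char_one, Module.finrank_fin_fun, Nat.cast_one])
  rw [hψ, ← hlam]
  intro h0
  have h1 := Char.normSq_linear lam ⟨w, Subgroup.mem_zpowers w⟩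
  rw [h0, zero_mul] at h1
  exact zero_ne_one h1

end Cfsg.Agent.DegreePSubTwo
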