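import Cfsg.Agent.Lib.DefectOne.SelfCent
import Cfsg.Agent.Lib.Blocks.ThirdMain
import Cfsg.Agent.Lib.CharInt.Basic
import Cfsg.Agent.Lib.CharInt.Kazarin

/-!
# The principal block at a self-centralising subgroup of prime order, automiser 2, degree `p - 2`

If `|P| = p`, `C(P) = P`, `|N(P) : P| = 2` and some irreducible character has degree `p - 2`, then
the principal block consists of `1`, a character `χ` of degree `p - 1` and `(p - 1) / 2` characters
of degree `p - 2` that agree with `χ - 1` on `p`-regular elements.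
-/

set_option autoImplicit false
set_option linter.style.haveILetI false
set_option linter.unusedSectionVars false

namespace Cfsg.Agent.DegreePSubTwo

open Cfsg Cfsg.Agent
open scoped ComplexConjugate Classical

universe u

variable {G : Type u} [Group G] [Fintype G] {p : ℕ} [hp : Fact p.Prime]

/-- The principal block data. -/
structure Block (P : Sylow p G) (θ₀ : IrrCharacter G) where
  sc : DefectOne.SelfCent P
  five : 5 ≤ p
  t : ℕ
  ht : 2 * t + 1 = p
  χ : IrrCharacter G
  Y : Finset (IrrCharacter G)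
  θ₀_mem : θ₀ ∈ Y
  card_Y : Y.card = t
  deg_χ : Char.degree χ = p - 1
  deg_Y : ∀ θ ∈ Y, Char.degree θ = p - 2
  val_χ : ∀ y ∈ (P : Subgroup G), y ≠ 1 → χ.1 y = -1
  sum_Y : ∀ y ∈ (P : Subgroup G), y ≠ 1 → ∑ θ ∈ Y, θ.1 y = 1
  sum_Y_sq : ∀ y ∈ (P : Subgroup G), y ≠ 1 →
    ∑ θ ∈ Y, θ.1 y * conj (θ.1 y) = ((p - 2 : ℕ) : ℂ)
  regular : ∀ θ ∈ Y, ∀ g, IsPRegular p g → θ.1 g = χ.1 g - 1
  vanish : ∀ ψ : IrrCharacter G, ψ ≠ Char.trivialChar G → ψ ≠ χ → ψ ∉ Y →
    ∀ y ∈ (P : Subgroup G), y ≠ 1 → ψ.1 y = 0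
  χ_ne : χ ≠ Char.trivialChar G
  χ_notMem : χ ∉ Y
  triv_notMem : Char.trivialChar G ∉ Y
  inv : ∀ y ∈ (P : Subgroup G), IsConj y y⁻¹
  card_N : Nat.card (Subgroup.normalizer ((P : Subgroup G) : Set G)) = 2 * p

theorem degree_trivial : Char.degree (Char.trivialChar G) = 1 := by
  have := Char.apply_one_eq_degree (Char.trivialChar G)
  rw [Char.trivialChar_apply] at this
  exact_mod_cast this.symm

/-- An automiser of order `2` inverts the subgroup. -/
theorem isConj_inv {P : Sylow p G} (sc : DefectOne.SelfCent P)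
    (hidx : (Subgroup.centralizer ((P : Subgroup G) : Set G)).relIndex
      (Subgroup.normalizer ((P : Subgroup G) : Set G)) = 2)
    {y : G} (hy : y ∈ (P : Subgroup G)) : IsConj y y⁻¹ := by
  by_cases hy1 : y = 1
  · simp [hy1]
  set N := Subgroup.normalizer ((P : Subgroup G) : Set G)
  set C := Subgroup.centralizer ((P : Subgroup G) : Set G)
  obtain ⟨w, hwN, hwC⟩ : ∃ w ∈ N, w ∉ C := by
    by_contra h
    push Not at h
    rw [Subgroup.relIndex_eq_one.2 h] at hidx
    omega
  have hww : w * w ∈ C := by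
    have := Subgroup.mul_self_mem_of_index_two (H := C.subgroupOf N) hidx (⟨w, hwN⟩ : N)
    exact this
  set y' := w * y * w⁻¹ with hy'
  have hyP : y' ∈ (P : Subgroup G) := (Subgroup.mem_normalizer_iff.1 hwN y).1 hy
  have hz : Subgroup.zpowers y = (P : Subgroup G) := by
    refine Subgroup.eq_of_le_of_card_ge (Subgroup.zpowers_le.2 hy) ?_
    rw [sc.card, Nat.card_zpowers]
    exact (((Nat.dvd_prime hp.out).1 (sc.card ▸ Subgroup.orderOf_dvd_natCard _ hy)).resolve_left
      fun h => hy1 (orderOf_eq_one_iff.1 h)).ge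
  obtain ⟨a, ha⟩ := Subgroup.mem_zpowers_iff.1 (hz.ge hyP)
  have hord : (orderOf y : ℤ) = p := by
    have h := congrArg (fun H : Subgroup G => Nat.card H) hz
    simp only [Nat.card_zpowers] at h
    exact_mod_cast h.trans sc.card
  have h2 : w * y' * w⁻¹ = y := by
    have h3 := Subgroup.mem_centralizer_iff.1 hww y hy
    rw [hy']
    calc w * (w * y * w⁻¹) * w⁻¹ = (w * w * y) * (w * w)⁻¹ := by group
      _ = y := by rw [← h3]; group
  have h3 : y ^ (a * a) = y ^ (1 : ℤ) := by
    rw [zpow_mul, ha, zpow_one]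
    conv_rhs => rw [← h2, ← ha]
    rw [hy', conj_zpow]
  rw [zpow_eq_zpow_iff_modEq, hord] at h3
  have hdvd : (p : ℤ) ∣ (a - 1) * (a + 1) := by
    have := h3.symm.dvd
    rwa [show (a - 1) * (a + 1) = a * a - 1 by ring]
  rcases (Nat.prime_iff_prime_int.1 hp.out).dvd_mul.1 hdvd with h | h
  · refine absurd ?_ hwC
    have hya : y ^ a = y := by
      conv_rhs => rw [← zpow_one y]
      rw [zpow_eq_zpow_iff_modEq, hord]
      exact (Int.modEq_iff_dvd.2 h).symm
    rw [Subgroup.mem_centralizer_iff]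
    intro x hx
    obtain ⟨j, rfl⟩ := Subgroup.mem_zpowers_iff.1 (hz.ge hx)
    have hc : Commute y w := by
      show y * w = w * y
      calc y * w = y ^ a * w := by rw [hya]
        _ = w * y := by rw [ha, hy']; group
    exact (hc.zpow_left j).eq
  · refine isConj_iff.2 ⟨w, ?_⟩
    rw [← hy', ← ha, ← zpow_neg_one, zpow_eq_zpow_iff_modEq, hord, Int.modEq_iff_dvd]
    rw [show (-1 : ℤ) - a = -(a + 1) by ring]
    exact h.neg_right

/-- Existence of the block data. -/
theorem exists_block {P : Sylow p G} (sc : DefectOne.SelfCent P) (h5 : 5 ≤ p)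
    (hidx : (Subgroup.centralizer ((P : Subgroup G) : Set G)).relIndex
      (Subgroup.normalizer ((P : Subgroup G) : Set G)) = 2)
    (θ₀ : IrrCharacter G) (hdeg : Char.degree θ₀ = p - 2) : Nonempty (Block P θ₀) := by
  obtain ⟨M, hM⟩ := CharInt.exists_isPModular_of_prime hp.out
  haveI := hM.2.1
  have hpM : (p : AlgInt) ∈ M := by exact_mod_cast hM.2.2
  obtain ⟨S⟩ := DefectOne.primeShape (P := P) hpM sc.card hidx
  have hnd : ∀ {k : ℤ}, k ≠ 0 → -(p : ℤ) < k → k < p → ¬ (p : ℤ) ∣ k := by
    intro k hk h1 h2 hd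
    exact hk (Int.eq_zero_of_abs_lt_dvd hd (abs_lt.2 ⟨h1, h2⟩))
  have h5' : (5 : ℤ) ≤ p := by exact_mod_cast h5
  -- `θ₀` is exceptional
  have hθB : θ₀ ∈ principalBlock M G := sc.mem_block hpM (by
    rw [hdeg]
    intro h
    have := Nat.le_of_dvd (by omega) h
    omega)
  have hθY : θ₀ ∈ S.Y := (S.mem_XY hθB).resolve_left fun hX => by
    have h1 := (S.X_deg' hX).symm.dvd
    rw [hdeg, Nat.cast_sub (show 2 ≤ p by omega)] at h1
    push_cast at h1
    rcases S.hεX θ₀ hX with e | e <;> rw [e] at h1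
    · exact hnd (k := -3) (by norm_num) (by omega) (by omega)
        (by have := dvd_sub h1 (dvd_refl (p : ℤ)); ring_nf at this; exact this)
    · exact hnd (k := -1) (by norm_num) (by omega) (by omega)
        (by have := dvd_sub h1 (dvd_refl (p : ℤ)); ring_nf at this; exact this)
  have hε : S.ε = -1 := by
    refine S.hε.resolve_left fun e => ?_
    have h1 := (S.Y_deg' hθY).symm.dvd
    rw [hdeg, e, Nat.cast_sub (show 2 ≤ p by omega)] at h1
    push_cast at h1
    exact hnd (k := -4) (by norm_num) (by omega) (by omega)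
      (by have := dvd_sub h1 (dvd_refl (p : ℤ)); ring_nf at this; exact this)
  -- the trivial character
  have hT : Char.trivialChar G ∈ S.X := (S.mem_XY Blocks.trivial_mem_principalBlock).resolve_right
    fun hY => by
      have := S.degree_eq hY hθY
      rw [degree_trivial, hdeg] at this
      omega
  obtain ⟨y₀, hy₀⟩ : ∃ y : (P : Subgroup G), y ≠ 1 := by
    haveI : Nontrivial (P : Subgroup G) :=
      Finite.one_lt_card_iff_nontrivial.1 (hp.out.one_lt.trans_le sc.card.ge)
    exact exists_ne 1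
  have hTε : S.εX (Char.trivialChar G) = 1 := by
    have h1 := S.X_val _ hT y₀ hy₀
    rw [Char.trivialChar_apply] at h1
    exact_mod_cast h1.symm
  obtain ⟨χ, hχ⟩ : ∃ χ, S.X.erase (Char.trivialChar G) = {χ} :=
    Finset.card_eq_one.1 (by rw [Finset.card_erase_of_mem hT, S.cardX])
  have hχmem : χ ∈ S.X ∧ χ ≠ Char.trivialChar G := by
    have : χ ∈ S.X.erase (Char.trivialChar G) := by rw [hχ]; exact Finset.mem_singleton_self χ
    exact ⟨Finset.mem_of_mem_erase this, Finset.ne_of_mem_erase this⟩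
  have hrel : (Char.degree χ : ℤ) * S.εX χ = -((p : ℤ) - 1) := by
    have h1 := S.degree_relation hθY
    rw [← Finset.add_sum_erase _ _ hT, hχ, Finset.sum_singleton, hTε, degree_trivial, hε, hdeg,
      Nat.cast_sub (show 2 ≤ p by omega)] at h1
    push_cast at h1
    linear_combination -h1
  have hχε : S.εX χ = -1 := by
    refine (S.hεX χ hχmem.1).resolve_left fun e => ?_
    rw [e, mul_one] at hrel
    omega
  have hχdeg : Char.degree χ = p - 1 := by
    rw [hχε] at hrel
    omega
  refine ⟨{ sc := sc, five := h5, t := (p - 1) / 2, ht := ?_, χ := χ, Y := S.Y, θ₀_mem := hθY,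
            card_Y := S.cardY, deg_χ := hχdeg, deg_Y := ?_, val_χ := ?_, sum_Y := ?_,
            sum_Y_sq := ?_, regular := ?_, vanish := ?_, χ_ne := hχmem.2, χ_notMem := ?_,
            triv_notMem := Finset.disjoint_left.1 S.disj hT, inv := fun y hy => isConj_inv sc hidx hy, card_N := ?_ }⟩
  · have := hp.out.odd_of_ne_two (by omega)
    obtain ⟨k, hk⟩ := this
    omega
  · exact fun θ hθ => (S.degree_eq hθ hθY).trans hdeg
  · intro y hy hy1
    rw [show χ.1 y = S.εX χ from S.X_val χ hχmem.1 ⟨y, hy⟩ (fun e => hy1 (congrArg Subtype.val e)),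
      hχε]
    norm_num
  · intro y hy hy1
    rw [sc.sum_Y hpM S ⟨θ₀, hθY⟩ hy hy1, hε]
    norm_num
  · intro y hy hy1
    have h1 := sc.sum_Y_sq hpM S hy hy1
    rw [Nat.cast_sub (show 2 ≤ p by omega)]
    push_cast at h1 ⊢
    linear_combination h1
  · intro θ hθ g hg
    have h1 := S.relation θ hθ g hg
    rw [← Finset.add_sum_erase _ _ hT, hχ, Finset.sum_singleton, hTε, hχε, hε,
      Char.trivialChar_apply] at h1
    push_cast at h1
    linear_combination -h1
  · intro ψ hψT hψχ hψY y hy hy1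
    refine sc.vanish hpM (fun hB => ?_) hy hy1
    rcases S.mem_XY hB with h | h
    · have : ψ ∈ S.X.erase (Char.trivialChar G) := Finset.mem_erase.2 ⟨hψT, h⟩
      rw [hχ, Finset.mem_singleton] at this
      exact hψχ this
    · exact hψY h
  · exact Finset.disjoint_left.1 S.disj hχmem.1
  · have hle : Subgroup.centralizer ((P : Subgroup G) : Set G) ≤
        Subgroup.normalizer ((P : Subgroup G) : Set G) := by
      rw [sc.cent]; exact Subgroup.le_normalizer
    have h1 := Subgroup.card_mul_index ((Subgroup.centralizer ((P : Subgroup G) : Set G)).subgroupOf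
      (Subgroup.normalizer ((P : Subgroup G) : Set G)))
    rw [Nat.card_congr (Subgroup.subgroupOfEquivOfLe hle).toEquiv,
      show Nat.card (Subgroup.centralizer ((P : Subgroup G) : Set G)) = p by rw [sc.cent]; exact sc.card,
      show ((Subgroup.centralizer ((P : Subgroup G) : Set G)).subgroupOf
        (Subgroup.normalizer ((P : Subgroup G) : Set G))).index = 2 from hidx] at h1
    omega

variable {P : Sylow p G} {θ₀ : IrrCharacter G} (B : Block P θ₀)

theorem Block.mem_cases (ψ : IrrCharacter G) :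
    ψ = Char.trivialChar G ∨ ψ = B.χ ∨ ψ ∈ B.Y ∨
      ∀ y ∈ (P : Subgroup G), y ≠ 1 → ψ.1 y = 0 := by
  by_cases h1 : ψ = Char.trivialChar G
  · exact Or.inl h1
  by_cases h2 : ψ = B.χ
  · exact Or.inr (Or.inl h2)
  by_cases h3 : ψ ∈ B.Y
  · exact Or.inr (Or.inr (Or.inl h3))
  exact Or.inr (Or.inr (Or.inr (B.vanish ψ h1 h2 h3)))

/-- A sum over the irreducible characters of a quantity vanishing outside the block. -/
theorem Block.sum_irr {f : IrrCharacter G → ℂ}
    (h0 : ∀ ψ, ψ ≠ Char.trivialChar G → ψ ≠ B.χ → ψ ∉ B.Y → f ψ = 0) :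
    ∑ ψ, f ψ = f (Char.trivialChar G) + f B.χ + ∑ θ ∈ B.Y, f θ := by
  rw [← Finset.sum_subset (Finset.subset_univ (insert (Char.trivialChar G) (insert B.χ B.Y)))
    fun ψ _ hψ => by
      simp only [Finset.mem_insert, not_or] at hψ
      exact h0 ψ hψ.1 hψ.2.1 hψ.2.2,
    Finset.sum_insert (by simp [B.triv_notMem, B.χ_ne.symm]), Finset.sum_insert B.χ_notMem,
    add_assoc]

end Cfsg.Agent.DegreePSubTwo
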