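import Cfsg.Agent.Lib.DegreePSubTwo.TwistShape

/-!
# Comparing the class sums of two central characters

For `C(P) = P × Z(G)`, `|N(P) : C(P)| = 2` and an irreducible character `ζ` of degree `p - 2`
having one fixed vector of `P`, faithful on `Z(G)`, some linear character agrees with `ζ` on
`Z(G)`.
-/

set_option autoImplicit false
set_option linter.style.haveILetI false
set_option linter.unusedSectionVars false

namespace Cfsg.Agent.DegreePSubTwo

open Cfsg Cfsg.Agent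
open scoped ComplexConjugate Classical

-- match the classical instances of `DefectOne.Coord`
attribute [-instance] Subtype.instDecidableEq

universe u

variable {G : Type u} [Group G] [Fintype G] {p : ℕ} [hp : Fact p.Prime]

variable {P : Sylow p G} (T : Twist P)
include T

theorem Twist.exists_n (ψ : IrrCharacter G) :
    ∃ n : ℕ, ∑ y : (P : Subgroup G), ψ.1 y = (p : ℂ) * n ∧ ‖ψ.1 T.w‖ ≤ n ∧
      (n = 1 → ψ.1 T.w ≠ 0) ∧
      (Char.degree ψ : ℂ) + ∑ y ∈ Finset.univ.erase (1 : (P : Subgroup G)), ψ.1 y = (p : ℂ) * n := by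
  have hcard : Nat.card (P : Subgroup G) = p := T.card
  have hsum : ∑ y : (P : Subgroup G), ψ.1 y =
      (Char.degree ψ : ℂ) + ∑ y ∈ Finset.univ.erase (1 : (P : Subgroup G)), ψ.1 y := by
    rw [← Finset.add_sum_erase _ _ (Finset.mem_univ (1 : (P : Subgroup G))), Subgroup.coe_one,
      Char.apply_one_eq_degree]
  obtain ⟨n, hn⟩ : ∃ n : ℕ, ∑ y : (P : Subgroup G), ψ.1 y = (p : ℂ) * n := by
    obtain ⟨n, hn⟩ := Char.IsCharacter.exists_nat_classInner
      (Char.IsCharacter.restrict (Char.irr_isCharacter ψ) (P : Subgroup G))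
      (Char.irr_isCharacter (Char.trivialChar (P : Subgroup G)))
    refine ⟨n, ?_⟩
    simp only [classInner, Char.trivialChar_apply, map_one, mul_one, hcard] at hn
    rw [← hn, ← mul_assoc, mul_inv_cancel₀ (Nat.cast_ne_zero.2 hp.out.ne_zero), one_mul]
  have hw : ∀ y ∈ (P : Subgroup G), T.w * y * T.w⁻¹ ∈ (P : Subgroup G) := fun y hy => by
    rw [T.w_inv y hy]; exact inv_mem hy
  have hinv : ∀ y ∈ (P : Subgroup G), ψ.1 (T.w * y) = ψ.1 T.w := by
    intro y hy
    obtain ⟨u, hu, hu2⟩ : ∃ u ∈ (P : Subgroup G), u⁻¹ * u⁻¹ = y := by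
      refine ⟨(y ^ ((p + 1) / 2))⁻¹, inv_mem (pow_mem hy _), ?_⟩
      have hodd : p % 2 = 1 := Nat.odd_iff.1 (hp.out.odd_of_ne_two (by have := T.seven; omega))
      have hyp : y ^ p = 1 := by
        have h' := pow_card_eq_one' (x := (⟨y, hy⟩ : (P : Subgroup G)))
        rw [hcard] at h'
        exact congrArg Subtype.val h'
      rw [inv_inv, ← pow_add, show (p + 1) / 2 + (p + 1) / 2 = p + 1 by omega, pow_succ, hyp,
        one_mul]
    have h1 : u * T.w * u⁻¹ = T.w * y := by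
      rw [← hu2]
      calc u * T.w * u⁻¹ = T.w * (T.w⁻¹ * u * T.w) * u⁻¹ := by group
        _ = T.w * u⁻¹ * u⁻¹ := by
          have h2 : T.w⁻¹ * u * T.w = u⁻¹ := by
            have h3 := T.w_inv u⁻¹ (inv_mem hu)
            rw [inv_inv] at h3
            conv_lhs => rw [← h3]
            group
          rw [h2]
        _ = T.w * (u⁻¹ * u⁻¹) := mul_assoc _ _ _
    rw [← h1]
    exact Char.IsCharacter.isClassFunction (Char.irr_isCharacter ψ) T.w u
  have hn' : ∑ y : (P : Subgroup G), ψ.1 y = (Nat.card (P : Subgroup G) : ℂ) * n := by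
    rw [hcard]; exact hn
  refine ⟨n, hn, norm_le_fixed ψ _ hw hinv hn', fun h1 => ?_, hsum.symm.trans hn⟩
  subst h1
  exact ne_zero_of_fixed_one ψ _ hw hinv hn'

variable {ψ₀ : IrrCharacter G}
  (S : DefectOne.Coord.Shape p (T.set ψ₀) (fun ψ (y : (P : Subgroup G)) => ψ.1 y) T.aut)

/-- The relation on regular elements. -/
theorem Twist.shape_relation {θ : IrrCharacter G} (hθ : θ ∈ T.set ψ₀ \ S.X) {g : G}
    (hg : IsPRegular p g) :
    (((T.set ψ₀ \ S.X).card : ℤ) * S.d - S.δ : ℤ) * θ.1 g + ∑ χ ∈ S.X, (S.a χ : ℂ) * χ.1 g = 0 ∧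
      ∀ θ' ∈ T.set ψ₀ \ S.X, θ'.1 g = θ.1 g := by
  obtain ⟨h1, h2⟩ := S.relation θ hθ (fun ψ => ψ.1 g) fun y hy => T.orth_regular ψ₀ hg hy
  refine ⟨?_, h2⟩
  push_cast
  exact h1

/-- The total of an exceptional member. -/
theorem Twist.shape_total {θ : IrrCharacter G} (hθ : θ ∈ T.set ψ₀ \ S.X) :
    ∑ y ∈ Finset.univ.erase (1 : (P : Subgroup G)), θ.1 y =
      ((2 * (((T.set ψ₀ \ S.X).card : ℤ) * S.d - S.δ) : ℤ) : ℂ) := by
  have := S.total θ hθ
  rw [T.card_aut] at this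
  exact_mod_cast this

/-- The total of a non-exceptional member. -/
theorem Twist.shape_total_X {χ : IrrCharacter G} (hχ : χ ∈ S.X) :
    ∑ y ∈ Finset.univ.erase (1 : (P : Subgroup G)), χ.1 y = (((p : ℤ) - 1) * S.a χ : ℤ) := by
  rw [Finset.sum_congr rfl fun y hy => (S.X_val χ hχ).2 y (Finset.ne_of_mem_erase hy),
    Finset.sum_const, Finset.card_erase_of_mem (Finset.mem_univ _), Finset.card_univ,
    ← Nat.card_eq_fintype_card, show Nat.card (P : Subgroup G) = p from T.card, nsmul_eq_mul,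
    Nat.cast_sub hp.out.one_le]
  push_cast
  rfl

/-- The class sum of a shape with two non-exceptional members of signs `a₁`, `a₂`. -/
theorem Twist.shape_sum {χ₁ χ₂ θ : IrrCharacter G} (hne : χ₁ ≠ χ₂) (hX : S.X = {χ₁, χ₂})
    (hθ : θ ∈ T.set ψ₀ \ S.X) {y : (P : Subgroup G)} (hy : y ≠ 1) :
    ∑ ψ ∈ T.set ψ₀, T.term y ψ =
      (S.a χ₁ : ℂ) * (χ₁.1 T.w * conj (χ₁.1 T.w)) / Char.degree χ₁ +
      (S.a χ₂ : ℂ) * (χ₂.1 T.w * conj (χ₂.1 T.w)) / Char.degree χ₂ -
      ((S.a χ₁ : ℂ) * Char.degree χ₁ + (S.a χ₂ : ℂ) * Char.degree χ₂) / Char.degree θ *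
        (θ.1 T.w * conj (θ.1 T.w)) / Char.degree θ := by
  have hd : ∀ ψ : IrrCharacter G, (Char.degree ψ : ℂ) ≠ 0 := fun ψ =>
    Nat.cast_ne_zero.2 (Char.degree_pos ψ).ne'
  have hXs : ∀ f : IrrCharacter G → ℂ,
      ∑ ψ ∈ T.set ψ₀, f ψ = f χ₁ + f χ₂ + ∑ ψ ∈ T.set ψ₀ \ S.X, f ψ := fun f => by
    rw [← Finset.sum_sdiff S.X_sub, add_comm]
    congr 1
    rw [hX, Finset.sum_pair hne]
  have h1 : χ₁ ∈ S.X := by rw [hX]; simp
  have h2 : χ₂ ∈ S.X := by rw [hX]; simp
  have hv : ∀ χ ∈ S.X, conj (χ.1 (y : G)) = (S.a χ : ℂ) := fun χ hχ => by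
    rw [show χ.1 (y : G) = (S.a χ : ℂ) from (S.X_val χ hχ).2 y hy, map_intCast]
  have hone := (T.data ψ₀).deg_orth y hy
  rw [hXs, hv χ₁ h1, hv χ₂ h2, Finset.sum_congr rfl fun ψ hψ => show
    (Char.degree ψ : ℂ) * conj (ψ.1 (y : G)) = (Char.degree θ : ℂ) * conj (ψ.1 (y : G)) by
      have := (T.shape_relation S hθ (g := (1 : G)) (by simp [IsPRegular, hp.out.ne_one])).2 ψ hψ
      rw [Char.apply_one_eq_degree, Char.apply_one_eq_degree] at this
      rw [this], ← Finset.mul_sum] at hone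
  have hsum : ∑ ψ ∈ T.set ψ₀ \ S.X, conj (ψ.1 (y : G)) =
      -((S.a χ₁ : ℂ) * Char.degree χ₁ + (S.a χ₂ : ℂ) * Char.degree χ₂) / Char.degree θ := by
    rw [eq_div_iff (hd θ)]
    linear_combination hone
  rw [hXs, Finset.sum_congr rfl fun ψ hψ => show T.term y ψ =
    θ.1 T.w * conj (θ.1 T.w) / Char.degree θ * conj (ψ.1 (y : G)) by
      have e1 := (T.shape_relation S hθ (g := (1 : G)) (by simp [IsPRegular, hp.out.ne_one])).2 ψ hψ
      have e2 := (T.shape_relation S hθ T.w_regular).2 ψ hψ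
      rw [Char.apply_one_eq_degree, Char.apply_one_eq_degree] at e1
      rw [Twist.term, e2, Char.apply_one_eq_degree, e1]
      ring, ← Finset.mul_sum, hsum, Twist.term, Twist.term, hv χ₁ h1, hv χ₂ h2,
    Char.apply_one_eq_degree, Char.apply_one_eq_degree]
  ring

omit T in
/-- Two members of norm two. -/
theorem exists_pair {s : Finset (IrrCharacter G)} {a : IrrCharacter G → ℤ}
    (h0 : ∀ χ ∈ s, a χ ≠ 0) (h2 : ∑ χ ∈ s, a χ ^ 2 = 2) :
    ∃ χ₁ χ₂, χ₁ ≠ χ₂ ∧ s = {χ₁, χ₂} ∧ (a χ₁ = 1 ∨ a χ₁ = -1) ∧ (a χ₂ = 1 ∨ a χ₂ = -1) := by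
  have habs : ∀ χ ∈ s, a χ = 1 ∨ a χ = -1 := by
    intro χ hχ
    have h1 : a χ ^ 2 ≤ 2 := h2 ▸ Finset.single_le_sum (fun x _ => sq_nonneg (a x)) hχ
    have := h0 χ hχ
    have : -2 < a χ ∧ a χ < 2 := ⟨by nlinarith, by nlinarith⟩
    omega
  have hcard : s.card = 2 := by
    rw [Finset.sum_congr rfl fun χ hχ => show a χ ^ 2 = 1 by
      rcases habs χ hχ with e | e <;> rw [e] <;> norm_num, Finset.sum_const, nsmul_eq_mul,
      mul_one] at h2
    exact_mod_cast h2
  obtain ⟨x, y, hxy, rfl⟩ := Finset.card_eq_two.1 hcard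
  exact ⟨x, y, hxy, rfl, habs x (by simp), habs y (by simp)⟩

omit T in
/-- The Hermitian identity. -/
theorem herm_identity {A B E : ℂ} (hA : A ≠ 0) (hB : B ≠ 0) (hE : E ≠ 0) (h : A = B + E)
    (u v z : ℂ) (hv : v = u + z) :
    u * conj u / B - v * conj v / A + z * conj z / E =
      (E * u - B * z) * (E * conj u - B * conj z) / (A * B * E) := by
  subst h hv
  rw [map_add]
  field_simp
  ring

omit T in
theorem norm_sq_cast {A B E : ℕ} (u z : ℂ) :
    ((E : ℂ) * u - B * z) * ((E : ℂ) * conj u - B * conj z) / ((A : ℂ) * B * E) =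
      ((‖(E : ℂ) * u - B * z‖ ^ 2 / ((A : ℝ) * B * E) : ℝ) : ℂ) := by
  push_cast
  rw [← Complex.mul_conj']
  simp

/-- Upper bound for a faithful central character. -/
theorem Twist.lambda_bound {ζ : IrrCharacter G} (hdeg : Char.degree ζ = p - 2)
    (hfix : ∑ y : (P : Subgroup G), ζ.1 y = p)
    (hno : ∀ b : IrrCharacter G, SameCentral ζ b → Char.degree b ≠ 1) {y : (P : Subgroup G)}
    (hy : y ≠ 1) :
    ∃ r : ℝ, r < (((p : ℝ) - 1) / p) ^ 2 ∧ ∑ ψ ∈ T.set ζ, T.term y ψ = r := by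
  have h7 := T.seven
  have hcast : ((p - 2 : ℕ) : ℂ) = (p : ℂ) - 2 := by
    rw [Nat.cast_sub (show 2 ≤ p by omega), Nat.cast_ofNat]
  have hrest : ∑ y ∈ Finset.univ.erase (1 : (P : Subgroup G)), ζ.1 y = 2 := by
    have h1 := hfix
    rw [← Finset.add_sum_erase _ _ (Finset.mem_univ (1 : (P : Subgroup G))), Subgroup.coe_one,
      Char.apply_one_eq_degree, hdeg, hcast] at h1
    linear_combination h1
  have hζs : ζ ∈ T.set ζ := by
    refine T.mem_set.2 ⟨fun _ _ => rfl, ?_⟩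
    by_contra hcon
    push Not at hcon
    rw [Finset.sum_eq_zero fun y hy => hcon y (Finset.ne_of_mem_erase hy)] at hrest
    norm_num at hrest
  obtain ⟨S, ht⟩ := T.exists_shape ζ
  have hζe : ζ ∈ T.set ζ \ S.X := by
    refine Finset.mem_sdiff.2 ⟨hζs, fun hX => ?_⟩
    rw [T.shape_total_X S hX] at hrest
    have h1 : ((p : ℤ) - 1) * S.a ζ = 2 := by exact_mod_cast hrest
    have h2 := Int.le_of_dvd (by norm_num) (Dvd.intro _ h1 : (p : ℤ) - 1 ∣ 2)
    omega
  have hone : ((T.set ζ \ S.X).card : ℤ) * S.d - S.δ = 1 := by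
    rw [T.shape_total S hζe] at hrest
    have : (2 : ℤ) * (((T.set ζ \ S.X).card : ℤ) * S.d - S.δ) = 2 := by exact_mod_cast hrest
    omega
  have hd0 : S.d = 0 := by
    by_contra hd
    have h1 : (T.set ζ \ S.X).card * S.d.natAbs ≤ 2 := by
      zify
      rw [← abs_of_nonneg (Int.natCast_nonneg (T.set ζ \ S.X).card), ← abs_mul, abs_le]
      rcases S.hδ with e | e <;> rw [e] at hone <;> constructor <;> omega
    have h2 : 1 ≤ S.d.natAbs := by omega
    have := Nat.mul_le_mul_left (T.set ζ \ S.X).card h2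
    omega
  have hnorm : ∑ χ ∈ S.X, S.a χ ^ 2 = 2 := by
    have := S.norm_eq
    rw [T.card_aut, hd0] at this
    simpa using this
  obtain ⟨χ₁, χ₂, hne, hX, ha₁, ha₂⟩ := exists_pair (fun χ h => (S.X_val χ h).1) hnorm
  have hrel : ∀ g : G, IsPRegular p g →
      ζ.1 g + (S.a χ₁ : ℂ) * χ₁.1 g + (S.a χ₂ : ℂ) * χ₂.1 g = 0 := fun g hg => by
    have h1 := (T.shape_relation S hζe hg).1
    rw [hone, hX, Finset.sum_pair hne] at h1
    rw [add_assoc]
    simpa using h1
  have hdegrel : ((p : ℤ) - 2) + S.a χ₁ * Char.degree χ₁ + S.a χ₂ * Char.degree χ₂ = 0 := by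
    have h1 := hrel 1 (by simp [IsPRegular, hp.out.ne_one])
    simp only [Char.apply_one_eq_degree, hdeg, hcast] at h1
    exact_mod_cast h1
  have hfixX : ∀ χ ∈ S.X, ∃ n : ℕ, ‖χ.1 T.w‖ ≤ n ∧
      (Char.degree χ : ℤ) + ((p : ℤ) - 1) * S.a χ = p * n := fun χ hχ => by
    obtain ⟨n, -, hw, -, hsum⟩ := T.exists_n χ
    rw [T.shape_total_X S hχ] at hsum
    exact ⟨n, hw, by exact_mod_cast hsum⟩
  -- name the members
  obtain ⟨b, c, hbc, hXbc, hb1, hc1⟩ : ∃ b c : IrrCharacter G,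
      b ≠ c ∧ S.X = {b, c} ∧ S.a b = 1 ∧ S.a c = -1 := by
    rcases ha₁ with e₁ | e₁ <;> rcases ha₂ with e₂ | e₂ <;> rw [e₁, e₂] at hdegrel
    · exfalso; omega
    · exact ⟨χ₁, χ₂, hne, hX, e₁, e₂⟩
    · exact ⟨χ₂, χ₁, hne.symm, by rw [hX, Finset.pair_comm], e₂, e₁⟩
    · exfalso
      obtain ⟨n, -, hn⟩ := hfixX χ₁ (by rw [hX]; simp)
      rw [e₁] at hn
      have hn0 : (0 : ℤ) ≤ (p : ℤ) * n := by positivity
      have := Char.degree_pos χ₂
      omega
  have hbX : b ∈ S.X := by rw [hXbc]; simp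
  obtain ⟨nb, hbw, hbn⟩ := hfixX b hbX
  rw [hb1, mul_one] at hbn
  obtain ⟨nz, hzfix, hzw, -, -⟩ := T.exists_n ζ
  have hnz : nz = 1 := by
    rw [hfix] at hzfix
    have h1 : (p : ℂ) * 1 = p * nz := by rw [mul_one]; exact hzfix
    exact_mod_cast (mul_left_cancel₀ (Nat.cast_ne_zero.2 hp.out.ne_zero) h1).symm
  rw [hnz, Nat.cast_one] at hzw
  set B := Char.degree b with hBdef
  set A := Char.degree c with hAdef
  set E := p - 2 with hEdef
  have hAB : A = B + E := by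
    have h1 := (T.shape_relation S hζe (g := (1 : G)) (by simp [IsPRegular, hp.out.ne_one])).1
    rw [hone, hXbc, Finset.sum_pair hbc, hb1, hc1, Char.apply_one_eq_degree,
      Char.apply_one_eq_degree, Char.apply_one_eq_degree, hdeg] at h1
    have h2 : (A : ℂ) = ((B + E : ℕ) : ℂ) := by
      push_cast at h1 ⊢
      linear_combination -h1
    exact_mod_cast h2
  have hvw : c.1 T.w = b.1 T.w + ζ.1 T.w := by
    have h1 := (T.shape_relation S hζe T.w_regular).1
    rw [hone, hXbc, Finset.sum_pair hbc, hb1, hc1] at h1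
    push_cast at h1
    linear_combination -h1
  -- `B ≥ p + 1`
  have hBne : B ≠ 1 := hno b (T.mem_set.1 (S.X_sub hbX)).1
  have hB : p + 1 ≤ B := by
    have hBpos := Char.degree_pos b
    have hnb : 2 ≤ nb := by
      by_contra hlt
      push Not at hlt
      interval_cases nb <;> push_cast at hbn <;> omega
    have h1 : (p : ℤ) * 2 ≤ p * nb :=
      mul_le_mul_of_nonneg_left (by exact_mod_cast hnb) (Int.natCast_nonneg p)
    omega
  have hE : 5 ≤ E := by omega
  have hA0 : (A : ℂ) ≠ 0 := Nat.cast_ne_zero.2 (by omega)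
  have hB0 : (B : ℂ) ≠ 0 := Nat.cast_ne_zero.2 (by omega)
  have hE0 : (E : ℂ) ≠ 0 := Nat.cast_ne_zero.2 (by omega)
  refine ⟨‖(E : ℂ) * b.1 T.w - B * ζ.1 T.w‖ ^ 2 / ((A : ℝ) * B * E), ?_, ?_⟩
  · have hN : ‖(E : ℂ) * b.1 T.w - B * ζ.1 T.w‖ ≤ (E : ℝ) * nb + B := by
      refine (norm_sub_le _ _).trans (add_le_add ?_ ?_)
      · rw [norm_mul, Complex.norm_natCast]; exact mul_le_mul_of_nonneg_left hbw (Nat.cast_nonneg _)
      · rw [norm_mul, Complex.norm_natCast]
        exact mul_le_of_le_one_right (Nat.cast_nonneg _) hzw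
    have hnbR : (p : ℝ) * nb = B + ((p : ℝ) - 1) := by
      have : ((B : ℝ) + ((p : ℝ) - 1)) = (p : ℝ) * nb := by exact_mod_cast hbn
      linarith
    have hER : (E : ℝ) = p - 2 := by rw [hEdef, Nat.cast_sub (by omega)]; norm_num
    have hAR : (A : ℝ) = B + E := by exact_mod_cast hAB
    have hBR : (p : ℝ) + 1 ≤ B := by exact_mod_cast hB
    have hpR : (7 : ℝ) ≤ p := by exact_mod_cast h7
    have hp0 : (0 : ℝ) < p := by linarith
    have hNp : (p : ℝ) * ‖(E : ℂ) * b.1 T.w - B * ζ.1 T.w‖ ≤ ((p : ℝ) - 1) * (2 * B + E) := by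
      refine (mul_le_mul_of_nonneg_left hN hp0.le).trans (le_of_eq ?_)
      rw [mul_add, mul_left_comm, hnbR, hER]
      ring
    have hden : (0 : ℝ) < (A : ℝ) * B * E := by
      have : (0 : ℝ) < E := by rw [hER]; linarith
      have : (0 : ℝ) < B := by linarith
      rw [hAR]; positivity
    rw [div_pow, div_lt_div_iff₀ hden (by positivity)]
    have hsq := mul_le_mul hNp hNp (by positivity) (le_trans (by positivity) hNp)
    have key : (2 * (B : ℝ) + E) ^ 2 < (A : ℝ) * B * E := by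
      have hE5 : (5 : ℝ) ≤ E := by rw [hER]; linarith
      have hBE : (E : ℝ) < B := by rw [hER]; linarith
      have h1 : (E : ℝ) * E < ((B : ℝ) + E) * B := by nlinarith
      have h2 : ((B : ℝ) + E) * B * 5 ≤ ((B : ℝ) + E) * B * E :=
        mul_le_mul_of_nonneg_left hE5 (by nlinarith)
      rw [hAR]
      nlinarith
    have hp1 : (0 : ℝ) < ((p : ℝ) - 1) ^ 2 := by
      have : (0 : ℝ) < (p : ℝ) - 1 := by linarith
      positivity
    nlinarith [mul_lt_mul_of_pos_left key hp1]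
  · rw [T.shape_sum S hbc hXbc hζe hy, hb1, hc1, ← norm_sq_cast,
      ← herm_identity hA0 hB0 hE0 (by exact_mod_cast hAB) (b.1 T.w) (c.1 T.w) (ζ.1 T.w) hvw,
      hdeg, ← hBdef, ← hAdef, show (A : ℂ) = (B : ℂ) + E by exact_mod_cast hAB]
    push_cast
    field_simp
    ring

/-- Lower bound for the trivial central character. -/
theorem Twist.trivial_bound {y : (P : Subgroup G)} (hy : y ≠ 1) :
    ∃ r : ℝ, (((p : ℝ) - 1) / p) ^ 2 ≤ r ∧
      ∑ ψ ∈ T.set (Char.trivialChar G), T.term y ψ = r := by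
  have h7 := T.seven
  set I := Char.trivialChar G with hI
  have hIone : ∀ g, I.1 g = 1 := fun g => Char.trivialChar_apply g
  have hI1 : Char.degree I = 1 := by
    have := Char.apply_one_eq_degree I
    rw [hI, Char.trivialChar_apply] at this
    exact_mod_cast this.symm
  have hIs : I ∈ T.set I :=
    T.mem_set.2 ⟨fun _ _ => rfl, y, hy, by rw [hI, Char.trivialChar_apply]; exact one_ne_zero⟩
  obtain ⟨S, ht⟩ := T.exists_shape I
  obtain ⟨θ, hθ⟩ : (T.set I \ S.X).Nonempty := Finset.card_pos.1 (by omega)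
  have hIX : I ∈ S.X := by
    by_contra h
    obtain ⟨y', -, hne⟩ := S.not_const I (Finset.mem_sdiff.2 ⟨hIs, h⟩) 1
    exact hne (hIone _)
  have haI : S.a I = 1 := by
    have h1 : I.1 (y : G) = (S.a I : ℂ) := (S.X_val I hIX).2 y hy
    rw [hIone] at h1
    exact_mod_cast h1.symm
  have hdeg1 : ((((T.set I \ S.X).card : ℤ) * S.d - S.δ) * (Char.degree θ : ℤ)) +
      ∑ χ ∈ S.X, S.a χ * (Char.degree χ : ℤ) = 0 := by
    have h1 := (T.shape_relation S hθ (g := (1 : G)) (by simp [IsPRegular, hp.out.ne_one])).1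
    simp only [Char.apply_one_eq_degree] at h1
    exact_mod_cast h1
  have hd0 : S.d = 0 := by
    by_contra hd
    have hn := S.norm_eq
    rw [T.card_aut, ← Finset.add_sum_erase _ _ hIX, haI] at hn
    have h0 : (0 : ℤ) ≤ ∑ χ ∈ S.X.erase I, S.a χ ^ 2 := Finset.sum_nonneg fun _ _ => sq_nonneg _
    push_cast at hn hdeg1
    obtain ⟨t, ht'⟩ : ∃ t : ℤ, t = ((T.set I \ S.X).card : ℤ) := ⟨_, rfl⟩
    rw [← ht'] at hn hdeg1
    have ht3 : (3 : ℤ) ≤ t := by rw [ht']; exact_mod_cast ht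
    have hge : 1 ≤ S.d * (t * S.d - 2 * S.δ) := by
      rcases lt_or_gt_of_ne hd with h | h
      · have : t * S.d ≤ -3 := by nlinarith
        rcases S.hδ with e | e <;> rw [e] <;> nlinarith
      · have : 3 ≤ t * S.d := by nlinarith
        rcases S.hδ with e | e <;> rw [e] <;> nlinarith
    have hzero : ∑ χ ∈ S.X.erase I, S.a χ ^ 2 = 0 := by omega
    have hX1 : S.X.erase I = ∅ := Finset.eq_empty_of_forall_notMem fun χ hχ =>
      (S.X_val χ (Finset.mem_of_mem_erase hχ)).1 (pow_eq_zero_iff two_ne_zero |>.1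
        ((Finset.sum_eq_zero_iff_of_nonneg fun _ _ => sq_nonneg _).1 hzero χ hχ))
    rw [← Finset.add_sum_erase _ _ hIX, hX1, Finset.sum_empty, haI, hI1] at hdeg1
    have hθ1 : Char.degree θ = 1 := by
      have : (Char.degree θ : ℤ) ∣ 1 := ⟨-(t * S.d - S.δ), by push_cast at hdeg1; linarith⟩
      exact Nat.dvd_one.1 (Int.natCast_dvd_natCast.1 (by exact_mod_cast this))
    obtain ⟨lam, hlam⟩ := Char.IsCharacter.exists_monoidHom (Char.irr_isCharacter θ)
      (by rw [Char.apply_one_eq_degree, hθ1, Nat.cast_one])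
    obtain ⟨y', -, hne⟩ := S.not_const θ hθ 1
    apply hne
    show θ.1 (y' : G) = 1
    rw [← hlam]
    have hodd : p % 2 = 1 := Nat.odd_iff.1 (hp.out.odd_of_ne_two (by omega))
    have h1 : lam (y' : G)⁻¹ = lam y' := by
      have := T.apply_inv θ y'.2
      rwa [← hlam] at this
    have h2 : lam (y' : G) * lam y' = 1 := by
      nth_rewrite 2 [← h1]
      rw [← map_mul, mul_inv_cancel, map_one]
    have h3 : lam (y' : G) ^ p = 1 := by
      have hyp : y' ^ p = 1 := by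
        have := pow_card_eq_one' (x := y')
        rwa [show Nat.card (P : Subgroup G) = p from T.card] at this
      rw [← map_pow, ← SubgroupClass.coe_pow, hyp, Subgroup.coe_one, map_one]
    have h4 : lam (y' : G) ^ (2 * (p / 2) + 1) = 1 := by rwa [show 2 * (p / 2) + 1 = p by omega]
    rwa [pow_succ, pow_mul, pow_two, h2, one_pow, one_mul] at h4
  have hnorm : ∑ χ ∈ S.X, S.a χ ^ 2 = 2 := by
    have := S.norm_eq
    rw [T.card_aut, hd0] at this
    simpa using this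
  obtain ⟨c, hcI, hXc, hac⟩ : ∃ c, I ≠ c ∧ S.X = {I, c} ∧ (S.a c = 1 ∨ S.a c = -1) := by
    obtain ⟨χ₁, χ₂, hne, hX, ha₁, ha₂⟩ := exists_pair (fun χ h => (S.X_val χ h).1) hnorm
    have hI' : I = χ₁ ∨ I = χ₂ := by simpa [hX] using hIX
    rcases hI' with rfl | rfl
    · exact ⟨χ₂, hne, hX, ha₂⟩
    · exact ⟨χ₁, hne.symm, by rw [hX, Finset.pair_comm], ha₁⟩
  have hcX : c ∈ S.X := by rw [hXc]; simp
  rw [hd0, mul_zero, zero_sub, hXc, Finset.sum_pair hcI, haI, hI1] at hdeg1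
  have hrelw : -(S.δ : ℂ) * θ.1 T.w + 1 + (S.a c : ℂ) * c.1 T.w = 0 := by
    have h1 := (T.shape_relation S hθ T.w_regular).1
    rw [hd0, mul_zero, zero_sub, hXc, Finset.sum_pair hcI, haI, hIone] at h1
    push_cast at h1
    linear_combination h1
  set A := Char.degree c with hA
  set E := Char.degree θ with hE
  have hApos : 0 < A := Char.degree_pos c
  have hEpos : 0 < E := Char.degree_pos θ
  have hAC : (A : ℂ) ≠ 0 := Nat.cast_ne_zero.2 hApos.ne'
  have hIw : I.1 T.w = 1 := hIone _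
  obtain ⟨n, -, hcw, -, hcn⟩ := T.exists_n c
  obtain ⟨m, -, hθw, -, hθn⟩ := T.exists_n θ
  rw [T.shape_total_X S hcX] at hcn
  rw [T.shape_total S hθ, hd0] at hθn
  have hpR : (7 : ℝ) ≤ p := by exact_mod_cast h7
  have hp0 : (0 : ℝ) < p := by linarith
  have hAR : (1 : ℝ) ≤ A := by exact_mod_cast hApos
  rcases hac with hac | hac
  · -- `χ(1) ≡ 1`
    rw [hac, one_mul, one_mul] at hdeg1
    have hδ : S.δ = 1 := by
      refine S.hδ.resolve_right fun e => ?_
      rw [e] at hdeg1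
      omega
    rw [hδ] at hdeg1 hrelw hθn
    have hEA : E = A + 1 := by omega
    rw [hac] at hrelw
    have hzw : θ.1 T.w = c.1 T.w + 1 := by push_cast at hrelw; linear_combination -hrelw
    refine ⟨‖(A : ℂ) - c.1 T.w‖ ^ 2 / ((A : ℝ) * (A + 1)), ?_, ?_⟩
    · have hm : (p : ℝ) * m = (A : ℝ) - 1 := by
        have h1 : ((E : ℤ) : ℂ) + ((2 * (0 - 1) : ℤ) : ℂ) = ((p : ℤ) : ℂ) * ((m : ℤ) : ℂ) := by
          push_cast at hθn ⊢
          linear_combination hθn
        have h2 : (E : ℤ) + 2 * (0 - 1) = (p : ℤ) * m := by exact_mod_cast h1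
        have h3 : (p : ℤ) * m = (A : ℤ) - 1 := by omega
        exact_mod_cast h3
      have hre : (c.1 T.w).re + 1 ≤ m := by
        rw [hzw] at hθw
        have := (Complex.re_le_norm _).trans hθw
        simpa using this
      have hlow : ((p : ℝ) - 1) * ((A : ℝ) + 1) ≤ p * ‖(A : ℂ) - c.1 T.w‖ := by
        have h1 := Complex.re_le_norm ((A : ℂ) - c.1 T.w)
        simp only [Complex.sub_re, Complex.natCast_re] at h1
        have h2 := mul_le_mul_of_nonneg_left h1 hp0.le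
        nlinarith
      have h3 : ((p : ℝ) - 1) ^ 2 * ((A : ℝ) * (A + 1)) ≤
          ‖(A : ℂ) - c.1 T.w‖ ^ 2 * (p : ℝ) ^ 2 := by
        have h4 := mul_le_mul hlow hlow (by nlinarith) (by positivity)
        nlinarith
      rw [div_pow, div_le_div_iff₀ (by positivity) (by positivity)]
      linarith
    · rw [T.shape_sum S hcI hXc hθ hy, haI, hac, hI1, ← hA, ← hE, hEA, hIw, hzw]
      push_cast
      rw [← Complex.mul_conj']
      have hA1 : (A : ℂ) + 1 ≠ 0 := by exact_mod_cast (show A + 1 ≠ 0 by omega)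
      simp only [map_sub, map_natCast, map_add, map_one]
      field_simp
      ring
  · -- `χ(1) ≡ -1`
    rw [hac, one_mul, neg_one_mul] at hdeg1
    have hδ : S.δ = -1 := by
      refine S.hδ.resolve_left fun e => ?_
      rw [e] at hdeg1
      omega
    rw [hδ] at hdeg1 hrelw
    have hEA : A = E + 1 := by omega
    rw [hac] at hrelw hcn
    have hzw : θ.1 T.w = c.1 T.w - 1 := by push_cast at hrelw; linear_combination hrelw
    have hEC : (E : ℂ) ≠ 0 := Nat.cast_ne_zero.2 hEpos.ne'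
    refine ⟨‖(A : ℂ) - c.1 T.w‖ ^ 2 / ((A : ℝ) * E), ?_, ?_⟩
    · have hn : (p : ℝ) * n = (A : ℝ) - ((p : ℝ) - 1) := by
        have h1 : ((A : ℤ) : ℂ) + ((((p : ℤ) - 1) * (-1) : ℤ) : ℂ) =
            ((p : ℤ) : ℂ) * ((n : ℤ) : ℂ) := by
          push_cast at hcn ⊢
          linear_combination hcn
        have h2 : (A : ℤ) + ((p : ℤ) - 1) * (-1) = (p : ℤ) * n := by exact_mod_cast h1
        have h3 : ((p : ℝ) * n) = (A : ℝ) + ((p : ℝ) - 1) * (-1) := by exact_mod_cast h2.symm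
        linarith
      have hlow : ((p : ℝ) - 1) * ((A : ℝ) + 1) ≤ p * ‖(A : ℂ) - c.1 T.w‖ := by
        have h1 := Complex.re_le_norm ((A : ℂ) - c.1 T.w)
        simp only [Complex.sub_re, Complex.natCast_re] at h1
        have h1' := (Complex.re_le_norm (c.1 T.w)).trans hcw
        have h2 := mul_le_mul_of_nonneg_left h1 hp0.le
        nlinarith
      have hER : (E : ℝ) ≤ A := by exact_mod_cast (by omega : E ≤ A)
      have hE0 : (0 : ℝ) < E := by exact_mod_cast hEpos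
      have h3 : ((p : ℝ) - 1) ^ 2 * ((A : ℝ) * E) ≤
          ‖(A : ℂ) - c.1 T.w‖ ^ 2 * (p : ℝ) ^ 2 := by
        have h4 := mul_le_mul hlow hlow (by nlinarith) (by positivity)
        nlinarith
      rw [div_pow, div_le_div_iff₀ (by positivity) (by positivity)]
      linarith
    · rw [T.shape_sum S hcI hXc hθ hy, haI, hac, hI1, ← hA, ← hE, hIw, hzw, hEA]
      push_cast
      rw [← Complex.mul_conj']
      have hE1 : (E : ℂ) + 1 ≠ 0 := by exact_mod_cast (show E + 1 ≠ 0 by omega)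
      simp only [map_sub, map_natCast, map_add, map_one]
      field_simp
      ring

/-- Some linear character agrees with `ζ` on the centre. -/
theorem Twist.exists_linear {ζ : IrrCharacter G} (hdeg : Char.degree ζ = p - 2)
    (hfix : ∑ y : (P : Subgroup G), ζ.1 y = p)
    (hker : ∀ z ∈ Subgroup.center G, omega ζ z = 1 → z = 1) :
    ∃ b : IrrCharacter G, SameCentral ζ b ∧ Char.degree b = 1 := by
  by_contra hcon
  push Not at hcon
  obtain ⟨y, hy⟩ : ∃ y : (P : Subgroup G), y ≠ 1 := by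
    haveI : Nontrivial (P : Subgroup G) :=
      Finite.one_lt_card_iff_nontrivial.1 (hp.out.one_lt.trans_le T.card.ge)
    exact exists_ne 1
  obtain ⟨r₁, h1, e1⟩ := T.lambda_bound hdeg hfix hcon hy
  obtain ⟨r₂, h2, e2⟩ := T.trivial_bound hy
  obtain ⟨n, hn, -, hw, -⟩ := T.exists_n ζ
  have hζw : ζ.1 T.w ≠ 0 := hw (by
    rw [hfix] at hn
    have h3 : (p : ℂ) * 1 = p * n := by rw [mul_one]; exact hn
    exact_mod_cast (mul_left_cancel₀ (Nat.cast_ne_zero.2 hp.out.ne_zero) h3).symm)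
  have h4 : (r₁ : ℂ) = r₂ := by
    rw [← e1, ← e2]
    exact T.sum_term_eq hζw hker hy ζ (Char.trivialChar G)
  have : r₁ = r₂ := by exact_mod_cast h4
  linarith

end Cfsg.Agent.DegreePSubTwo
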