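import Cfsg.Agent.Lib.DegreePSubTwo.LocalMult
import Cfsg.Agent.Lib.DegreePSubTwo.TwistCompare

/-!
# A faithful character of degree `p - 2`: local structure

`|N(P) : C(P)| = 2`, the fixed space of `P` is a line and `C(P) = P × Z(G)`.
-/

set_option autoImplicit false
set_option linter.style.haveILetI false
set_option linter.unusedSectionVars false

namespace Cfsg.Agent.DegreePSubTwo

open Cfsg Cfsg.Agent DefectOne.Local
open scoped ComplexConjugate Classical

universe u

-- match the classical instances of `DefectOne.Coord`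
attribute [-instance] Subtype.instDecidableEq

section Orbit

variable {A : Type u} [Group A] [Fintype A] {p : ℕ} [hp : Fact p.Prime]

/-- An invariant sum over the nontrivial characters is a multiple of `|E|`. -/
theorem dvd_sum_of_invariant (hA : Nat.card A = p) (E : Subgroup (MulAut A))
    (f : IrrCharacter A → ℕ) (hf : ∀ φ ∈ E, ∀ l, f (DefectOne.Coord.actE l φ) = f l) :
    Nat.card E ∣ ∑ l ∈ Finset.univ.erase (Char.trivialChar A), f l := by
  let S : Setoid (IrrCharacter A) := ⟨DefectOne.Coord.Rel E, DefectOne.Coord.rel_equivalence⟩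
  rw [← Finset.sum_fiberwise_of_maps_to (t := Finset.univ) (g := fun l => (Quotient.mk S l))
    fun _ _ => Finset.mem_univ _]
  refine Finset.dvd_sum fun c _ => ?_
  rcases ((Finset.univ.erase (Char.trivialChar A)).filter fun l => Quotient.mk S l = c).eq_empty_or_nonempty
    with h | ⟨μ, hμ⟩
  · rw [h, Finset.sum_empty]; exact dvd_zero _
  obtain ⟨hμ1, rfl⟩ := Finset.mem_filter.1 hμ
  have hne := Finset.ne_of_mem_erase hμ1
  have hset : ((Finset.univ.erase (Char.trivialChar A)).filter
      fun l => Quotient.mk S l = Quotient.mk S μ) =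
      Finset.univ.filter fun l => DefectOne.Coord.Rel E l μ := by
    ext l
    simp only [Finset.mem_filter, Finset.mem_erase, Finset.mem_univ, and_true, true_and]
    refine ⟨fun h => Quotient.exact h.2, fun h => ⟨?_, Quotient.sound h⟩⟩
    obtain ⟨φ, -, rfl⟩ := h
    exact fun hh => hne (DefectOne.Coord.actE_eq_trivial_iff.1 hh)
  rw [hset, Finset.sum_congr rfl (g := fun _ => f μ) fun l hl => by
      obtain ⟨φ, hφ, rfl⟩ := (Finset.mem_filter.1 hl).2
      exact hf φ hφ μ,
    Finset.sum_const, DefectOne.Coord.card_orbit hA hne, smul_eq_mul]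
  exact dvd_mul_right _ _

end Orbit

variable {G : Type u} [Group G] [Fintype G] {p : ℕ} [hp : Fact p.Prime] {P : Sylow p G}
  (hP : Nat.card P = p)

include hP

theorem not_sq_dvd : ¬ p ^ 2 ∣ Nat.card G := by
  intro h
  have h1 : p ^ 1 = p ^ (Nat.card G).factorization p := by
    rw [pow_one, ← P.card_eq_multiplicity]; exact hP.symm
  have h2 := (hp.out.pow_dvd_iff_le_factorization Nat.card_pos.ne').1 h
  rw [← Nat.pow_right_injective hp.out.two_le h1] at h2
  omega

/-- The eigenvalues of an element of `P` are read off from the multiplicities. -/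
theorem aeval_eq_zero (χ : IrrCharacter G) (θ : IrrCharacter (Vsub P)) (L : LocalShape hP χ θ)
    {n : ℕ} (ρ : Representation ℂ G (Fin n → ℂ)) (hρ : ρ.character = χ.1) (x : (P : Subgroup G)) :
    Polynomial.aeval (ρ (x : G))
      (∏ z ∈ (Finset.univ.filter fun l => mult hP χ θ l ≠ 0).image (fun l => l.1 x),
        (Polynomial.X - Polynomial.C z)) = 0 := by
  have hp0 : (p : ℂ) ≠ 0 := Nat.cast_ne_zero.2 hp.out.ne_zero
  set S := Finset.univ.filter fun l : IrrCharacter (P : Subgroup G) => mult hP χ θ l ≠ 0 with hS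
  let e : IrrCharacter (P : Subgroup G) → Module.End ℂ (Fin n → ℂ) := fun l =>
    (p : ℂ)⁻¹ • ∑ y : (P : Subgroup G), conj (l.1 y) • ρ (y : G)
  have hmul : ∀ l (a : (P : Subgroup G)), ρ (a : G) * e l = l.1 a • e l := by
    intro l a
    obtain ⟨lam, hlam⟩ := DefectOne.Coord.exists_hom hP l
    have hu : ∀ b : (P : Subgroup G), l.1 b * conj (l.1 b) = 1 := fun b => by
      rw [← CharInt.char_inv (Char.irr_isCharacter l), ← hlam, ← map_mul, mul_inv_cancel, map_one]
    simp only [e, mul_smul_comm, Finset.mul_sum, smul_smul, Finset.smul_sum]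
    refine Fintype.sum_equiv (Equiv.mulLeft a) _ _ fun y => ?_
    rw [← map_mul]
    simp only [Equiv.coe_mulLeft, Subgroup.coe_mul]
    congr 1
    rw [← hlam, map_mul, map_mul, hlam]
    have := hu a
    linear_combination -((p : ℂ)⁻¹ * conj (l.1 y)) * this
  have hidem : ∀ l, e l * e l = e l := by
    intro l
    have hu : ∀ b : (P : Subgroup G), conj (l.1 b) * l.1 b = 1 := fun b => by
      obtain ⟨lam, hlam⟩ := DefectOne.Coord.exists_hom hP l
      rw [← CharInt.char_inv (Char.irr_isCharacter l), ← hlam, ← map_mul, inv_mul_cancel, map_one]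
    conv_lhs => arg 1; simp only [e]
    rw [smul_mul_assoc, Finset.sum_mul]
    simp only [smul_mul_assoc, hmul, smul_smul, hu, one_smul, Finset.sum_const, Finset.card_univ,
      ← Nat.card_eq_fintype_card]
    rw [show Nat.card (P : Subgroup G) = p from hP, ← Nat.cast_smul_eq_nsmul ℂ, smul_smul,
      inv_mul_cancel₀ hp0, one_smul]
  have htr : ∀ l, LinearMap.trace ℂ _ (e l) = (mult hP χ θ l : ℂ) * θ.1 1 := by
    intro l
    simp only [e, map_smul, map_sum, smul_eq_mul]
    rw [← mult_spec hP, classInner, hP, mul_assoc, Finset.sum_mul]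
    congr 1
    refine Finset.sum_congr rfl fun y _ => ?_
    rw [show LinearMap.trace ℂ _ (ρ (y : G)) = χ.1 (y : G) from congrFun hρ (y : G)]
    have h1 := L.factor y 1
    rw [OneMemClass.coe_one, mul_one] at h1
    rw [h1]; ring
  have hzero : ∀ l, l ∉ S → e l = 0 := by
    intro l hl
    have hproj : LinearMap.IsProj (LinearMap.range (e l)) (e l) :=
      ⟨fun v => LinearMap.mem_range_self _ v, fun v ⟨w, hw⟩ => by
        rw [← hw, ← Module.End.mul_apply, hidem]⟩
    have h1 := hproj.trace
    rw [htr, show mult hP χ θ l = 0 by simpa [hS] using hl, Nat.cast_zero, zero_mul, eq_comm,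
      Nat.cast_eq_zero, Submodule.finrank_eq_zero, LinearMap.range_eq_bot] at h1
    exact h1
  have hone : ∑ l, e l = 1 := by
    simp only [e, ← Finset.smul_sum]
    rw [Finset.sum_comm]
    have hcol : ∀ y : (P : Subgroup G), ∑ l : IrrCharacter (P : Subgroup G), conj (l.1 y) =
        if y = 1 then (p : ℂ) else 0 := by
      intro y
      have h1 := Char.sum_irr_mul_conj (1 : (P : Subgroup G)) y
      rw [Finset.sum_congr rfl fun l _ => by rw [DefectOne.Coord.linear hP l, one_mul]] at h1
      rw [h1]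
      by_cases hy : y = 1
      · subst hy
        rw [if_pos (IsConj.refl _), if_pos rfl]
        have : Subgroup.centralizer ({(1 : (P : Subgroup G))} : Set (P : Subgroup G)) = ⊤ := by
          ext a; simp [Subgroup.mem_centralizer_singleton_iff]
        rw [this, Subgroup.card_top, hP]
      · rw [if_neg (fun hc => hy (isConj_one_right.1 hc)), if_neg hy]
    simp only [← Finset.sum_smul, hcol, ite_smul, zero_smul, Finset.sum_ite_eq', Finset.mem_univ,
      if_true]
    rw [smul_smul, inv_mul_cancel₀ hp0, one_smul, OneMemClass.coe_one, map_one]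
  set q := ∏ z ∈ S.image (fun l => l.1 x), (Polynomial.X - Polynomial.C z) with hq
  have hev : ∀ (r : Polynomial ℂ) l,
      Polynomial.aeval (ρ (x : G)) r * e l = r.eval (l.1 x) • e l := by
    intro r l
    induction r using Polynomial.induction_on' with
    | add a b ha hb => rw [map_add, add_mul, ha, hb, Polynomial.eval_add, add_smul]
    | monomial k c =>
      rw [Polynomial.aeval_monomial, Polynomial.eval_monomial, ← Algebra.smul_def, smul_mul_assoc]
      have hk : ρ (x : G) ^ k * e l = (l.1 x) ^ k • e l := by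
        induction k with
        | zero => simp
        | succ k ih => rw [pow_succ, mul_assoc, hmul, mul_smul_comm, ih, smul_smul, ← pow_succ']
      rw [hk, smul_smul]
  calc Polynomial.aeval (ρ (x : G)) q
      = Polynomial.aeval (ρ (x : G)) q * ∑ l, e l := by rw [hone, mul_one]
    _ = 0 := by
      rw [Finset.mul_sum]
      refine Finset.sum_eq_zero fun l _ => ?_
      by_cases hl : l ∈ S
      · rw [hev, hq, Polynomial.eval_prod,
          Finset.prod_eq_zero (Finset.mem_image.2 ⟨l, hl, rfl⟩) (by simp), zero_smul]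
      · rw [hzero l hl, mul_zero]

/-- The multiplicities of a faithful character of degree `p - 2`. -/
theorem exists_local (h7 : 7 ≤ p) (hnn : ¬ (P : Subgroup G).Normal) {χ : IrrCharacter G}
    (hdeg : Char.degree χ = p - 2) (hfaith : ∀ g, χ.1 g = χ.1 1 → g = 1) :
    Nat.card (autGroup P) = 2 ∧ (∑ y : (P : Subgroup G), χ.1 y = p) ∧
      ∀ v ∈ Vsub P, v ∈ Subgroup.center G := by
  have hp0 : (p : ℂ) ≠ 0 := Nat.cast_ne_zero.2 hp.out.ne_zero
  obtain ⟨θ, L⟩ := exists_localShape hP (by omega) hdeg
  set m := fun l => mult hP χ θ l with hm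
  set b := ∑ l, m l with hb
  set d := Char.degree θ with hd
  set e := Nat.card (autGroup P) with he
  have hbd : b * d = p - 2 := L.degree
  have hθ1 : θ.1 1 = (d : ℂ) := Char.apply_one_eq_degree θ
  have hχy : ∀ y : (P : Subgroup G), χ.1 (y : G) = comp χ θ y * θ.1 1 := fun y => by
    have h1 := L.factor y 1
    rwa [OneMemClass.coe_one, mul_one] at h1
  have hχV : ∀ v : Vsub P, χ.1 (v : G) = (b : ℂ) * θ.1 v := fun v => by
    have h1 := L.factor 1 v
    rwa [OneMemClass.coe_one, one_mul, comp_one hP] at h1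
  obtain ⟨n, ρ, hirr, hρ⟩ := χ.2
  have hn : n = p - 2 := by
    have h1 := congrFun hρ 1
    rw [ρ.char_one, Char.apply_one_eq_degree, hdeg, Module.finrank_fin_fun] at h1
    exact_mod_cast h1
  have hinjρ : Function.Injective ρ := by
    intro g g' h
    refine inv_mul_eq_one.1 (hfaith _ ?_)
    have h1 : ρ (g⁻¹ * g') = ρ 1 := by rw [map_mul, ← h, ← map_mul, inv_mul_cancel]
    rw [← hρ]
    simp only [Representation.character, h1]
  -- invariance
  have hminv : ∀ φ ∈ autGroup P, ∀ l, m (DefectOne.Coord.actE l φ) = m l := by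
    intro φ hφ l
    obtain ⟨k, rfl⟩ := hφ
    have h1 : classInner (comp χ θ) (DefectOne.Coord.actE l
        ((P : Subgroup G).normalizerMonoidHom k)).1 = classInner (comp χ θ) l.1 := by
      simp only [classInner]
      congr 1
      refine Fintype.sum_equiv ((P : Subgroup G).normalizerMonoidHom k).toEquiv _ _ fun y => ?_
      show comp χ θ y * conj (l.1 _) = comp χ θ ((P : Subgroup G).normalizerMonoidHom k y) * conj (l.1 _)
      rw [L.inv k y]
      rfl
    rw [mult_spec, mult_spec] at h1
    exact_mod_cast h1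
  -- a nontrivial constituent
  obtain ⟨μ, hμ1, hμ⟩ : ∃ μ, μ ≠ Char.trivialChar (P : Subgroup G) ∧ m μ ≠ 0 := by
    by_contra hcon
    push Not at hcon
    refine hnn ?_
    have htriv : ∀ y : (P : Subgroup G), (y : G) = 1 := fun y => hfaith _ (by
      rw [hχy, ← OneMemClass.coe_one (P : Subgroup G), hχy, comp_expand hP, comp_expand hP]
      congr 1
      refine Finset.sum_congr rfl fun l _ => ?_
      by_cases hl : l = Char.trivialChar _
      · rw [hl, Char.trivialChar_apply, Char.trivialChar_apply]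
      · rw [show mult hP χ θ l = 0 from hcon l hl, Nat.cast_zero, zero_mul, zero_mul])
    have hbot : (P : Subgroup G) = ⊥ := (Subgroup.eq_bot_iff_forall _).2 fun y hy => htriv ⟨y, hy⟩
    rw [hbot]; infer_instance
  set S := Finset.univ.filter fun l => mult hP χ θ l ≠ 0 with hS
  have heS : e ≤ S.card := by
    rw [he, ← DefectOne.Coord.card_orbit hP hμ1]
    refine Finset.card_le_card fun l hl => ?_
    obtain ⟨φ, hφ, rfl⟩ := (Finset.mem_filter.1 hl).2
    exact Finset.mem_filter.2 ⟨Finset.mem_univ _, (hminv φ hφ μ).trans_ne hμ⟩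
  have hSb : S.card ≤ b := by
    rw [Finset.card_eq_sum_ones]
    exact (Finset.sum_le_sum fun l hl => Nat.pos_of_ne_zero (Finset.mem_filter.1 hl).2).trans
      (Finset.sum_le_univ_sum_of_nonneg fun _ => Nat.zero_le _)
  -- the character of `V` is linear
  have hd1 : d = 1 := by
    by_contra hne
    have hdpos : 0 < d := Char.degree_pos θ
    have hodd : Odd (p - 2) := Nat.Odd.sub_even (by omega) (hp.out.odd_of_ne_two (by omega)) (by decide)
    have hd3 : 3 ≤ d := by
      have h2 : d ≠ 2 := fun h => by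
        rw [h] at hbd
        exact Nat.not_even_iff_odd.2 hodd ⟨b, by omega⟩
      omega
    have h3b : b * 3 ≤ p - 2 := hbd ▸ Nat.mul_le_mul_left b hd3
    obtain ⟨x, hx⟩ : ∃ x : (P : Subgroup G), x ≠ 1 := by
      haveI : Nontrivial (P : Subgroup G) :=
        Finite.one_lt_card_iff_nontrivial.1 (hp.out.one_lt.trans_le hP.ge)
      exact exists_ne 1
    have hxz : Subgroup.zpowers (x : G) = (P : Subgroup G) := by
      refine Subgroup.eq_of_le_of_card_ge (Subgroup.zpowers_le.2 x.2) ?_
      rw [Nat.card_zpowers, hP]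
      have hdd : orderOf (x : G) ∣ p := (Subgroup.orderOf_dvd_natCard _ x.2).trans (dvd_of_eq hP)
      rcases (Nat.dvd_prime hp.out).1 hdd with h | h
      · exact absurd (Subtype.ext (orderOf_eq_one_iff.1 h)) hx
      · exact h.ge
    have hroots : ∀ z ∈ S.image (fun l => l.1 x), z ^ p = 1 := by
      intro z hz
      obtain ⟨l, -, rfl⟩ := Finset.mem_image.1 hz
      obtain ⟨lam, hlam⟩ := DefectOne.Coord.exists_hom hP l
      have hxp : x ^ p = 1 := by
        have := pow_card_eq_one' (x := x)
        rwa [show Nat.card (P : Subgroup G) = p from hP] at this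
      rw [← hlam, ← map_pow, hxp, map_one]
    haveI : CharP (AlgebraicClosure (ZMod p)) p := inferInstance
    have h4 := le_two_mul_relIndex_of_eigenvalues (p := p) ρ hinjρ (by omega) (by omega) hP
      (not_sq_dvd hP) hnn hxz hroots
      (lt_of_le_of_lt (Nat.mul_le_mul_left 2 (Finset.card_image_le.trans hSb)) (by omega))
      (aeval_eq_zero hP χ θ L ρ hρ x)
    rw [show (Subgroup.centralizer ((P : Subgroup G) : Set G)).relIndex
      (Subgroup.normalizer ((P : Subgroup G) : Set G)) = e from (card_autGroup P).symm] at h4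
    omega
  have hb2 : b = p - 2 := by rw [← hbd, hd1, mul_one]
  -- Bessel
  have hpars : ∑ y : (P : Subgroup G), comp χ θ y * conj (comp χ θ y) =
      ((p * ∑ l, m l ^ 2 : ℕ) : ℂ) := by
    have h1 : ∀ y, conj (comp χ θ y) = ∑ l, (m l : ℂ) * conj (l.1 y) := fun y => by
      rw [comp_expand hP, map_sum]
      exact Finset.sum_congr rfl fun l _ => by rw [map_mul, map_natCast]
    simp only [h1, Finset.mul_sum]
    rw [Finset.sum_comm, Nat.cast_sum]
    push_cast
    refine Finset.sum_congr rfl fun l _ => ?_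
    have h2 : (m l : ℂ) * classInner (comp χ θ) l.1 = (m l : ℂ) * m l := by rw [mult_spec hP]
    rw [classInner, show Nat.card (P : Subgroup G) = p from hP] at h2
    rw [pow_two, ← h2, Finset.mul_sum, Finset.mul_sum, Finset.mul_sum]
    refine Finset.sum_congr rfl fun y _ => ?_
    field_simp
  have hbes : p * ∑ l, m l ^ 2 ≤ p * e + b * b := by
    have h2 : ((∑ y : (P : Subgroup G), ‖comp χ θ y‖ ^ 2 : ℝ) : ℂ) =
        (((p * ∑ l, m l ^ 2 : ℕ) : ℝ) : ℂ) := by
      rw [Complex.ofReal_natCast, ← hpars]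
      push_cast
      exact Finset.sum_congr rfl fun y _ => (Complex.mul_conj' _).symm
    have h3 := Complex.ofReal_inj.1 h2
    rw [← Finset.add_sum_erase _ _ (Finset.mem_univ (1 : (P : Subgroup G))), comp_one hP,
      Complex.norm_natCast] at h3
    have h4 : ∑ y ∈ Finset.univ.erase (1 : (P : Subgroup G)), ‖comp χ θ y‖ ^ 2 ≤ (p : ℝ) * e := by
      convert L.bessel using 3
    have h5 : ((p * ∑ l, m l ^ 2 : ℕ) : ℝ) ≤ ((p * e + b * b : ℕ) : ℝ) := by
      rw [← h3]
      push_cast
      have hbR : (∑ x, (mult hP χ θ x : ℝ)) = b := by rw [hb]; push_cast; rfl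
      rw [hbR, pow_two (b : ℝ)]
      linarith
    exact_mod_cast h5
  set M := m (Char.trivialChar (P : Subgroup G)) with hM
  set R := Finset.univ.erase (Char.trivialChar (P : Subgroup G)) with hR
  have hsplit1 : b = M + ∑ l ∈ R, m l := (Finset.add_sum_erase _ _ (Finset.mem_univ _)).symm
  have hsplit2 : ∑ l, m l ^ 2 = M ^ 2 + ∑ l ∈ R, m l ^ 2 :=
    (Finset.add_sum_erase _ _ (Finset.mem_univ _)).symm
  have hsq : ∑ l ∈ R, m l ^ 2 = ∑ l ∈ R, m l + ∑ l ∈ R, (m l ^ 2 - m l) := by
    rw [← Finset.sum_add_distrib]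
    refine Finset.sum_congr rfl fun l _ => (Nat.add_sub_cancel' ?_).symm
    exact Nat.le_self_pow two_ne_zero _
  set D := ∑ l ∈ R, (m l ^ 2 - m l) with hD
  obtain ⟨c, hc⟩ : e ∣ ∑ l ∈ R, m l := dvd_sum_of_invariant hP _ _ hminv
  have hepos : 0 < e := Nat.card_pos
  have hMsq : M ≤ M ^ 2 := Nat.le_self_pow two_ne_zero _
  -- `e ≤ M + 1` and `M ^ 2 - M + 2 ≤ e`
  have hkey : p * (M ^ 2 - M) + p * D + (2 * p - 4) ≤ p * e := by
    have h1 : p * ∑ l, m l ^ 2 = p * (M ^ 2 - M) + p * D + p * b := by
      rw [hsplit2, hsq, hsplit1, ← Nat.mul_add, ← Nat.mul_add]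
      congr 1
      omega
    have h2 : p * b = b * b + (2 * p - 4) := by
      rw [hb2]
      obtain ⟨k, rfl⟩ : ∃ k, p = k + 2 := ⟨p - 2, by omega⟩
      rw [Nat.add_sub_cancel, show 2 * (k + 2) - 4 = 2 * k by omega]
      ring
    omega
  have he2 : M ^ 2 - M + D + 2 ≤ e := by
    by_contra hlt
    have h1 : p * (e + 1) ≤ p * (M ^ 2 - M + D + 2) := Nat.mul_le_mul_left p (by omega)
    rw [Nat.mul_add, Nat.mul_add, Nat.mul_add, mul_one] at h1
    omega
  have hed : e ∣ M + 1 := by
    have h1 : M + 1 + ∑ l ∈ R, m l = p - 1 := by omega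
    have h2 : e ∣ p - 1 := DefectOne.Coord.card_dvd hP _
    rw [← h1, hc] at h2
    exact (Nat.dvd_add_iff_left (dvd_mul_right e c)).2 h2
  have hle : e ≤ M + 1 := Nat.le_of_dvd (Nat.succ_pos _) hed
  have hM1 : M = 1 := by
    rcases Nat.lt_or_ge M 2 with h | h
    · interval_cases M
      · omega
      · rfl
    · have : 2 * M ≤ M ^ 2 := by rw [pow_two]; exact Nat.mul_le_mul_right M h
      omega
  have he' : e = 2 := by rw [hM1] at he2 hle; omega
  refine ⟨he', ?_, fun v hv => ?_⟩
  · have h1 := mult_spec hP χ θ (Char.trivialChar (P : Subgroup G))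
    rw [show mult hP χ θ (Char.trivialChar _) = 1 from hM1, classInner,
      show Nat.card (P : Subgroup G) = p from hP, inv_mul_eq_iff_eq_mul₀ hp0, Nat.cast_one,
      mul_one] at h1
    rw [Finset.sum_congr rfl fun y _ => by rw [hχy y, hθ1, hd1, Nat.cast_one, mul_one]]
    rw [← h1]
    exact Finset.sum_congr rfl fun y _ => by rw [Char.trivialChar_apply, map_one, mul_one]
  · have hθ1' : θ.1 1 = 1 := by rw [hθ1, hd1, Nat.cast_one]
    obtain ⟨lam, hlam⟩ := Char.IsCharacter.exists_monoidHom (Char.irr_isCharacter θ) hθ1'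
    have hnorm : ‖θ.1 ⟨v, hv⟩‖ = 1 := by
      refine Complex.norm_eq_one_of_pow_eq_one (n := Nat.card (Vsub P)) ?_ Nat.card_pos.ne'
      rw [← hlam, ← map_pow, pow_card_eq_one', map_one]
    have h1 : ‖ρ.character v‖ = ‖ρ.character 1‖ := by
      rw [hρ, hχV ⟨v, hv⟩, norm_mul, hnorm, mul_one, hb2, Char.apply_one_eq_degree, hdeg]
    obtain ⟨z, hz⟩ := (CharInt.norm_eq_iff_scalar ρ v).1 h1
    rw [Subgroup.mem_center_iff]
    intro g
    apply hinjρ
    rw [map_mul, map_mul, hz, mul_smul_comm, smul_mul_assoc, one_mul, mul_one]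

end Cfsg.Agent.DegreePSubTwo
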