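import Cfsg.Agent.Lib.DegreePSubTwo.SmallModule
import Cfsg.Agent.Lib.DefectOne.BlockBrick
import Cfsg.Agent.Lib.DefectOne.PrimeCoord
import Cfsg.Agent.Lib.CharInt.Kazarin
import Cfsg.Agent.Lib.DefectOne.SelfCent

/-!
# The restriction of a small character to `C(P)`

For a character `χ` of degree `p - 2` the restriction to `C(P) = P × V` is `m ⊗ θ` for one
`N(P)`-invariant `θ`; the multiplicities satisfy Bessel's inequality against the columns of `P`.
-/

set_option autoImplicit false
set_option linter.style.haveILetI false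
set_option linter.unusedSectionVars false

namespace Cfsg.Agent.DegreePSubTwo

open Cfsg Cfsg.Agent DefectOne.Local
open scoped ComplexConjugate Classical

universe u

variable {G : Type u} [Group G] [Fintype G] {p : ℕ} [hp : Fact p.Prime] {P : Sylow p G}
  (hP : Nat.card P = p)

/-- The automorphisms induced by the normaliser. -/
noncomputable def autGroup (P : Sylow p G) : Subgroup (MulAut (P : Subgroup G)) :=
  (P : Subgroup G).normalizerMonoidHom.range

theorem card_autGroup (P : Sylow p G) :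
    Nat.card (autGroup P) = (Csub P).relIndex (Nsub P) := by
  rw [autGroup, ← Subgroup.index_ker, Subgroup.normalizerMonoidHom_ker]
  rfl

include hP

/-- The multiplicity of `l ⊗ θ` is natural. -/
theorem comp_nat (χ : IrrCharacter G) (θ : IrrCharacter (Vsub P))
    (l : IrrCharacter (P : Subgroup G)) : ∃ n : ℕ, classInner (comp χ θ) l.1 = n := by
  obtain ⟨n, hn⟩ := Char.IsCharacter.exists_nat_classInner
    (Char.IsCharacter.comp (Char.irr_isCharacter χ) ((Csub P).subtype.comp (prodEquiv hP).toMonoidHom))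
    (Char.irr_isCharacter (⟨_, Char.isIrrCharacter_prod_mul l.2 θ.2⟩ :
      IrrCharacter (↥(P : Subgroup G) × ↥(Vsub P))))
  refine ⟨n, ?_⟩
  rw [← hn]
  simp only [comp, classInner, Nat.card_prod, Nat.cast_mul, Fintype.sum_prod_type, map_mul,
    mul_inv, Finset.mul_sum, Finset.sum_mul]
  refine Finset.sum_congr rfl fun y _ => Finset.sum_congr rfl fun v _ => ?_
  show _ = _ * (χ.1 (prodEquiv hP (y, v) : G) * _)
  rw [prodEquiv_coe]
  ring

/-- The multiplicity of `l ⊗ θ` in `χ`. -/
noncomputable def mult (χ : IrrCharacter G) (θ : IrrCharacter (Vsub P))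
    (l : IrrCharacter (P : Subgroup G)) : ℕ := (comp_nat hP χ θ l).choose

theorem mult_spec (χ : IrrCharacter G) (θ : IrrCharacter (Vsub P))
    (l : IrrCharacter (P : Subgroup G)) : classInner (comp χ θ) l.1 = mult hP χ θ l :=
  (comp_nat hP χ θ l).choose_spec

theorem comp_expand (χ : IrrCharacter G) (θ : IrrCharacter (Vsub P)) (y : (P : Subgroup G)) :
    comp χ θ y = ∑ l : IrrCharacter (P : Subgroup G), (mult hP χ θ l : ℂ) * l.1 y := by
  have hcl : IsClassFunction (P : Subgroup G) (comp χ θ) := fun a b => by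
    rw [DefectOne.Coord.comm_of_card hP b a, mul_inv_cancel_right]
  have h1 := congrFun (Char.eq_sum_classInner_smul hcl) y
  simp only [Finset.sum_apply, Pi.smul_apply, smul_eq_mul] at h1
  rw [h1]
  exact Finset.sum_congr rfl fun l _ => by rw [mult_spec]

theorem comp_one (χ : IrrCharacter G) (θ : IrrCharacter (Vsub P)) :
    comp χ θ 1 = ((∑ l, mult hP χ θ l : ℕ) : ℂ) := by
  rw [comp_expand hP, Nat.cast_sum]
  exact Finset.sum_congr rfl fun l _ => by rw [DefectOne.Coord.linear hP, mul_one]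

/-- The data of the restriction to `C(P)`. -/
structure LocalShape (χ : IrrCharacter G) (θ : IrrCharacter (Vsub P)) : Prop where
  factor : ∀ (y : (P : Subgroup G)) (v : Vsub P), χ.1 ((y : G) * v) = comp χ θ y * θ.1 v
  degree : (∑ l, mult hP χ θ l) * Char.degree θ = p - 2
  inv : ∀ (n : Nsub P) (y : (P : Subgroup G)),
    comp χ θ ((P : Subgroup G).normalizerMonoidHom n y) = comp χ θ y
  bessel : ∑ y ∈ Finset.univ.erase (1 : (P : Subgroup G)), ‖comp χ θ y‖ ^ 2 ≤
    (p : ℝ) * Nat.card (autGroup P)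

theorem exists_localShape (h5 : 5 ≤ p) {χ : IrrCharacter G} (hdeg : Char.degree χ = p - 2) :
    ∃ θ : IrrCharacter (Vsub P), LocalShape hP χ θ := by
  have hpC : (p : ℂ) ≠ 0 := Nat.cast_ne_zero.2 hp.out.ne_zero
  obtain ⟨M, hM⟩ := CharInt.exists_isPModular_of_prime hp.out
  haveI := hM.2.1
  have hpM : (p : AlgInt) ∈ M := by exact_mod_cast hM.2.2
  have hdegsum : ∀ (y : (P : Subgroup G)),
      χ.1 (y : G) = ∑ θ' : IrrCharacter (Vsub P), comp χ θ' y * Char.degree θ' := fun y => by
    have h1 := apply_eq (P := P) χ y 1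
    rw [OneMemClass.coe_one, mul_one] at h1
    rw [h1]
    exact Finset.sum_congr rfl fun θ' _ => by rw [Char.apply_one_eq_degree]
  -- a component not vanishing on `P - 1`
  obtain ⟨θ, y₀, hy₀, hθy⟩ : ∃ (θ : IrrCharacter (Vsub P)) (y : (P : Subgroup G)),
      y ≠ 1 ∧ comp χ θ y ≠ 0 := by
    by_contra hcon
    push Not at hcon
    obtain ⟨N, hN⟩ := DefectOne.exists_sum_eq_mul hP χ
    rw [DefectOne.sum_split, Finset.sum_eq_zero fun y hy => by
      rw [hdegsum y, Finset.sum_eq_zero fun θ' _ => by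
        rw [hcon θ' y (Finset.ne_of_mem_erase hy), zero_mul]], add_zero, hdeg] at hN
    have h1 : p - 2 = p * N := by exact_mod_cast hN
    rcases Nat.eq_zero_or_pos N with h | h
    · rw [h, mul_zero] at h1; omega
    · have := Nat.le_mul_of_pos_right p h; omega
  set B : Set (IrrCharacter G) := blockOf M χ.1 with hBdef
  have hχB : χ ∈ B := fun _ => by rw [sub_self]; exact Blocks.memLocalIdeal_zero
  have hB : IsPBlock M B := Blocks.isPBlock_blockOf χ
  have hθB : θ ∈ indSet hP M B := by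
    by_contra hn
    have h := comp_orth_self hP hpM hB hy₀ θ θ
    rw [if_neg fun hh => hn hh.2] at h
    have h2 : ∑ ψ ∈ Finset.univ.filter (· ∈ B), Complex.normSq (comp ψ θ y₀) = 0 := by
      rw [← Complex.ofReal_eq_zero, Complex.ofReal_sum, ← h]
      exact Finset.sum_congr rfl fun ψ _ => (Complex.mul_conj _).symm
    exact hθy (Complex.normSq_eq_zero.1 ((Finset.sum_eq_zero_iff_of_nonneg
      fun ψ _ => Complex.normSq_nonneg _).1 h2 χ (Finset.mem_filter.2 ⟨Finset.mem_univ _, hχB⟩)))
  -- the degree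
  set b : IrrCharacter (Vsub P) → ℕ := fun θ' => ∑ l, mult hP χ θ' l
  have htot : ∑ θ', b θ' * Char.degree θ' = p - 2 := by
    have h1 := hdegsum 1
    rw [Subgroup.coe_one, Char.apply_one_eq_degree, hdeg] at h1
    simp only [comp_one hP] at h1
    exact_mod_cast h1.symm
  have hout : ∀ θ', θ' ∉ orb hP θ → ∀ y, comp χ θ' y = 0 := by
    intro θ' hθ'
    have hz : ∀ y, y ≠ 1 → comp χ θ' y = 0 := fun y hy => comp_eq_zero hP hpM hθB hχB hθ' hy
    suffices h1 : comp χ θ' 1 = 0 by
      intro y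
      by_cases hy : y = 1
      · rw [hy, h1]
      · exact hz y hy
    rw [comp_one hP]
    have hm : ∀ l, (p : ℂ) * mult hP χ θ' l = ((b θ' : ℕ) : ℂ) := fun l => by
      rw [← mult_spec hP, classInner, hP, ← mul_assoc, mul_inv_cancel₀ hpC, one_mul,
        Finset.sum_eq_single_of_mem (1 : (P : Subgroup G)) (Finset.mem_univ _) fun y _ hy => by
          rw [hz y hy, zero_mul], comp_one hP, DefectOne.Coord.linear hP, map_one, mul_one]
    have hm' : p * mult hP χ θ' (Char.trivialChar _) = b θ' := by exact_mod_cast hm _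
    have hle : b θ' * 1 ≤ p - 2 := (Nat.mul_le_mul_left _ (Char.degree_pos θ')).trans
      (htot ▸ Finset.single_le_sum (f := fun x => b x * Char.degree x) (fun x _ => Nat.zero_le _)
        (Finset.mem_univ θ'))
    have h0 : mult hP χ θ' (Char.trivialChar _) = 0 := by
      by_contra hne
      have := Nat.le_mul_of_pos_right p (Nat.pos_of_ne_zero hne)
      omega
    rw [h0, mul_zero] at hm'
    rw [show (∑ l, mult hP χ θ' l) = b θ' from rfl, ← hm', Nat.cast_zero]
  have horb : ∀ θ' ∈ orb hP θ, b θ' = b θ ∧ Char.degree θ' = Char.degree θ := by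
    intro θ' h
    obtain ⟨n, rfl⟩ := (mem_orb hP).1 h
    constructor
    · have h1 := comp_conj hP χ θ n 1 1 (by simp)
      rw [comp_one hP, comp_one hP] at h1
      exact_mod_cast h1.symm
    · have h1 := thetaN_apply_one hP θ n
      rw [Char.apply_one_eq_degree, Char.apply_one_eq_degree] at h1
      exact_mod_cast h1
  have hprod : (orb hP θ).card * (b θ * Char.degree θ) = p - 2 := by
    rw [← htot, ← Finset.sum_subset (Finset.subset_univ (orb hP θ)) fun θ' _ h => by
      have h1 := hout θ' h 1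
      rw [comp_one hP] at h1
      rw [show b θ' = 0 by exact_mod_cast h1, zero_mul],
      Finset.sum_congr rfl fun θ' h => by rw [(horb θ' h).1, (horb θ' h).2],
      Finset.sum_const, smul_eq_mul]
  have hdvd : (orb hP θ).card ∣ p - 1 := by
    letI : MulAction (Nsub P) (IrrCharacter (Vsub P)) :=
      { smul := fun n θ' => thetaN hP θ' n⁻¹
        one_smul := fun θ' => by
          show thetaN hP θ' (1 : Nsub P)⁻¹ = θ'
          rw [inv_one, thetaN_one hP]
        mul_smul := fun a c θ' => by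
          show thetaN hP θ' (a * c)⁻¹ = thetaN hP (thetaN hP θ' c⁻¹) a⁻¹
          rw [thetaN_mul hP, mul_inv_rev] }
    have horb' : (orb hP θ : Set (IrrCharacter (Vsub P))) = MulAction.orbit (Nsub P) θ := by
      ext θ'
      rw [Finset.mem_coe, mem_orb hP]
      constructor
      · rintro ⟨n, rfl⟩
        exact ⟨n⁻¹, show thetaN hP θ n⁻¹⁻¹ = _ by rw [inv_inv]⟩
      · rintro ⟨n, rfl⟩
        exact ⟨n⁻¹, rfl⟩
    rw [← Nat.card_eq_finsetCard, show Nat.card (orb hP θ) =
        Nat.card (MulAction.orbit (Nsub P) θ) from Nat.card_congr (Equiv.setCongr horb'),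
      ← Nat.card_congr (MulAction.orbitEquivQuotientStabilizer (Nsub P) θ).symm,
      ← Subgroup.index_eq_card]
    refine (Subgroup.index_dvd_of_le (H := (Csub P).subgroupOf (Nsub P)) fun n hn => ?_).trans ?_
    · show thetaN hP θ n⁻¹ = θ
      exact thetaN_centralizer hP θ n⁻¹ (inv_mem hn)
    · show (Csub P).relIndex (Nsub P) ∣ p - 1
      rw [← card_autGroup]
      exact DefectOne.Coord.card_dvd hP _
  have horb1 : (orb hP θ).card = 1 := by
    have h2 : (orb hP θ).card ∣ p - 2 := Dvd.intro _ hprod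
    have h3 := Nat.dvd_sub hdvd h2
    rwa [show p - 1 - (p - 2) = 1 by omega, Nat.dvd_one] at h3
  have hfix : ∀ n : Nsub P, thetaN hP θ n = θ := fun n =>
    (Finset.card_eq_one.1 horb1).elim fun a ha => by
      have h1 : thetaN hP θ n ∈ orb hP θ := (mem_orb hP).2 ⟨n, rfl⟩
      have h2 := self_mem_orb hP θ
      rw [ha, Finset.mem_singleton] at h1 h2
      rw [h1, ← h2]
  have hinv : ∀ (n : Nsub P) (y : (P : Subgroup G)),
      comp χ θ ((P : Subgroup G).normalizerMonoidHom n y) = comp χ θ y := fun n y => by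
    rw [comp_conj hP χ θ n y _ rfl, hfix]
  refine ⟨θ, fun y v => ?_, by rw [horb1, one_mul] at hprod; exact hprod, hinv, ?_⟩
  · have hne' : ∀ θ', θ' ≠ θ → θ' ∉ orb hP θ := fun θ' hne h => by
      obtain ⟨n, rfl⟩ := (mem_orb hP).1 h
      exact hne (hfix n)
    rw [apply_eq (P := P) χ y v, Finset.sum_eq_single θ (fun θ' _ hne => by
      rw [hout θ' (hne' θ' hne) y, zero_mul]) (by simp)]
  -- Bessel
  set S := Finset.univ.erase (1 : (P : Subgroup G))
  set E := Finset.univ.filter fun φ : MulAut (P : Subgroup G) => φ ∈ autGroup P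
  set F : IrrCharacter G → ℂ := fun ψ => ∑ y ∈ S, comp ψ θ y * conj (comp χ θ y)
  have hcol : ∀ y ∈ S, ∀ y' ∈ S, ∑ ψ ∈ Finset.univ.filter (· ∈ B),
      comp ψ θ y * conj (comp ψ θ y') = if ∃ φ ∈ autGroup P, φ y = y' then (p : ℂ) else 0 := by
    intro y hy y' hy'
    have hy1 := Finset.ne_of_mem_erase hy
    by_cases h : ∃ φ ∈ autGroup P, φ y = y'
    · rw [if_pos h]
      obtain ⟨φ, ⟨n, rfl⟩, rfl⟩ := h
      rw [Finset.sum_congr rfl fun ψ _ => show
        comp ψ θ y * conj (comp ψ θ ((P : Subgroup G).normalizerMonoidHom n y)) =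
          comp ψ θ y * conj (comp ψ θ y) by rw [comp_conj hP ψ θ n y ((P : Subgroup G).normalizerMonoidHom n y) rfl, hfix],
        comp_orth_self hP hpM hB hy1 θ θ, if_pos ⟨rfl, hθB⟩]
    · rw [if_neg h]
      refine comp_orth_ne hP hpM hB (fun hc => h ?_) θ θ
      obtain ⟨g, hg⟩ := isConj_iff.1 hc
      have hz : ∀ a : (P : Subgroup G), a ≠ 1 → Subgroup.zpowers (a : G) = (P : Subgroup G) := by
        intro a ha
        refine Subgroup.eq_of_le_of_card_ge (Subgroup.zpowers_le.2 a.2) ?_
        rw [Nat.card_zpowers, hP]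
        have hd : orderOf (a : G) ∣ p := (Subgroup.orderOf_dvd_natCard _ a.2).trans (dvd_of_eq hP)
        rcases (Nat.dvd_prime hp.out).1 hd with h | h
        · exact absurd (Subtype.ext (orderOf_eq_one_iff.1 h)) ha
        · exact h.ge
      have hgN : g ∈ Nsub P := by
        show g ∈ Subgroup.normalizer ((P : Subgroup G) : Set G)
        rw [Subgroup.mem_normalizer_iff_map_conj_eq]
        have h1 : (Subgroup.zpowers (y : G)).map (MulAut.conj g).toMonoidHom =
            Subgroup.zpowers (y' : G) := by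
          rw [MonoidHom.map_zpowers]
          congr 1
        rw [hz y hy1, hz y' (Finset.ne_of_mem_erase hy')] at h1
        exact h1
      exact ⟨_, ⟨⟨g, hgN⟩, rfl⟩, Subtype.ext hg⟩
  set Q : ℝ := ∑ y ∈ S, ‖comp χ θ y‖ ^ 2 with hQ
  have hFχ : F χ = (Q : ℂ) := by
    simp only [F, hQ, Complex.ofReal_sum, Complex.ofReal_pow]
    exact Finset.sum_congr rfl fun y _ => Complex.mul_conj' _
  have hQ0 : 0 ≤ Q := Finset.sum_nonneg fun y _ => sq_nonneg _
  have hcount : ∀ y ∈ S, ((S.filter fun y' => ∃ φ ∈ autGroup P, φ y = y').card : ℝ) ≤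
      Nat.card (autGroup P) := by
    intro y _
    have h1 : (S.filter fun y' => ∃ φ ∈ autGroup P, φ y = y') ⊆ E.image fun φ => φ y := by
      intro y' hy'
      obtain ⟨φ, hφ, rfl⟩ := (Finset.mem_filter.1 hy').2
      exact Finset.mem_image.2 ⟨φ, Finset.mem_filter.2 ⟨Finset.mem_univ _, hφ⟩, rfl⟩
    have h2 : E.card = Nat.card (autGroup P) := by
      rw [Nat.card_eq_fintype_card, ← Fintype.card_subtype]
    exact_mod_cast (Finset.card_le_card h1).trans (Finset.card_image_le.trans h2.le)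
  have hsum : ((∑ ψ ∈ Finset.univ.filter (· ∈ B), ‖F ψ‖ ^ 2 : ℝ) : ℂ) =
      (((p : ℝ) * ∑ y ∈ S, ((S.filter fun y' => ∃ φ ∈ autGroup P, φ y = y').card : ℝ) *
        ‖comp χ θ y‖ ^ 2 : ℝ) : ℂ) := by
    push_cast
    calc ∑ ψ ∈ Finset.univ.filter (· ∈ B), (‖F ψ‖ : ℂ) ^ 2
        = ∑ ψ ∈ Finset.univ.filter (· ∈ B), ∑ y ∈ S, ∑ y' ∈ S,
            conj (comp χ θ y) * comp χ θ y' * (comp ψ θ y * conj (comp ψ θ y')) := by
          refine Finset.sum_congr rfl fun ψ _ => ?_
          rw [← Complex.mul_conj']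
          simp only [F, map_sum, map_mul, Complex.conj_conj, Finset.sum_mul_sum]
          exact Finset.sum_congr rfl fun y _ => Finset.sum_congr rfl fun y' _ => by ring
      _ = ∑ y ∈ S, ∑ y' ∈ S, conj (comp χ θ y) * comp χ θ y' *
            ∑ ψ ∈ Finset.univ.filter (· ∈ B), comp ψ θ y * conj (comp ψ θ y') := by
          simp only [Finset.mul_sum]
          rw [Finset.sum_comm]
          exact Finset.sum_congr rfl fun y _ => Finset.sum_comm
      _ = (p : ℂ) * ∑ y ∈ S, ((S.filter fun y' => ∃ φ ∈ autGroup P, φ y = y').card : ℂ) *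
            (‖comp χ θ y‖ : ℂ) ^ 2 := by
          rw [Finset.mul_sum]
          refine Finset.sum_congr rfl fun y hy => ?_
          rw [Finset.sum_congr rfl fun y' hy' => show conj (comp χ θ y) * comp χ θ y' *
              (∑ ψ ∈ Finset.univ.filter (· ∈ B), comp ψ θ y * conj (comp ψ θ y')) =
              if ∃ φ ∈ autGroup P, φ y = y' then (p : ℂ) * (‖comp χ θ y‖ : ℂ) ^ 2 else 0 by
            rw [hcol y hy y' hy']
            split_ifs with h
            · obtain ⟨φ, ⟨n, rfl⟩, rfl⟩ := h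
              rw [hinv n y, mul_comm (conj (comp χ θ y)), Complex.mul_conj']
              ring
            · rw [mul_zero],
            ← Finset.sum_filter, Finset.sum_const, nsmul_eq_mul]
          ring
  have hsum' := Complex.ofReal_inj.1 hsum
  have h1 : ‖F χ‖ ^ 2 ≤ ∑ ψ ∈ Finset.univ.filter (· ∈ B), ‖F ψ‖ ^ 2 :=
    Finset.single_le_sum (f := fun ψ => ‖F ψ‖ ^ 2) (fun ψ _ => sq_nonneg _)
      (Finset.mem_filter.2 ⟨Finset.mem_univ _, hχB⟩)
  rw [hsum', hFχ, Complex.norm_real, Real.norm_of_nonneg hQ0] at h1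
  have h2 : (p : ℝ) * ∑ y ∈ S, ((S.filter fun y' => ∃ φ ∈ autGroup P, φ y = y').card : ℝ) *
      ‖comp χ θ y‖ ^ 2 ≤ (p : ℝ) * Nat.card (autGroup P) * Q := by
    rw [mul_assoc]
    refine mul_le_mul_of_nonneg_left ?_ (Nat.cast_nonneg p)
    rw [hQ, Finset.mul_sum]
    exact Finset.sum_le_sum fun y hy => mul_le_mul_of_nonneg_right (hcount y hy) (sq_nonneg _)
  rcases eq_or_lt_of_le hQ0 with h | h
  · rw [← h]; positivity
  · refine le_of_mul_le_mul_right ?_ h
    rw [← pow_two]
    exact h1.trans h2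

end Cfsg.Agent.DegreePSubTwo
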