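import Cfsg.Agent.Lib.DegreePSubTwo.Values
import Cfsg.Agent.Lib.SmallSimple.Basic

/-!
# The structure of a group with a faithful exceptional character of degree `p - 2`

`|G| = p (p - 1) (p - 2)`, every element of even order is an involution, the involutions form one
class and their centralisers have order `p - 1`.
-/

set_option autoImplicit false
set_option linter.style.haveILetI false
set_option linter.unusedSectionVars false

namespace Cfsg.Agent.DegreePSubTwo

open Cfsg Cfsg.Agent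
open scoped ComplexConjugate Classical

universe u

variable {G : Type u} [Group G] [Fintype G]

/-- The sum of a character over the powers of an element, twisted by a sign, is a multiple of the
order. -/
theorem exists_sum_powers {f : G → ℂ} (hf : IsCharacter G f) {g : G} {m : ℕ}
    (hm : orderOf g = m) {s : ℂ} (hs : s ^ m = 1) :
    ∃ N : ℕ, ∑ j ∈ Finset.range m, s ^ j * f (g ^ j) = (m : ℂ) * N := by
  obtain ⟨n, μ, -, hμ, hk⟩ := CharInt.exists_roots hf g
  refine ⟨(Finset.univ.filter fun i => s * μ i = 1).card, ?_⟩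
  have h1 : ∀ i, ∑ j ∈ Finset.range m, s ^ j * μ i ^ j = if s * μ i = 1 then (m : ℂ) else 0 := by
    intro i
    simp only [← mul_pow]
    split_ifs with h
    · simp [h]
    · rw [geom_sum_eq h, mul_pow, hs, ← hm, hμ i, mul_one, sub_self, zero_div]
  simp only [hk, Finset.mul_sum]
  rw [Finset.sum_comm, Finset.sum_congr rfl fun i _ => h1 i, ← Finset.sum_filter, Finset.sum_const,
    nsmul_eq_mul, mul_comm]

/-- `‖(ρ(g) - 1)²‖² ≥ 0`. -/
theorem positivity {f : G → ℂ} (hf : IsCharacter G f) (g : G) :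
    0 ≤ 6 * (f 1).re - 8 * (f g).re + 2 * (f (g ^ 2)).re := by
  obtain ⟨n, μ, h1, hμ, hk⟩ := CharInt.exists_roots hf g
  have hg := hk 1
  rw [pow_one] at hg
  rw [h1, hg, hk 2, Complex.re_sum, Complex.re_sum, Complex.natCast_re]
  have hsum : (6 : ℝ) * n = ∑ _i : Fin n, (6 : ℝ) := by simp [mul_comm]
  rw [hsum, Finset.mul_sum, Finset.mul_sum, ← Finset.sum_sub_distrib, ← Finset.sum_add_distrib]
  refine Finset.sum_nonneg fun i _ => ?_
  have hn : ‖μ i‖ = 1 := Complex.norm_eq_one_of_pow_eq_one (hμ i) (orderOf_pos g).ne'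
  have h2 : Complex.normSq (μ i) = 1 := by rw [Complex.normSq_eq_norm_sq, hn, one_pow]
  rw [Complex.normSq_apply] at h2
  simp only [pow_one, pow_two, Complex.mul_re]
  nlinarith [sq_nonneg ((μ i).re - 1)]

/-- A character takes on a subgroup values with total a multiple of its order. -/
theorem dvd_sum_subgroup {f : G → ℂ} (hf : IsCharacter G f) (X : Subgroup G) :
    ∃ n : ℕ, ∑ x : X, f x = (Nat.card X : ℂ) * n := by
  obtain ⟨n, hn⟩ := Char.IsCharacter.exists_nat_classInner
    (Char.IsCharacter.restrict hf X) (Char.irr_isCharacter (Char.trivialChar X))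
  refine ⟨n, ?_⟩
  rw [← hn, classInner, show (Char.trivialChar X).1 = fun _ => (1 : ℂ) from rfl]
  simp

variable {p : ℕ} [hp : Fact p.Prime]
variable {P : Sylow p G} {θ₀ : IrrCharacter G} (B : Block P θ₀)

/-- The integer value of the exceptional characters at a regular element. -/
noncomputable def Block.val (g : G) : ℤ :=
  if hg : IsPRegular p g then (B.exists_int hg).choose else 0

theorem Block.val_spec {g : G} (hg : IsPRegular p g) :
    -1 ≤ B.val g ∧ θ₀.1 g = B.val g := by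
  rw [Block.val, dif_pos hg]
  exact ⟨(B.exists_int hg).choose_spec.1, (B.exists_int hg).choose_spec.2 θ₀ B.θ₀_mem⟩

include B in
theorem Block.isPRegular_sq {g : G} (hg : IsPRegular p g) : IsPRegular p (g ^ 2) := by
  intro h
  exact hg (h.trans (orderOf_pow_dvd 2))

theorem Block.val_one : B.val 1 = (p : ℤ) - 2 := by
  have h5 := B.five
  have h1 := (B.val_spec (g := (1 : G)) (by simp [IsPRegular, hp.out.ne_one])).2
  rw [Char.apply_one_eq_degree, B.deg_Y θ₀ B.θ₀_mem] at h1
  have : B.val 1 = ((p - 2 : ℕ) : ℤ) := by exact_mod_cast h1.symm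
  omega

theorem Block.val_sq {g : G} (hg : IsPRegular p g) :
    B.val (g ^ 2) = B.val g * (B.val g - ((p : ℤ) - 3)) := by
  have h5 := B.five
  have h1 := B.apply_sq B.θ₀_mem hg
  rw [(B.val_spec hg).2, (B.val_spec (B.isPRegular_sq hg)).2] at h1
  have hc : ((p - 3 : ℕ) : ℂ) = (((p : ℤ) - 3 : ℤ) : ℂ) := by
    rw [Nat.cast_sub (show 3 ≤ p by omega)]; push_cast; ring
  rw [hc] at h1
  exact_mod_cast h1

variable (hf : ∀ g : G, θ₀.1 g = θ₀.1 1 → g = 1)

include hf in
theorem Block.eq_one_of_val {g : G} (hg : IsPRegular p g) (h : B.val g = (p : ℤ) - 2) : g = 1 := by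
  refine hf g ?_
  rw [(B.val_spec hg).2, (B.val_spec (g := (1 : G)) (by simp [IsPRegular, hp.out.ne_one])).2, h,
    B.val_one]

theorem Block.val_le {g : G} (hg : IsPRegular p g) : B.val g ≤ (p : ℤ) - 2 := by
  have h5 := B.five
  have h1 := CharInt.norm_char_le (Char.irr_isCharacter θ₀) g
  rw [(B.val_spec hg).2, Char.apply_one_eq_degree, B.deg_Y θ₀ B.θ₀_mem, Complex.norm_intCast,
    Complex.norm_natCast] at h1
  have h2 : ((B.val g : ℤ) : ℝ) ≤ ((((p - 2 : ℕ) : ℤ)) : ℝ) := by
    push_cast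
    exact (le_abs_self _).trans h1
  have h3 : B.val g ≤ ((p - 2 : ℕ) : ℤ) := by exact_mod_cast h2
  omega

include hf in
/-- The possible values. -/
theorem Block.val_cases {g : G} (hg : IsPRegular p g) (hg1 : g ≠ 1) :
    (B.val g = -1 ∧ g ^ 2 = 1) ∨
      ((B.val g = 0 ∨ B.val g = (p : ℤ) - 3) ∧ g ^ 2 ≠ 1 ∧ B.val (g ^ 2) = 0) ∨
      (p = 5 ∧ B.val g = 1 ∧ g ^ 2 ≠ 1 ∧ g ^ 4 = 1 ∧ B.val (g ^ 2) = -1) := by
  have h5 : (5 : ℤ) ≤ p := by exact_mod_cast B.five
  have hsq := B.val_sq hg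
  have hlo := (B.val_spec hg).1
  have hlo2 := (B.val_spec (B.isPRegular_sq hg)).1
  have hup := B.val_le hg
  have hne : B.val g ≠ (p : ℤ) - 2 := fun h => hg1 (B.eq_one_of_val hf hg h)
  have hcases : B.val g = -1 ∨ B.val g = 0 ∨ B.val g = (p : ℤ) - 3 ∨ (B.val g = 1 ∧ (p : ℤ) = 5) := by
    by_contra hcon
    push Not at hcon
    obtain ⟨a, b, c, d⟩ := hcon
    have h1 := mul_nonneg (show (0 : ℤ) ≤ B.val g - 1 by omega)
      (show (0 : ℤ) ≤ (p : ℤ) - 4 - B.val g by omega)
    have h2 : (p : ℤ) ≤ 5 := by nlinarith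
    exact d (by omega) (by omega)
  have hne1 : B.val (g ^ 2) ≠ (p : ℤ) - 2 → g ^ 2 ≠ 1 := fun h e => h (by rw [e, B.val_one])
  rcases hcases with h | h | h | ⟨h, hp5⟩
  · refine Or.inl ⟨h, B.eq_one_of_val hf (B.isPRegular_sq hg) ?_⟩
    rw [hsq, h]; ring
  iterate 2
    have h0 : B.val (g ^ 2) = 0 := by rw [hsq, h]; ring
    exact Or.inr (Or.inl ⟨by omega, hne1 (by omega), h0⟩)
  have h0 : B.val (g ^ 2) = -1 := by rw [hsq, h, hp5]; norm_num
  refine Or.inr (Or.inr ⟨by omega, h, hne1 (by omega), ?_, h0⟩)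
  refine B.eq_one_of_val hf (fun h' => hg (h'.trans (orderOf_pow_dvd 4))) ?_
  rw [show g ^ 4 = (g ^ 2) ^ 2 by rw [← pow_mul], B.val_sq (B.isPRegular_sq hg), h0]
  ring

include B in
theorem Block.isPRegular_of_two_dvd {g : G} (hg : 2 ∣ orderOf g) : IsPRegular p g := by
  intro hpg
  obtain ⟨x, hx, hx1⟩ := exists_conj_mem B.sc (fun h => h hpg)
  have h1 : orderOf (x⁻¹ * g * x) ∣ p := B.sc.card ▸ Subgroup.orderOf_dvd_natCard _ hx
  have h2 : orderOf (x⁻¹ * g * x) = orderOf g := by
    rw [show x⁻¹ * g * x = MulAut.conj x⁻¹ g by simp, MulEquiv.orderOf_eq]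
  rw [h2] at h1
  have := hg.trans h1
  have h5 := B.five
  rcases (Nat.dvd_prime hp.out).1 this with h | h <;> omega

include hf in
theorem Block.val_involution {z : G} (hz : orderOf z = 2) : B.val z = -1 := by
  have hreg : IsPRegular p z := B.isPRegular_of_two_dvd (by rw [hz])
  have hz1 : z ≠ 1 := fun e => by rw [e, orderOf_one] at hz; omega
  have hz2 : z ^ 2 = 1 := by rw [← hz, pow_orderOf_eq_one]
  rcases B.val_cases hf hreg hz1 with ⟨h, -⟩ | ⟨-, h, -⟩ | ⟨-, -, h, -, -⟩
  · exact h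
  all_goals exact absurd hz2 h

include hf in
theorem Block.val_ne_of_odd {g : G} (hg : IsPRegular p g) (hodd : Odd (orderOf g)) (hg1 : g ≠ 1) :
    B.val g = 0 := by
  have h5 : (5 : ℤ) ≤ p := by exact_mod_cast B.five
  have hcop : Nat.Coprime 2 (orderOf g) := Nat.coprime_two_left.2 hodd
  have hne1 : ∀ {i : ℕ}, g ^ (2 ^ i) ≠ 1 := fun {i} h => hg1 (by
    have h1 : orderOf g ∣ 2 ^ i := orderOf_dvd_of_pow_eq_one h
    exact orderOf_eq_one_iff.1 (Nat.Coprime.eq_one_of_dvd (Nat.Coprime.pow_right i hcop.symm) h1))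
  have hregi : ∀ i : ℕ, IsPRegular p (g ^ (2 ^ i)) := fun i h => hg (h.trans (orderOf_pow_dvd _))
  have hzero : ∀ i : ℕ, B.val (g ^ (2 ^ (i + 1))) = 0 := by
    intro i
    have e : g ^ (2 ^ (i + 1)) = (g ^ (2 ^ i)) ^ 2 := by rw [← pow_mul, pow_succ]
    rw [e]
    rcases B.val_cases hf (hregi i) hne1 with ⟨-, h⟩ | ⟨-, -, h⟩ | ⟨-, -, -, h, -⟩
    · rw [← e] at h; exact absurd h hne1
    · exact h
    · rw [← pow_mul, show 2 ^ i * 4 = 2 ^ (i + 2) by rw [pow_add]; norm_num] at h
      exact absurd h hne1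
  obtain ⟨k, hk, hk0⟩ : ∃ k, g ^ (2 ^ (k + 1)) = g ∧ True := by
    refine ⟨(orderOf g).totient - 1, ?_, trivial⟩
    rw [Nat.sub_add_cancel (Nat.totient_pos.2 (orderOf_pos g))]
    conv_rhs => rw [← pow_one g]
    rw [pow_eq_pow_iff_modEq]
    exact Nat.ModEq.pow_totient hcop
  rw [← hk]
  exact hzero k

include hf in
/-- Involutions and the values `p - 3` on the powers of an element of even order. -/
theorem Block.even_order {g : G} (hg : 2 ∣ orderOf g) (h4 : ¬ 4 ∣ orderOf g) :
    ∃ K l : ℕ, orderOf g = 2 * l ∧ B.val (g ^ l) = -1 ∧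
      (∃ a : ℕ, (2 * l : ℤ) * a = (p : ℤ) - 3 + ((p : ℤ) - 3) * K) ∧
      (∃ b : ℕ, (2 * l : ℤ) * b = (p : ℤ) - 1 - ((p : ℤ) - 3) * K) ∧
      K = ((Finset.range (2 * l)).filter fun j => B.val (g ^ j) = (p : ℤ) - 3).card := by
  have h5 : (5 : ℤ) ≤ p := by exact_mod_cast B.five
  obtain ⟨l, hl⟩ := hg
  have hl0 : 0 < l := by have := orderOf_pos g; omega
  have hlodd : Odd l := Nat.not_even_iff_odd.1 fun ⟨c, hc⟩ =>
    h4 ⟨c, by rw [hl, hc]; ring⟩
  have hgreg : IsPRegular p g := B.isPRegular_of_two_dvd ⟨l, hl⟩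
  have hreg : ∀ j, IsPRegular p (g ^ j) := fun j h => hgreg (h.trans (orderOf_pow_dvd _))
  have hzord : orderOf (g ^ l) = 2 := by
    rw [orderOf_pow_of_dvd hl0.ne' ⟨2, by rw [hl, mul_comm]⟩, hl, Nat.mul_div_cancel _ hl0]
  have hz := B.val_involution hf hzord
  refine ⟨_, l, hl, hz, ?_, ?_, rfl⟩
  all_goals set J := (Finset.range (2 * l)).filter fun j => B.val (g ^ j) = (p : ℤ) - 3 with hJ
  all_goals
    have hjodd : ∀ j ∈ J, Odd j := by
      intro j hj
      rw [hJ, Finset.mem_filter, Finset.mem_range] at hj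
      refine Nat.not_even_iff_odd.1 fun ⟨c, hc⟩ => ?_
      have hj0 : j ≠ 0 := fun e => by rw [e, pow_zero, B.val_one] at hj; omega
      have h1 : g ^ j ≠ 1 := pow_ne_one_of_lt_orderOf hj0 (by rw [hl]; exact hj.1)
      have h2 : Odd (orderOf (g ^ j)) := by
        refine Odd.of_dvd_nat hlodd (orderOf_dvd_of_pow_eq_one ?_)
        rw [← pow_mul, hc, show (c + c) * l = 2 * l * c by ring, pow_mul, ← hl, pow_orderOf_eq_one,
          one_pow]
      have h3 := B.val_ne_of_odd hf (hreg j) h2 h1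
      omega
    have hvals : ∀ j ∈ Finset.range (2 * l), B.val (g ^ j) =
        (if j = 0 then (p : ℤ) - 2 else 0) + (if j = l then -1 else 0) +
          (if j ∈ J then (p : ℤ) - 3 else 0) := by
      intro j hj
      rw [Finset.mem_range] at hj
      by_cases hj0 : j = 0
      · subst hj0
        rw [if_pos rfl, if_neg (by omega), if_neg (by simp [hJ, B.val_one]), pow_zero, B.val_one]
        ring
      by_cases hjl : j = l
      · subst hjl
        rw [if_neg hj0, if_pos rfl, if_neg (by simp [hJ, hz]; omega), hz]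
        ring
      have h1 : g ^ j ≠ 1 := pow_ne_one_of_lt_orderOf hj0 (by rw [hl]; exact hj)
      rw [if_neg hj0, if_neg hjl, zero_add, zero_add]
      rcases B.val_cases hf (hreg j) h1 with ⟨-, h2⟩ | ⟨h2 | h2, -, -⟩ | ⟨-, -, h5', h6, -⟩
      · exfalso
        rw [← pow_mul] at h2
        have h3 := orderOf_dvd_of_pow_eq_one h2
        rw [hl, mul_comm j] at h3
        have h4 := Nat.dvd_of_mul_dvd_mul_left two_pos h3
        obtain ⟨c, rfl⟩ := h4
        have hc2 : c < 2 := Nat.lt_of_mul_lt_mul_left (a := l) (by omega)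
        interval_cases c <;> omega
      · rw [if_neg (by simp [hJ, h2]; omega), h2]
      · rw [if_pos (by simp [hJ, h2, hj]), h2]
      · exfalso
        refine h4 ?_
        have h7 : orderOf (g ^ j) ∣ 2 ^ 2 := orderOf_dvd_of_pow_eq_one h6
        have h8 : orderOf (g ^ j) = 4 := by
          obtain ⟨i, hi, he⟩ := (Nat.dvd_prime_pow Nat.prime_two).1 h7
          interval_cases i
          · exact absurd (orderOf_dvd_iff_pow_eq_one.1 (by rw [he]; norm_num)) h5'
          · exact absurd (orderOf_dvd_iff_pow_eq_one.1 (by rw [he]; norm_num)) h5'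
          · rw [he]; norm_num
        exact h8 ▸ orderOf_pow_dvd j
    have hJsub : J ⊆ Finset.range (2 * l) := Finset.filter_subset _ _
    have hθ : ∀ j, θ₀.1 (g ^ j) = (B.val (g ^ j) : ℂ) := fun j => (B.val_spec (hreg j)).2
  · obtain ⟨N, hN⟩ := exists_sum_powers (Char.irr_isCharacter θ₀) hl (s := 1) (one_pow _)
    refine ⟨N, ?_⟩
    simp only [one_pow, one_mul, hθ] at hN
    rw [← Int.cast_sum] at hN
    have hN' : ∑ j ∈ Finset.range (2 * l), B.val (g ^ j) = (2 * l : ℤ) * N := by exact_mod_cast hN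
    rw [Finset.sum_congr rfl hvals, Finset.sum_add_distrib, Finset.sum_add_distrib,
      Finset.sum_ite_eq', Finset.sum_ite_eq', if_pos (Finset.mem_range.2 (by omega)),
      if_pos (Finset.mem_range.2 (by omega)), Finset.sum_ite_mem,
      Finset.inter_eq_right.2 hJsub, Finset.sum_const, nsmul_eq_mul] at hN'
    linear_combination -hN'
  · obtain ⟨N, hN⟩ := exists_sum_powers (Char.irr_isCharacter θ₀) hl (s := -1)
      (by rw [pow_mul]; norm_num)
    refine ⟨N, ?_⟩
    simp only [hθ] at hN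
    have hN' : ∑ j ∈ Finset.range (2 * l), (-1 : ℤ) ^ j * B.val (g ^ j) = (2 * l : ℤ) * N := by
      have : ((∑ j ∈ Finset.range (2 * l), (-1 : ℤ) ^ j * B.val (g ^ j) : ℤ) : ℂ) =
          (((2 * l : ℤ) * N : ℤ) : ℂ) := by
        push_cast
        convert hN using 2 <;> push_cast <;> ring
      exact_mod_cast this
    have hsign : ∀ j : ℕ, (-1 : ℤ) ^ j * ((if j = 0 then (p : ℤ) - 2 else 0) +
        (if j = l then -1 else 0) + (if j ∈ J then (p : ℤ) - 3 else 0)) =
          (if j = 0 then (p : ℤ) - 2 else 0) + (if j = l then 1 else 0) +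
            (if j ∈ J then -((p : ℤ) - 3) else 0) := by
      intro j
      have hlJ : l ∉ J := by simp [hJ, hz]; omega
      by_cases hj0 : j = 0
      · subst hj0
        have : (0 : ℕ) ∉ J := fun h => by simpa using hjodd 0 h
        simp [this, hl0.ne]
      by_cases hjl : j = l
      · subst hjl
        rw [if_neg hj0, if_pos rfl, if_neg hlJ, if_pos rfl, if_neg hlJ, hlodd.neg_one_pow]
        norm_num
      by_cases hjJ : j ∈ J
      · rw [if_neg hj0, if_neg hjl, if_neg hjl, if_pos hjJ, if_pos hjJ, (hjodd j hjJ).neg_one_pow]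
        ring
      · simp [hj0, hjl, hjJ]
    rw [Finset.sum_congr rfl fun j hj => by rw [hvals j hj],
      Finset.sum_congr rfl fun j _ => show (-1 : ℤ) ^ j * ((if j = 0 then (p : ℤ) - 2 else 0) +
          (if j = l then -1 else 0) + (if j ∈ J then (p : ℤ) - 3 else 0)) =
        (if j = 0 then (p : ℤ) - 2 else 0) + (if j = l then 1 else 0) +
          (if j ∈ J then -((p : ℤ) - 3) else 0) by
        exact hsign j,
      Finset.sum_add_distrib, Finset.sum_add_distrib,
      Finset.sum_ite_eq', Finset.sum_ite_eq', if_pos (Finset.mem_range.2 (by omega)),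
      if_pos (Finset.mem_range.2 (by omega)), Finset.sum_ite_mem,
      Finset.inter_eq_right.2 hJsub, Finset.sum_const, nsmul_eq_mul] at hN'
    linear_combination -hN'

end Cfsg.Agent.DegreePSubTwo
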