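import Cfsg.Agent.Lib.DegreePSubTwo.Structure
import Cfsg.Agent.Lib.Char.PermChar
import Cfsg.Agent.Lib.Char.Linear
import Cfsg.Agent.Lib.Transfer.Burnside
import Cfsg.Agent.Lib.Perm.Basic

/-!
# Primitive groups of degree `2p` with `|N(P)| = 2p`

Such a group that is not doubly transitive is simple of order 60.
-/

set_option autoImplicit false
set_option linter.style.haveILetI false
set_option linter.unusedSectionVars false

namespace Cfsg.Agent.DegreePSubTwo

open Cfsg Cfsg.Agent MulAction
open scoped ComplexConjugate Classical Pointwise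

universe u v

variable {G : Type u} [Group G] [Fintype G] {α : Type v} [MulAction G α] [FaithfulSMul G α]
  [Finite α] [IsPreprimitive G α] {p : ℕ} [hp : Fact p.Prime]

/-- The order of a transitive subgroup is divisible by the degree. -/
theorem card_dvd_of_pretransitive {H : Type*} [Group H] [Finite H] {β : Type*} [MulAction H β]
    [IsPretransitive H β] [Nonempty β] : Nat.card β ∣ Nat.card H := by
  obtain ⟨a⟩ := ‹Nonempty β›
  rw [← index_stabilizer_of_transitive H a]
  exact Subgroup.index_dvd_card _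

variable (hα : Nat.card α = 2 * p) (hp3 : 3 < p) (P : Sylow p G)
  (hN : Nat.card (Subgroup.normalizer ((P : Subgroup G) : Set G)) = 2 * p)

include hα in
theorem nonempty_of_card : Nonempty α :=
  (Nat.card_pos_iff.1 (by rw [hα]; have := hp.out.pos; omega)).1

include hα in
theorem two_p_dvd_of_normal {K : Subgroup G} [K.Normal] (hK : K ≠ ⊥) : 2 * p ∣ Nat.card K := by
  haveI := nonempty_of_card (α := α) hα
  haveI := Perm.isPretransitive_of_normal (α := α) hK
  exact hα ▸ card_dvd_of_pretransitive

include hα hp3 hN in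
theorem card_sylow_eq : Nat.card P = p := by
  haveI := nonempty_of_card (α := α) hα
  have hdvd : p ∣ Nat.card G := (dvd_mul_left p 2).trans
    (hα ▸ card_dvd_of_pretransitive : 2 * p ∣ Nat.card G)
  have h1 : Nat.card (P : Subgroup G) ∣ 2 * p := hN ▸ Subgroup.card_dvd_of_le Subgroup.le_normalizer
  obtain ⟨k, hk⟩ := IsPGroup.iff_card.1 P.isPGroup'
  have hk' : Nat.card (P : Subgroup G) = p ^ k := hk
  have hP0 : p ∣ p ^ k := hk' ▸ P.dvd_card_of_dvd_card hdvd
  rcases k with _ | _ | k
  · exact absurd hP0 (by simpa using hp.out.not_dvd_one)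
  · simpa using hk'
  · exfalso
    have h2 : p * p ∣ 2 * p := by
      rw [← pow_two]; exact (pow_dvd_pow p (by omega)).trans (hk' ▸ h1)
    have := Nat.le_of_dvd two_pos (Nat.dvd_of_mul_dvd_mul_right hp.out.pos h2)
    omega

include hα hp3 hN in
theorem relIndex_eq_two_aux :
    Subgroup.centralizer ((P : Subgroup G) : Set G) = (P : Subgroup G) ∧
      (Subgroup.centralizer ((P : Subgroup G) : Set G)).relIndex
        (Subgroup.normalizer ((P : Subgroup G) : Set G)) = 2 := by
  have hP : Nat.card (P : Subgroup G) = p := card_sylow_eq hα hp3 P hN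
  set C := Subgroup.centralizer ((P : Subgroup G) : Set G)
  set N := Subgroup.normalizer ((P : Subgroup G) : Set G)
  haveI : IsCyclic (P : Subgroup G) := isCyclic_of_prime_card hP
  have hcomm : ∀ a b : G, a ∈ (P : Subgroup G) → b ∈ (P : Subgroup G) → a * b = b * a :=
    fun a b ha hb => by
      have := (IsCyclic.commGroup (α := (P : Subgroup G))).mul_comm ⟨a, ha⟩ ⟨b, hb⟩
      exact congrArg Subtype.val this
  have hPC : (P : Subgroup G) ≤ C := fun a ha => Subgroup.mem_centralizer_iff.2 fun b hb =>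
    hcomm b a hb ha
  have hCN : C ≤ N := Subgroup.centralizer_le_normalizer _
  have hne : C ≠ N := by
    intro h
    obtain ⟨Q, K, hK, hKQ⟩ :=
      Agent.Transfer.hasNormalPComplement_of_normalizer_le_centralizer P h.ge
    haveI := hK
    have hQ : Nat.card (Q : Subgroup G) = p := by
      rw [Q.card_eq_multiplicity, ← P.card_eq_multiplicity]; exact hP
    have hmul := hKQ.card_mul_card
    rw [hQ] at hmul
    have hpK : ¬ p ∣ Nat.card K := by
      intro hd
      have h2 : p ^ 2 ∣ Nat.card G := by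
        rw [← hmul, pow_two]; exact Nat.mul_dvd_mul_right hd p
      have h3 := (hp.out.pow_dvd_iff_le_factorization Nat.card_pos.ne').1 h2
      have h4 := P.card_eq_multiplicity
      rw [hP] at h4
      have := Nat.pow_right_injective hp.out.two_le ((pow_one p).trans h4)
      omega
    by_cases hK1 : K = ⊥
    · rw [hK1, Subgroup.card_bot, one_mul] at hmul
      haveI := nonempty_of_card (α := α) hα
      have : 2 * p ∣ p := hmul ▸ (hα ▸ card_dvd_of_pretransitive : 2 * p ∣ Nat.card G)
      have := Nat.le_of_dvd hp.out.pos this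
      omega
    · exact hpK ((dvd_mul_left p 2).trans (two_p_dvd_of_normal (α := α) hα hK1))
  have hCcard : Nat.card C = p := by
    have h1 : Nat.card C ∣ 2 * p := hN ▸ Subgroup.card_dvd_of_le hCN
    have h2 : p ∣ Nat.card C := hP ▸ Subgroup.card_dvd_of_le hPC
    obtain ⟨c, hc⟩ := h2
    rw [hc, mul_comm 2 p] at h1
    rcases (Nat.dvd_prime Nat.prime_two).1 (Nat.dvd_of_mul_dvd_mul_left hp.out.pos h1) with h | h
    · rw [hc, h, mul_one]
    · exact absurd (Subgroup.eq_of_le_of_card_ge hCN (by rw [hN, hc, h, mul_comm])) hne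
  refine ⟨(Subgroup.eq_of_le_of_card_ge hPC (by rw [hCcard, hP])).symm, ?_⟩
  have h1 := Subgroup.card_mul_index (C.subgroupOf N)
  rw [Nat.card_congr (Subgroup.subgroupOfEquivOfLe hCN).toEquiv, hCcard, hN, mul_comm 2 p] at h1
  exact Nat.eq_of_mul_eq_mul_left hp.out.pos h1

include hα hp3 hN in
theorem not_pow_two_dvd : ¬ p ^ 2 ∣ Nat.card G := by
  intro h2
  have h3 := (hp.out.pow_dvd_iff_le_factorization Nat.card_pos.ne').1 h2
  have h4 := P.card_eq_multiplicity
  rw [card_sylow_eq (α := α) hα hp3 P hN] at h4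
  have := Nat.pow_right_injective hp.out.two_le ((pow_one p).trans h4)
  omega

include hα hp3 hN in
/-- The group is simple. -/
theorem isSimple : IsSimpleGroup G := by
  haveI := nonempty_of_card (α := α) hα
  have hP : Nat.card (P : Subgroup G) = p := card_sylow_eq (α := α) hα hp3 P hN
  obtain ⟨hC, -⟩ := relIndex_eq_two_aux (α := α) hα hp3 P hN
  set N := Subgroup.normalizer ((P : Subgroup G) : Set G) with hNdef
  haveI : Nontrivial G := by
    haveI : Nontrivial (P : Subgroup G) :=
      Finite.one_lt_card_iff_nontrivial.1 (hp.out.one_lt.trans_le hP.ge)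
    obtain ⟨x, hx⟩ := exists_ne (1 : (P : Subgroup G))
    exact nontrivial_of_ne _ _ (fun h => hx (Subtype.ext h) : (x : G) ≠ 1)
  refine { exists_pair_ne := exists_pair_ne G, eq_bot_or_eq_top_of_normal := fun K hK => ?_ }
  haveI := hK
  refine or_iff_not_imp_left.2 fun hKne => ?_
  have hpK : p ∣ Nat.card K := (dvd_mul_left p 2).trans (two_p_dvd_of_normal (α := α) hα hKne)
  have hPK : (P : Subgroup G) ≤ K := by
    obtain ⟨⟨x, hxK⟩, hx⟩ := exists_prime_orderOf_dvd_card' (G := K) p hpK
    rw [Subgroup.orderOf_mk] at hx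
    obtain ⟨Q, hQ⟩ := (IsPGroup.of_card (n := 1)
      (show Nat.card (Subgroup.zpowers x) = p ^ 1 by rw [Nat.card_zpowers, hx, pow_one])).exists_le_sylow
    have hQx : Subgroup.zpowers x = (Q : Subgroup G) := Subgroup.eq_of_le_of_card_ge hQ (by
      rw [Nat.card_zpowers, hx, Q.card_eq_multiplicity, ← P.card_eq_multiplicity]; exact hP.le)
    obtain ⟨g, rfl⟩ := MulAction.exists_smul_eq G Q P
    intro y hy
    obtain ⟨z, hz, rfl⟩ := hy
    exact hK.conj_mem z ((Subgroup.zpowers_le.2 hxK) (hQx.ge hz)) g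
  set P' : Sylow p K := P.subtype hPK
  have hP'map : (P' : Subgroup K).map K.subtype = (P : Subgroup G) :=
    Subgroup.map_subgroupOf_eq_of_le hPK
  have hfr := Sylow.normalizer_sup_eq_top P'
  rw [hP'map] at hfr
  have hP'card : Nat.card (P' : Subgroup K) = p := by
    have h1 := Subgroup.card_map_of_injective K.subtype_injective (K := (P' : Subgroup K))
    rw [hP'map] at h1
    exact h1.symm.trans hP
  have hPN : (P : Subgroup G) ≤ N := Subgroup.le_normalizer
  by_cases hNK : N ≤ K
  · rw [sup_eq_right.2 hNK] at hfr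
    exact hfr
  exfalso
  have hNKP : N ⊓ K = (P : Subgroup G) := by
    refine (Subgroup.eq_of_le_of_card_ge (le_inf hPN hPK) ?_).symm
    have h1 : Nat.card ↥(N ⊓ K) ∣ 2 * p := hN ▸ Subgroup.card_dvd_of_le inf_le_left
    obtain ⟨c, hc⟩ : p ∣ Nat.card ↥(N ⊓ K) := hP ▸ Subgroup.card_dvd_of_le (le_inf hPN hPK)
    rw [hc, mul_comm 2 p] at h1
    rcases (Nat.dvd_prime Nat.prime_two).1 (Nat.dvd_of_mul_dvd_mul_left hp.out.pos h1) with h | h
    · rw [hc, h, mul_one, hP]
    · refine absurd ?_ hNK
      exact inf_eq_left.1 (Subgroup.eq_of_le_of_card_ge inf_le_left (by rw [hN, hc, h, mul_comm]))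
  have hle : Subgroup.normalizer ((P' : Subgroup K) : Set K) ≤
      Subgroup.centralizer ((P' : Subgroup K) : Set K) := by
    intro a ha
    have haN : (a : G) ∈ N := by
      rw [hNdef, Subgroup.mem_normalizer_iff]
      intro x
      constructor
      · intro hx
        exact ((Subgroup.mem_normalizer_iff.1 ha ⟨x, hPK hx⟩).1 hx : _)
      · intro hx
        have hxK : x ∈ K := by
          have := K.mul_mem (K.mul_mem (K.inv_mem a.2) (hPK hx)) a.2
          rwa [show (a : G)⁻¹ * ((a : G) * x * (a : G)⁻¹) * a = x by group] at this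
        exact ((Subgroup.mem_normalizer_iff.1 ha ⟨x, hxK⟩).2 hx : _)
    have haP : (a : G) ∈ (P : Subgroup G) := hNKP ▸ Subgroup.mem_inf.2 ⟨haN, a.2⟩
    rw [← hC] at haP
    refine Subgroup.mem_centralizer_iff.2 fun b hb => Subtype.ext ?_
    exact Subgroup.mem_centralizer_iff.1 haP b hb
  obtain ⟨Q, L, hL, hLQ⟩ :=
    Agent.Transfer.hasNormalPComplement_of_normalizer_le_centralizer P' hle
  haveI := hL
  have hQ : Nat.card (Q : Subgroup K) = p := by
    rw [Q.card_eq_multiplicity, ← P'.card_eq_multiplicity]; exact hP'card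
  have hmul := hLQ.card_mul_card
  rw [hQ] at hmul
  have hpL : ¬ p ∣ Nat.card L := by
    intro hd
    refine not_pow_two_dvd (α := α) hα hp3 P hN ?_
    rw [pow_two]
    exact (hmul ▸ Nat.mul_dvd_mul_right hd p).trans K.card_subgroup_dvd_card
  have hidx : L.index = p := by
    have h1 := L.card_mul_index
    rw [← hmul] at h1
    exact Nat.eq_of_mul_eq_mul_left Nat.card_pos h1
  have hmem : ∀ {x : K}, x ^ Nat.card L = 1 → x ∈ L := fun {x} hx => by
    rw [← QuotientGroup.eq_one_iff (N := L), ← orderOf_eq_one_iff]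
    refine Nat.eq_one_of_dvd_coprimes ((hp.out.coprime_iff_not_dvd).2 hpL) ?_ ?_
    · rw [← hidx, Subgroup.index_eq_card]
      exact orderOf_dvd_natCard _
    · exact orderOf_dvd_of_pow_eq_one (by rw [← QuotientGroup.mk_pow, hx, QuotientGroup.mk_one])
  have hLn : (L.map K.subtype).Normal := by
    constructor
    rintro _ ⟨x, hx, rfl⟩ g
    refine ⟨⟨g * x * g⁻¹, hK.conj_mem _ x.2 g⟩, hmem (Subtype.ext ?_), rfl⟩
    have h1 : x ^ Nat.card L = 1 := orderOf_dvd_iff_pow_eq_one.1 (Subgroup.orderOf_dvd_natCard L hx)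
    rw [SubgroupClass.coe_pow, conj_pow, ← SubgroupClass.coe_pow, h1]
    simp
  by_cases hL1 : L.map K.subtype = ⊥
  · have hc : Nat.card L = 1 := by
      rw [← Subgroup.card_map_of_injective K.subtype_injective (K := L), hL1, Subgroup.card_bot]
    rw [hc, one_mul] at hmul
    have h2 := two_p_dvd_of_normal (α := α) hα hKne
    rw [← hmul] at h2
    have := Nat.le_of_dvd hp.out.pos h2
    omega
  · haveI := hLn
    have h1 := two_p_dvd_of_normal (α := α) hα hL1
    rw [Subgroup.card_map_of_injective K.subtype_injective] at h1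
    exact hpL ((dvd_mul_left p 2).trans h1)

include hα hp3 hN in
theorem not_comm : ¬ IsMulCommutative G := by
  intro h
  haveI := nonempty_of_card (α := α) hα
  haveI := isSimple (α := α) hα hp3 P hN
  letI : CommGroup G := { ‹Group G› with mul_comm := fun a b => mul_comm' a b }
  have h1 : (Nat.card G).Prime := IsSimpleGroup.prime_card
  have h2 : 2 * p ∣ Nat.card G := hα ▸ card_dvd_of_pretransitive
  rcases (Nat.dvd_prime h1).1 h2 with h3 | h3
  · have := hp.out.two_le; omega
  · rw [← h3] at h1
    exact Nat.not_prime_mul (by norm_num) hp.out.ne_one h1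

end Cfsg.Agent.DegreePSubTwo
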