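import Cfsg.Agent.Lib.DegreePSubTwo.Perm

/-!
# A constituent of the permutation character of degree `2p` gives a character of degree `p - 2`
-/

set_option autoImplicit false
set_option linter.style.haveILetI false
set_option linter.unusedSectionVars false

namespace Cfsg.Agent.DegreePSubTwo

open Cfsg Cfsg.Agent MulAction
open scoped ComplexConjugate Classical Pointwise

universe u v

variable {G : Type u} [Group G] [Fintype G] {α : Type v} [MulAction G α] [FaithfulSMul G α]
  [Finite α] [IsPreprimitive G α] {p : ℕ} [hp : Fact p.Prime]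

variable (hα : Nat.card α = 2 * p) (hp3 : 3 < p) (P : Sylow p G)
  (hN : Nat.card (Subgroup.normalizer ((P : Subgroup G) : Set G)) = 2 * p)

include hα hp3 hN in
theorem fixedBy_empty {u : G} (hu : u ∈ (P : Subgroup G)) (hu1 : u ≠ 1) :
    Nat.card (fixedBy α u) = 0 := by
  haveI : IsEmpty (fixedBy α u) := ⟨fun ⟨a, ha⟩ => not_pow_two_dvd (α := α) hα hp3 P hN (by
    have hP := card_sylow_eq (α := α) hα hp3 P hN
    have ho : orderOf u = p := ((Nat.dvd_prime hp.out).1
      (hP ▸ Subgroup.orderOf_dvd_natCard _ hu)).resolve_left fun h => hu1 (orderOf_eq_one_iff.1 h)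
    have hd : p ∣ Nat.card (stabilizer G a) :=
      ho ▸ Subgroup.orderOf_dvd_natCard _ (MulAction.mem_stabilizer_iff.2 ha)
    rw [← Perm.card_mul_card_stabilizer (G := G) a, hα, pow_two, mul_assoc]
    exact (Nat.mul_dvd_mul_left p hd).trans (dvd_mul_left _ 2))⟩
  exact Nat.card_of_isEmpty

include hα hp3 hN in
/-- The only linear character is the trivial one. -/
theorem linear_trivial {χ : IrrCharacter G} (h : Char.degree χ = 1) :
    χ = Char.trivialChar G := by
  haveI := isSimple (α := α) hα hp3 P hN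
  have h1 : χ.1 1 = 1 := by rw [Char.apply_one_eq_degree, h, Nat.cast_one]
  obtain ⟨lam, hl⟩ := Char.IsCharacter.exists_monoidHom (Char.irr_isCharacter χ) h1
  rcases IsSimpleGroup.eq_bot_or_eq_top_of_normal lam.ker inferInstance with hk | hk
  · refine absurd ⟨⟨fun a b => (MonoidHom.ker_eq_bot_iff (f := lam.toHomUnits)).1 ?_ ?_⟩⟩
      (not_comm (α := α) hα hp3 P hN)
    · rw [← hk]
      ext x
      simp [MonoidHom.mem_ker, Units.ext_iff]
    · rw [map_mul, map_mul, mul_comm]
  · refine Subtype.ext (funext fun g => ?_)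
    rw [← hl, Char.trivialChar_apply]
    exact MonoidHom.mem_ker.1 (hk ▸ Subgroup.mem_top g)

/-- The decomposition of the permutation character. -/
structure Decomp (P : Sylow p G) (α : Type v) [MulAction G α] where
  c : IrrCharacter G → ℕ
  n : IrrCharacter G → ℕ
  fix : ∀ g : G, (Nat.card (fixedBy α g) : ℂ) = ∑ χ, (c χ : ℂ) * χ.1 g
  c_inner : ∀ χ, classInner (fun g : G => (Nat.card (fixedBy α g) : ℂ)) χ.1 = c χ
  n_spec : ∀ χ, ∑ y : (P : Subgroup G), χ.1 y = (p : ℂ) * n χ
  c_triv : c (Char.trivialChar G) = 1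
  sum_n : ∑ χ ∈ Finset.univ.erase (Char.trivialChar G), c χ * n χ = 1
  sum_deg : ∑ χ ∈ Finset.univ.erase (Char.trivialChar G), c χ * Char.degree χ = 2 * p - 1

include hα hp3 hN in
theorem exists_decomp : Nonempty (Decomp P α) := by
  haveI := nonempty_of_card (α := α) hα
  have hP : Nat.card (P : Subgroup G) = p := card_sylow_eq (α := α) hα hp3 P hN
  obtain ⟨c, hc, hci⟩ := Char.IsCharacter.exists_decomp (Char.isCharacter_fixedBy (G := G) α)
  choose n hn using fun χ : IrrCharacter G => DefectOne.exists_sum_eq_mul hP χ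
  have hfix : ∀ g : G, (Nat.card (fixedBy α g) : ℂ) = ∑ χ, (c χ : ℂ) * χ.1 g := fun g => by
    simpa only [Finset.sum_apply, Pi.smul_apply, smul_eq_mul] using congrFun hc g
  have hcT : c (Char.trivialChar G) = 1 := by
    have h1 := hci (Char.trivialChar G)
    have h2 : classInner (fun g : G => (Nat.card (fixedBy α g) : ℂ)) (Char.trivialChar G).1 = 1 := by
      have h3 := Char.classInner_fixedBy_one (G := G) α
      haveI : Subsingleton (Quotient (orbitRel G α)) :=
        (pretransitive_iff_subsingleton_quotient G α).1 inferInstance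
      haveI : Nonempty (Quotient (orbitRel G α)) := Nonempty.map (Quotient.mk _) inferInstance
      rw [Nat.card_of_subsingleton (Classical.arbitrary _), Nat.cast_one] at h3
      rw [← h3]
      congr 1
    rw [h2] at h1
    exact_mod_cast h1.symm
  refine ⟨⟨c, n, hfix, hci, hn, hcT, ?_, ?_⟩⟩
  · have h1 : ∑ y : (P : Subgroup G), (Nat.card (fixedBy α (y : G)) : ℂ) =
        (p : ℂ) * ∑ χ, ((c χ * n χ : ℕ) : ℂ) := by
      rw [Finset.sum_congr rfl fun (y : (P : Subgroup G)) _ => hfix (y : G), Finset.sum_comm, Finset.mul_sum]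
      refine Finset.sum_congr rfl fun χ _ => ?_
      rw [← Finset.mul_sum, hn]
      push_cast
      ring
    rw [← Finset.add_sum_erase _ _ (Finset.mem_univ (1 : (P : Subgroup G))),
      Finset.sum_eq_zero fun (y : (P : Subgroup G)) hy => by
        rw [fixedBy_empty (α := α) hα hp3 P hN y.2
          (fun e => (Finset.mem_erase.1 hy).1 (Subtype.ext e)), Nat.cast_zero],
      Subgroup.coe_one, add_zero, fixedBy_one_eq_univ, Nat.card_coe_set_eq, Set.ncard_univ, hα,
      ← Nat.cast_sum, ← Nat.cast_mul] at h1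
    have h2 : 2 * p = p * ∑ χ, c χ * n χ := by exact_mod_cast h1
    rw [← Finset.add_sum_erase _ _ (Finset.mem_univ (Char.trivialChar G)), hcT] at h2
    have hnT : n (Char.trivialChar G) = 1 := by
      have h3 := hn (Char.trivialChar G)
      simp only [Char.trivialChar_apply, Finset.sum_const, Finset.card_univ, nsmul_eq_mul, mul_one,
        ← Nat.card_eq_fintype_card, hP] at h3
      have h4 : (p : ℂ) * 1 = (p : ℂ) * n (Char.trivialChar G) := by rw [mul_one]; exact h3
      exact_mod_cast (mul_left_cancel₀ (Nat.cast_ne_zero.2 hp.out.ne_zero) h4).symm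
    rw [hnT, mul_comm 2 p] at h2
    have := Nat.eq_of_mul_eq_mul_left hp.out.pos h2
    omega
  · have h1 := hfix 1
    simp only [fixedBy_one_eq_univ, Nat.card_coe_set_eq, Set.ncard_univ, hα,
      Char.apply_one_eq_degree, ← Nat.cast_mul, ← Nat.cast_sum] at h1
    have h2 : 2 * p = ∑ χ, c χ * Char.degree χ := by exact_mod_cast h1
    rw [← Finset.add_sum_erase _ _ (Finset.mem_univ (Char.trivialChar G)), hcT,
      degree_trivial] at h2
    omega

include hα in
/-- Rank two means doubly transitive. -/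
theorem rank_three (hnot2 : ¬ IsMultiplyPretransitive G α 2) :
    (3 : ℕ) ≤ Nat.card (Quotient (orbitRel G (α × α))) := by
  haveI := nonempty_of_card (α := α) hα
  by_contra hcon
  refine hnot2 (is_two_pretransitive_iff.2 fun {a b c d} hab hcd => ?_)
  by_contra hno
  haveI := Fintype.ofFinite (Quotient (orbitRel G (α × α)))
  let f : Fin 3 → Quotient (orbitRel G (α × α)) :=
    ![Quotient.mk'' (a, a), Quotient.mk'' (a, b), Quotient.mk'' (c, d)]
  have hne : ∀ x y : α × α, (Quotient.mk'' x : Quotient (orbitRel G (α × α))) = Quotient.mk'' y →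
      ∃ g : G, g • y.1 = x.1 ∧ g • y.2 = x.2 := fun x y h => by
    obtain ⟨g, hg⟩ := orbitRel_apply.1 (Quotient.exact' h)
    exact ⟨g, congrArg Prod.fst hg, congrArg Prod.snd hg⟩
  have h01 : f 0 ≠ f 1 := fun h => by
    obtain ⟨g, h1, h2⟩ := hne _ _ h
    exact hab (MulAction.injective g (h1.trans h2.symm))
  have h02 : f 0 ≠ f 2 := fun h => by
    obtain ⟨g, h1, h2⟩ := hne _ _ h
    exact hcd (MulAction.injective g (h1.trans h2.symm))
  have h12 : f 1 ≠ f 2 := fun h => by
    obtain ⟨g, h1, h2⟩ := hne _ _ h.symm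
    exact hno ⟨g, h1, h2⟩
  have hinj : Function.Injective f := by
    intro i j hij
    fin_cases i <;> fin_cases j <;> first
      | rfl
      | exact absurd hij h01
      | exact absurd hij.symm h01
      | exact absurd hij h02
      | exact absurd hij.symm h02
      | exact absurd hij h12
      | exact absurd hij.symm h12
  have := Nat.card_le_card_of_injective f hinj
  rw [Nat.card_eq_fintype_card, Fintype.card_fin] at this
  omega

include hα hp3 hN in
/-- A character of degree `p - 2`. -/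
theorem exists_degree (hnot2 : ¬ IsMultiplyPretransitive G α 2) :
    ∃ θ : IrrCharacter G, Char.degree θ = p - 2 := by
  have hP : Nat.card (P : Subgroup G) = p := card_sylow_eq (α := α) hα hp3 P hN
  have h5 : 5 ≤ p := by
    have : p ≠ 4 := fun h => absurd hp.out (by rw [h]; norm_num)
    omega
  have h5' : (5 : ℤ) ≤ p := by exact_mod_cast h5
  obtain ⟨hC, hidx⟩ := relIndex_eq_two_aux (α := α) hα hp3 P hN
  have sc : DefectOne.SelfCent P := ⟨hP, hC⟩
  obtain ⟨M, hM⟩ := CharInt.exists_isPModular_of_prime hp.out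
  haveI := hM.2.1
  have hpM : (p : AlgInt) ∈ M := by exact_mod_cast hM.2.2
  obtain ⟨S⟩ := DefectOne.primeShape (P := P) hpM hP hidx
  obtain ⟨D⟩ := exists_decomp (α := α) hα hp3 P hN
  set T := Char.trivialChar G with hTdef
  have hd2 : ∀ {χ}, χ ≠ T → 2 ≤ Char.degree χ := fun {χ} h => by
    have := Char.degree_pos χ
    by_contra hcon
    exact h (linear_trivial (α := α) hα hp3 P hN (by omega))
  -- the trivial character
  have hT : T ∈ S.X := by
    refine (S.mem_XY Blocks.trivial_mem_principalBlock).resolve_right fun hY => ?_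
    have h1 := (S.Y_deg' hY).symm.dvd
    rw [degree_trivial] at h1
    push_cast at h1
    rcases S.hε with e | e <;> rw [e] at h1 <;> norm_num at h1
    · exact absurd (Int.natCast_dvd_natCast.1 (show (p : ℤ) ∣ ((1 : ℕ) : ℤ) by
        simpa using (dvd_neg.2 h1))) (by simp [hp.out.ne_one])
    · exact absurd (Nat.le_of_dvd (by norm_num) (Int.natCast_dvd_natCast.1
        (show (p : ℤ) ∣ ((3 : ℕ) : ℤ) by simpa using h1))) (by omega)
  obtain ⟨y₀, hy₀⟩ : ∃ y : (P : Subgroup G), y ≠ 1 := by
    haveI : Nontrivial (P : Subgroup G) :=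
      Finite.one_lt_card_iff_nontrivial.1 (hp.out.one_lt.trans_le hP.ge)
    exact exists_ne 1
  have hTε : S.εX T = 1 := by
    have h1 := S.X_val _ hT y₀ hy₀
    rw [hTdef, Char.trivialChar_apply] at h1
    exact_mod_cast h1.symm
  obtain ⟨χ, hχ⟩ : ∃ χ, S.X.erase T = {χ} :=
    Finset.card_eq_one.1 (by rw [Finset.card_erase_of_mem hT, S.cardX])
  have hχmem : χ ∈ S.X ∧ χ ≠ T := by
    have : χ ∈ S.X.erase T := by rw [hχ]; exact Finset.mem_singleton_self χ
    exact ⟨Finset.mem_of_mem_erase this, Finset.ne_of_mem_erase this⟩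
  have hrel : ∀ θ ∈ S.Y, S.ε * (Char.degree θ : ℤ) = 1 + S.εX χ * Char.degree χ := by
    intro θ hθ
    have h1 := S.degree_relation hθ
    rw [← Finset.add_sum_erase _ _ hT, hχ, Finset.sum_singleton, hTε, hTdef, degree_trivial] at h1
    simpa using h1
  have hnχ : (p : ℤ) * D.n χ = Char.degree χ + ((p : ℤ) - 1) * S.εX χ := by
    have h1 := D.n_spec χ
    rw [DefectOne.sum_split, Finset.sum_congr rfl fun (y : (P : Subgroup G)) hy =>
        show χ.1 y = S.εX χ from S.X_val χ hχmem.1 y (Finset.mem_erase.1 hy).1,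
      Finset.sum_const, DefectOne.card_erase hP, nsmul_eq_mul, Nat.cast_sub hp.out.one_le] at h1
    push_cast at h1
    have : (((p : ℤ) * D.n χ : ℤ) : ℂ) = ((Char.degree χ + ((p : ℤ) - 1) * S.εX χ : ℤ) : ℂ) := by
      push_cast
      exact h1.symm
    exact_mod_cast this
  have hout : ∀ ψ, ψ ∉ principalBlock M G → Char.degree ψ = p * D.n ψ := by
    intro ψ hψ
    have h1 := D.n_spec ψ
    rw [DefectOne.sum_split, Finset.sum_eq_zero fun y hy => sc.vanish hpM hψ y.2
      (fun e => (Finset.mem_erase.1 hy).1 (Subtype.ext e)), add_zero] at h1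
    exact_mod_cast h1
  have hmem : ∀ ψ, ψ ≠ T → ψ = χ ∨ ψ ∈ S.Y ∨ ψ ∉ principalBlock M G := by
    intro ψ hψ
    by_cases hb : ψ ∈ principalBlock M G
    · rcases S.mem_XY hb with h | h
      · exact Or.inl (Finset.mem_singleton.1 (hχ ▸ Finset.mem_erase.2 ⟨hψ, h⟩))
      · exact Or.inr (Or.inl h)
    · exact Or.inr (Or.inr hb)
  -- the constituent with a fixed vector of `P`
  set E := Finset.univ.erase T with hE
  obtain ⟨χ₁, hχ₁E, hχ₁⟩ := Finset.exists_ne_zero_of_sum_ne_zero
    (show ∑ ψ ∈ E, D.c ψ * D.n ψ ≠ 0 by rw [hE, D.sum_n]; exact one_ne_zero)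
  have hsplit := D.sum_n
  rw [← hE, ← Finset.add_sum_erase _ _ hχ₁E] at hsplit
  have hcn : D.c χ₁ * D.n χ₁ = 1 ∧ ∀ ψ ∈ E.erase χ₁, D.c ψ * D.n ψ = 0 :=
    ⟨by omega, Finset.sum_eq_zero_iff.1 (by omega)⟩
  obtain ⟨hc1, hn1⟩ := Nat.eq_one_of_mul_eq_one_right hcn.1, Nat.eq_one_of_mul_eq_one_left hcn.1
  have hdeg := D.sum_deg
  rw [← hE, ← Finset.add_sum_erase _ _ hχ₁E, hc1, one_mul] at hdeg
  -- there is another constituent
  obtain ⟨ψ, hψE, hψc⟩ : ∃ ψ ∈ E.erase χ₁, D.c ψ ≠ 0 := by
    by_contra hcon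
    push Not at hcon
    have h3 := rank_three (G := G) (α := α) hα hnot2
    have h4 := Char.classInner_fixedBy_self (G := G) α
    have h2 : classInner (fun g : G => (Nat.card (fixedBy α g) : ℂ))
        (fun g : G => (Nat.card (fixedBy α g) : ℂ)) = ((∑ χ, D.c χ * D.c χ : ℕ) : ℂ) := by
      have h5 := Char.IsGeneralizedCharacter.classInner_self_eq_sum
        (m := fun l => (D.c l : ℤ)) (θ := fun g : G => (Nat.card (fixedBy α g) : ℂ))
        (by funext g; rw [D.fix g]; simp)
      rw [h5]
      push_cast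
      exact Finset.sum_congr rfl fun x _ => pow_two _
    rw [h2] at h4
    have h5 : ∑ χ, D.c χ * D.c χ = 2 := by
      rw [← Finset.add_sum_erase _ _ (Finset.mem_univ T), ← hE, ← Finset.add_sum_erase _ _ hχ₁E,
        hc1, D.c_triv, Finset.sum_eq_zero fun x hx => by rw [hcon x hx, mul_zero]]
      norm_num
    rw [h5] at h4
    have : 2 = Nat.card (Quotient (orbitRel G (α × α))) := by exact_mod_cast h4
    omega
  have hψ0 : D.n ψ = 0 := (mul_eq_zero.1 (hcn.2 ψ hψE)).resolve_left hψc
  have hχ₁T : χ₁ ≠ T := (Finset.mem_erase.1 hχ₁E).1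
  have hψT : ψ ≠ T := (Finset.mem_erase.1 (Finset.mem_erase.1 hψE).2).1
  have hle : Char.degree χ₁ + Char.degree ψ ≤ 2 * p - 1 := by
    refine le_of_le_of_eq ?_ hdeg
    refine Nat.add_le_add_left (le_trans ?_ (Finset.single_le_sum
      (f := fun x => D.c x * Char.degree x) (fun x _ => Nat.zero_le _) hψE)) _
    exact Nat.le_mul_of_pos_left _ (Nat.pos_of_ne_zero hψc)
  have hYne : ∃ θ, θ ∈ S.Y := Finset.card_pos.1 (by rw [S.cardY]; omega)
  rcases hmem ψ hψT with rfl | hY | hO
  · -- `ψ` is the non-exceptional character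
    obtain ⟨θ, hθ⟩ := hYne
    refine ⟨θ, ?_⟩
    rw [hψ0] at hnχ
    have h1 := hrel θ hθ
    rcases S.hεX ψ hχmem.1 with e | e <;> rw [e] at hnχ h1
    · omega
    rcases S.hε with e' | e' <;> rw [e'] at h1 <;> omega
  · obtain ⟨d, hd⟩ : ∃ d, d = Char.degree ψ := ⟨_, rfl⟩
    have hd1 := hd2 hψT
    have hd1' := hd2 hχ₁T
    have h1 := (S.Y_deg' hY).symm.dvd
    rw [← hd] at h1 hd1 hle
    obtain ⟨k, hk⟩ := h1
    have hle' : (d : ℤ) ≤ 2 * p - 3 := by omega
    have hd1z : (2 : ℤ) ≤ d := by exact_mod_cast hd1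
    have hdcases : (d = 2 ∧ S.ε = 1) ∨ d = p - 2 ∨ d = p + 2 := by
      rcases S.hε with e | e <;> rw [e] at hk <;> push_cast at hk
      · have : k < 2 := by nlinarith
        have : -1 < k := by nlinarith
        interval_cases k
        · exact Or.inl ⟨by omega, e⟩
        · exact Or.inr (Or.inr (by omega))
      · have : k < 3 := by nlinarith
        have : 0 < k := by nlinarith
        interval_cases k
        · exact Or.inr (Or.inl (by omega))
        · omega
    rcases hdcases with ⟨h2, he⟩ | h2 | h2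
    · exfalso
      have h3 := hrel ψ hY
      rw [he, ← hd, h2] at h3
      have := hd2 hχmem.2
      rcases S.hεX χ hχmem.1 with e | e <;> rw [e] at h3 <;> push_cast at h3 <;> omega
    · exact ⟨ψ, hd ▸ h2⟩
    · exfalso
      rcases hmem χ₁ hχ₁T with rfl | hY1 | hO1
      · rw [hn1] at hnχ
        rcases S.hεX χ₁ hχmem.1 with e | e <;> rw [e] at hnχ <;> push_cast at hnχ <;> omega
      · have := S.degree_eq hY1 hY
        omega
      · have := hout χ₁ hO1
        rw [hn1] at this
        omega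
  · exfalso
    have := hout ψ hO
    rw [hψ0, mul_zero] at this
    have := hd2 hψT
    omega

end Cfsg.Agent.DegreePSubTwo
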