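import Cfsg.Agent.Lib.DegreePSubTwo.PermDegree
import Cfsg.Agent.Lib.SmallSimple.Low

/-!
# The primitive groups of degree `2p` with `|N(P)| = 2p`: the order is 60
-/

set_option autoImplicit false
set_option linter.style.haveILetI false
set_option linter.unusedSectionVars false

namespace Cfsg.Agent.DegreePSubTwo

open Cfsg Cfsg.Agent MulAction
open scoped ComplexConjugate Classical Pointwise

universe u v

variable {G : Type u} [Group G] [Fintype G] {α : Type v} [MulAction G α] [FaithfulSMul G α]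
  [Finite α] [IsPreprimitive G α] {p : ℕ} [hp : Fact p.Prime]

variable (hα : Nat.card α = 2 * p) (hp3 : 3 < p) (P : Sylow p G)
  (hN : Nat.card (Subgroup.normalizer ((P : Subgroup G) : Set G)) = 2 * p)

include hα hp3 hN in
theorem faithful {θ : IrrCharacter G} (hθ : θ ≠ Char.trivialChar G) :
    ∀ g : G, θ.1 g = θ.1 1 → g = 1 := by
  haveI := isSimple (α := α) hα hp3 P hN
  haveI := CharInt.charKernel_normal (Char.irr_isCharacter θ)
  intro g hg
  rcases IsSimpleGroup.eq_bot_or_eq_top_of_normal (CharInt.charKernel (Char.irr_isCharacter θ))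
    inferInstance with hk | hk
  · have : g ∈ CharInt.charKernel (Char.irr_isCharacter θ) := (CharInt.mem_charKernel _).2 hg
    rw [hk] at this
    exact this
  · exfalso
    have h := Char.classInner_irr_of_ne θ.2 (Char.trivialChar G).2 (fun e => hθ (Subtype.ext e))
    have hall : ∀ x : G, θ.1 x = θ.1 1 := fun x =>
      (CharInt.mem_charKernel _).1 (hk ▸ Subgroup.mem_top x)
    simp only [classInner, Char.trivialChar_apply, map_one, mul_one, hall, Finset.sum_const,
      Finset.card_univ, nsmul_eq_mul] at h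
    rw [Char.apply_one_eq_degree] at h
    have := Char.degree_pos θ
    simp [Fintype.card_ne_zero, this.ne'] at h

include hα hp3 hN in
/-- A character of degree `p - 2` does not occur in the permutation character. -/
theorem c_eq_zero {θ₀ : IrrCharacter G} (B : Block P θ₀) (D : Decomp P α) : D.c θ₀ = 0 := by
  by_contra hc
  have h5 := B.five
  have hP : Nat.card (P : Subgroup G) = p := B.sc.card
  set T := Char.trivialChar G
  set E := Finset.univ.erase T with hE
  have hθE : θ₀ ∈ E := Finset.mem_erase.2 ⟨fun e : θ₀ = T => B.triv_notMem (show T ∈ B.Y from e ▸ B.θ₀_mem),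
    Finset.mem_univ _⟩
  have hχE : B.χ ∈ E := Finset.mem_erase.2 ⟨B.χ_ne, Finset.mem_univ _⟩
  have hne : B.χ ≠ θ₀ := fun e => B.χ_notMem (by rw [e]; exact B.θ₀_mem)
  have hnθ : D.n θ₀ = 1 := by
    have h1 := D.n_spec θ₀
    rw [(B.sum_P B.θ₀_mem).1] at h1
    have h2 : (p : ℂ) * 1 = (p : ℂ) * D.n θ₀ := by rw [mul_one]; exact h1
    exact_mod_cast (mul_left_cancel₀ (Nat.cast_ne_zero.2 hp.out.ne_zero) h2).symm
  have hsum := D.sum_n
  rw [← hE, ← Finset.add_sum_erase _ _ hθE, hnθ, mul_one] at hsum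
  have hc1 : D.c θ₀ = 1 := by omega
  have hrest : ∀ ψ ∈ E.erase θ₀, D.c ψ * D.n ψ = 0 := Finset.sum_eq_zero_iff.1 (by omega)
  have hzero : ∀ ψ ∈ E.erase θ₀, ψ ≠ B.χ → D.c ψ = 0 := by
    intro ψ hψ hψχ
    obtain ⟨hψθ, hψE⟩ := Finset.mem_erase.1 hψ
    refine (mul_eq_zero.1 (hrest ψ hψ)).resolve_right fun h0 => ?_
    have h1 := D.n_spec ψ
    rw [h0, Nat.cast_zero, mul_zero] at h1
    by_cases hY : ψ ∈ B.Y
    · rw [(B.sum_P hY).1] at h1
      exact hp.out.ne_zero (by exact_mod_cast h1)
    · rw [DefectOne.sum_split, Finset.sum_eq_zero fun (y : (P : Subgroup G)) hy =>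
        B.vanish ψ (Finset.mem_erase.1 hψE).1 hψχ hY y y.2
          (fun e => (Finset.mem_erase.1 hy).1 (Subtype.ext e)), add_zero] at h1
      exact (Char.degree_pos ψ).ne' (by exact_mod_cast h1)
  have hdeg := D.sum_deg
  rw [← hE, ← Finset.add_sum_erase _ _ hθE, hc1, one_mul,
    ← Finset.add_sum_erase _ _ (Finset.mem_erase.2 ⟨hne, hχE⟩),
    Finset.sum_eq_zero fun ψ hψ => by
      rw [hzero ψ (Finset.mem_of_mem_erase hψ) (Finset.ne_of_mem_erase hψ), zero_mul],
    add_zero, B.deg_Y θ₀ B.θ₀_mem, B.deg_χ] at hdeg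
  rcases Nat.lt_or_ge (D.c B.χ) 2 with h | h
  · interval_cases h' : D.c B.χ <;> omega
  · have := Nat.mul_le_mul_right (p - 1) h
    omega

include hα hp3 hN in
/-- The sum of such a character over a point stabiliser is zero. -/
theorem sum_stabilizer {θ₀ : IrrCharacter G} (B : Block P θ₀) (D : Decomp P α) (a : α) :
    ∑ h : stabilizer G a, θ₀.1 (h : G) = 0 := by
  haveI := Fintype.ofFinite α
  have h1 : classInner (fun g : G => (Nat.card (fixedBy α g) : ℂ)) θ₀.1 = 0 := by
    rw [D.c_inner, c_eq_zero (α := α) hα hp3 P hN B D, Nat.cast_zero]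
  have hreal : ∀ g, conj (θ₀.1 g) = θ₀.1 g := fun g =>
    Complex.conj_eq_iff_im.2 (B.im_eq_zero B.θ₀_mem g)
  simp only [classInner, hreal] at h1
  have h1' := (mul_eq_zero.1 h1).resolve_left (inv_ne_zero Char.card_ne_zero)
  have hcls := Char.IsCharacter.isClassFunction (Char.irr_isCharacter θ₀)
  have hconst : ∀ b : α, ∑ h : stabilizer G b, θ₀.1 (h : G) = ∑ h : stabilizer G a, θ₀.1 (h : G) := by
    intro b
    obtain ⟨g, rfl⟩ := exists_smul_eq G a b
    refine (Finset.sum_bij (fun (h : stabilizer G a) _ => (⟨g * (h : G) * g⁻¹, ?_⟩ :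
      stabilizer G (g • a))) ?_ ?_ ?_ ?_).symm
    · rw [mem_stabilizer_iff, mul_smul, mul_smul, inv_smul_smul,
        mem_stabilizer_iff.1 h.2]
    · intro h _
      exact Finset.mem_univ _
    · intro x _ y _ hxy
      have := congrArg Subtype.val hxy
      exact Subtype.ext (mul_left_cancel (mul_right_cancel this))
    · intro y _
      refine ⟨⟨g⁻¹ * (y : G) * g, ?_⟩, Finset.mem_univ _, Subtype.ext ?_⟩
      · rw [mem_stabilizer_iff, mul_smul, mul_smul, mem_stabilizer_iff.1 y.2, inv_smul_smul]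
      · show g * (g⁻¹ * (y : G) * g) * g⁻¹ = y
        group
    · intro h _
      exact (hcls _ _).symm
  have h2 : ∑ g : G, (Nat.card (fixedBy α g) : ℂ) * θ₀.1 g =
      (Nat.card α : ℂ) * ∑ h : stabilizer G a, θ₀.1 (h : G) := by
    calc ∑ g : G, (Nat.card (fixedBy α g) : ℂ) * θ₀.1 g
        = ∑ g : G, ∑ b ∈ Finset.univ.filter (fun b : α => g • b = b), θ₀.1 g := by
          refine Finset.sum_congr rfl fun g _ => ?_
          rw [Finset.sum_const, nsmul_eq_mul, Nat.card_eq_fintype_card, Fintype.card_subtype]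
          rfl
      _ = ∑ b : α, ∑ g ∈ Finset.univ.filter (fun g : G => g • b = b), θ₀.1 g := by
          simp only [Finset.sum_filter]
          exact Finset.sum_comm
      _ = ∑ _b : α, ∑ h : stabilizer G a, θ₀.1 (h : G) := by
          refine Finset.sum_congr rfl fun b _ => ?_
          rw [← hconst b]
          exact Finset.sum_subtype _ (fun g => by simp [mem_stabilizer_iff]) θ₀.1
      _ = _ := by rw [Finset.sum_const, Finset.card_univ, Nat.card_eq_fintype_card, nsmul_eq_mul]
  rw [h2, hα] at h1'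
  refine (mul_eq_zero.1 h1').resolve_left (Nat.cast_ne_zero.2 ?_)
  have := hp.out.pos
  omega

include hα hp3 hN in
/-- The final count. -/
theorem eq_five (hnot2 : ¬ IsMultiplyPretransitive G α 2) : p = 5 ∧ Nat.card G = 60 := by
  haveI := nonempty_of_card (α := α) hα
  obtain ⟨a⟩ := ‹Nonempty α›
  have hP : Nat.card (P : Subgroup G) = p := card_sylow_eq (α := α) hα hp3 P hN
  have h5 : 5 ≤ p := by
    have : p ≠ 4 := fun h => absurd hp.out (by rw [h]; norm_num)
    omega
  obtain ⟨hC, hidx⟩ := relIndex_eq_two_aux (α := α) hα hp3 P hN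
  obtain ⟨θ₀, hdeg⟩ := exists_degree (α := α) hα hp3 P hN hnot2
  obtain ⟨B⟩ := exists_block ⟨hP, hC⟩ h5 hidx θ₀ hdeg
  obtain ⟨D⟩ := exists_decomp (α := α) hα hp3 P hN
  have hf := faithful (α := α) hα hp3 P hN (θ := θ₀) fun e => B.triv_notMem (e ▸ B.θ₀_mem)
  obtain ⟨-, hG, hsq, hinv⟩ := B.structure_thm hf
  set H := stabilizer G a with hHdef
  have hH : 2 * Nat.card H = (p - 1) * (p - 2) := by
    have h1 := Perm.card_mul_card_stabilizer (G := G) a
    rw [hG, hα] at h1
    refine Nat.eq_of_mul_eq_mul_left hp.out.pos ?_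
    rw [← h1, ← hHdef]
    ring
  haveI : Fact (Nat.Prime 2) := ⟨Nat.prime_two⟩
  have hsum := sum_stabilizer (α := α) hα hp3 P hN B D a
  set I := Finset.univ.filter fun h : H => orderOf (h : G) = 2 with hI
  have hpH : ¬ p ∣ Nat.card H := by
    intro hd
    have h1 : p ∣ (p - 1) * (p - 2) := hH ▸ hd.mul_left 2
    rcases hp.out.dvd_mul.1 h1 with h | h <;> have := Nat.le_of_dvd (by omega) h <;> omega
  -- the number of involutions in the stabiliser
  have hIcard : I.card = p - 2 := by
    have hval : ∀ h : H, θ₀.1 (h : G) = (if h = 1 then ((p : ℂ) - 2) else 0) +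
        (if h ∈ I then (-1 : ℂ) else 0) := by
      intro h
      have hreg : IsPRegular p (h : G) := fun hd =>
        hpH (hd.trans (Subgroup.orderOf_dvd_natCard H h.2))
      by_cases h1 : h = 1
      · subst h1
        simp [hI, Char.apply_one_eq_degree, B.deg_Y θ₀ B.θ₀_mem, Nat.cast_sub (show 2 ≤ p by omega)]
      have hg1 : (h : G) ≠ 1 := fun e => h1 (Subtype.ext e)
      rw [if_neg h1, zero_add, (B.val_spec hreg).2]
      by_cases h2 : 2 ∣ orderOf (h : G)
      · have ho : orderOf (h : G) = 2 := orderOf_eq_prime (hsq _ h2) hg1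
        rw [if_pos (show h ∈ I by simpa [hI] using ho), B.val_involution hf ho]
        norm_num
      · rw [if_neg (fun hh => h2 (by rw [(Finset.mem_filter.1 hh).2])),
          B.val_ne_of_odd hf hreg (Nat.odd_iff.2 (by omega)) hg1, Int.cast_zero]
    rw [Finset.sum_congr rfl fun h _ => hval h, Finset.sum_add_distrib, Finset.sum_ite_eq',
      Finset.sum_ite_mem, Finset.univ_inter, if_pos (Finset.mem_univ _), Finset.sum_const,
      nsmul_eq_mul] at hsum
    have h2 : ((I.card : ℕ) : ℂ) = ((p - 2 : ℕ) : ℂ) := by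
      rw [Nat.cast_sub (show 2 ≤ p by omega), Nat.cast_ofNat]
      linear_combination -hsum
    exact_mod_cast h2
  -- an involution
  obtain ⟨z₀, hz₀⟩ : ∃ z : H, z ∈ I := Finset.card_pos.1 (by omega)
  have hz₀' : orderOf (z₀ : G) = 2 := (Finset.mem_filter.1 hz₀).2
  obtain ⟨e, he⟩ : ∃ e, p - 1 = 2 ^ e := by
    obtain ⟨hc, hexp, -⟩ := hinv _ hz₀'
    have : IsPGroup 2 (Subgroup.centralizer ({(z₀ : G)} : Set G)) := fun x =>
      ⟨1, Subtype.ext (by rw [SubgroupClass.coe_pow, pow_one, pow_two]; exact hexp x x.2)⟩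
    obtain ⟨e, he⟩ := IsPGroup.iff_card.1 this
    exact ⟨e, hc ▸ he⟩
  have he2 : 2 ≤ e := by
    by_contra hcon
    have : 2 ^ e ≤ 2 ^ 1 := Nat.pow_le_pow_right (by norm_num) (by omega)
    omega
  obtain ⟨b, rfl⟩ : ∃ b, e = b + 1 := ⟨e - 1, by omega⟩
  have hH' : Nat.card H = 2 ^ b * (p - 2) := by
    rw [he, pow_succ] at hH
    linarith
  have hfib : ∀ x ∈ I, (I.filter fun y : H => Subgroup.centralizer ({(y : G)} : Set G) =
      Subgroup.centralizer ({(x : G)} : Set G)).card = 2 ^ b - 1 := by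
    intro x hx
    have hxo : orderOf (x : G) = 2 := (Finset.mem_filter.1 hx).2
    obtain ⟨hCc, hCexp, -⟩ := hinv _ hxo
    set C := Subgroup.centralizer ({(x : G)} : Set G) with hCdef
    have hx2 : IsPGroup 2 (Subgroup.zpowers x) := IsPGroup.of_card (n := 1) (by
      rw [Nat.card_zpowers, ← Subgroup.orderOf_coe, hxo, pow_one])
    obtain ⟨Q, hQ⟩ := hx2.exists_le_sylow
    have hQcard : Nat.card (Q : Subgroup H) = 2 ^ b := by
      rw [Q.card_eq_multiplicity, hH']
      have hodd : ¬ 2 ∣ p - 2 := by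
        intro hd
        have h2 : 2 ∣ p - 1 := he ▸ dvd_pow_self 2 (by omega)
        omega
      rw [Nat.factorization_mul (by positivity) (by omega), Finsupp.add_apply,
        Nat.Prime.factorization_pow Nat.prime_two, Finsupp.single_eq_same,
        Nat.factorization_eq_zero_of_not_dvd hodd, add_zero]
    have hQexp : ∀ q ∈ (Q : Subgroup H), q * q = 1 := by
      intro q hq
      by_cases hq1 : q = 1
      · simp [hq1]
      obtain ⟨k, hk⟩ := Q.isPGroup' ⟨q, hq⟩
      have h2 : 2 ∣ orderOf (q : G) := by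
        obtain ⟨j, -, hj⟩ := (Nat.dvd_prime_pow Nat.prime_two).1 (orderOf_dvd_of_pow_eq_one
          (show q ^ 2 ^ k = 1 from congrArg Subtype.val hk))
        rw [Subgroup.orderOf_coe, hj]
        exact dvd_pow_self 2 fun h0 => hq1 (orderOf_eq_one_iff.1 (by rw [hj, h0, pow_zero]))
      exact Subtype.ext (by rw [Subgroup.coe_mul, ← pow_two]; exact hsq _ h2)
    have hxQ : x ∈ (Q : Subgroup H) := hQ (Subgroup.mem_zpowers x)
    have hQC : (Q : Subgroup H) = C.subgroupOf H := by
      refine (Q.is_maximal' (Q := C.subgroupOf H) (fun q => ⟨1, Subtype.ext (Subtype.ext ?_)⟩) ?_).symm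
      · rw [pow_one, pow_two]
        exact hCexp _ q.2
      · intro q hq
        rw [Subgroup.mem_subgroupOf, hCdef, Subgroup.mem_centralizer_singleton_iff]
        have h1 := hQexp _ hq
        have h2 := hQexp _ hxQ
        have h3 := hQexp _ (Subgroup.mul_mem _ hq hxQ)
        have h4 : q * x = x * q := by
          calc q * x = (q * x)⁻¹ := eq_inv_of_mul_eq_one_left h3
            _ = x * q := by
              rw [mul_inv_rev, ← eq_inv_of_mul_eq_one_left h1, ← eq_inv_of_mul_eq_one_left h2]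
        exact congrArg Subtype.val h4
    have hset : (I.filter fun y : H => Subgroup.centralizer ({(y : G)} : Set G) = C) =
        (Finset.univ.filter fun y : H => y ∈ (Q : Subgroup H)).erase 1 := by
      ext y
      simp only [hI, Finset.mem_filter, Finset.mem_univ, true_and, Finset.mem_erase]
      constructor
      · rintro ⟨hy, hyC⟩
        refine ⟨fun h => by simp [h] at hy, hQC ▸ Subgroup.mem_subgroupOf.2 (hyC ▸ ?_)⟩
        exact Subgroup.mem_centralizer_singleton_iff.2 rfl
      · rintro ⟨hy1, hy⟩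
        have hyG : (y : G) ≠ 1 := fun h => hy1 (Subtype.ext h)
        rw [hQC, Subgroup.mem_subgroupOf] at hy
        have hyo : orderOf (y : G) = 2 := orderOf_eq_prime (by rw [pow_two]; exact hCexp _ hy) hyG
        refine ⟨hyo, (Subgroup.eq_of_le_of_card_ge (fun c hc => ?_) ?_).symm⟩
        · rw [Subgroup.mem_centralizer_singleton_iff]
          have h1 := hCexp _ hc
          have h2 := hCexp _ hy
          have h3 := hCexp _ (C.mul_mem hc hy)
          calc c * (y : G) = (c * (y : G))⁻¹ := eq_inv_of_mul_eq_one_left h3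
            _ = y * c := by
              rw [mul_inv_rev, ← eq_inv_of_mul_eq_one_left h1, ← eq_inv_of_mul_eq_one_left h2]
        · rw [(hinv _ hyo).1, hCc]
    rw [hset, Finset.card_erase_of_mem (Finset.mem_filter.2 ⟨Finset.mem_univ _, Q.one_mem⟩),
      ← Fintype.card_subtype, ← Nat.card_eq_fintype_card]
    exact congrArg (· - 1) hQcard
  have hdvd : 2 ^ b - 1 ∣ p - 2 := by
    rw [← hIcard, Finset.card_eq_sum_card_image
      (fun y : H => Subgroup.centralizer ({(y : G)} : Set G)) I]
    refine Finset.dvd_sum fun C hC => ?_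
    obtain ⟨x, hx, rfl⟩ := Finset.mem_image.1 hC
    rw [hfib x hx]
  have hb : b = 1 := by
    have h2 : 2 ≤ 2 ^ b := by
      calc 2 = 2 ^ 1 := rfl
        _ ≤ 2 ^ b := Nat.pow_le_pow_right (by norm_num) (by omega)
    have h3 : p - 2 = 2 * (2 ^ b - 1) + 1 := by rw [pow_succ] at he; omega
    have h4 : 2 ^ b - 1 ∣ 1 := (Nat.dvd_add_right (dvd_mul_left _ 2)).1 (h3 ▸ hdvd)
    have h5 : 2 ^ b = 2 ^ 1 := by
      have := Nat.le_of_dvd one_pos h4
      omega
    exact Nat.pow_right_injective le_rfl h5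
  subst hb
  have hp5 : p = 5 := by norm_num at he; omega
  exact ⟨hp5, by rw [hG, hp5]⟩

end Cfsg.Agent.DegreePSubTwo
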