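import Cfsg.Agent.Lib.DegreePSubTwo.Order

/-!
# Counting: the order of the group and the involution centralisers
-/

set_option autoImplicit false
set_option linter.style.haveILetI false
set_option linter.unusedSectionVars false

namespace Cfsg.Agent.DegreePSubTwo

open Cfsg Cfsg.Agent
open scoped ComplexConjugate Classical

universe u

variable {G : Type u} [Group G] [Fintype G] {p : ℕ} [hp : Fact p.Prime]
variable {P : Sylow p G} {θ₀ : IrrCharacter G}

/-- A class function summed over the group: regular part plus the conjugates of `P`. -/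
theorem sum_split_regular (sc : DefectOne.SelfCent P) {f : G → ℂ} (hf : IsClassFunction G f) :
    ∑ g : G, f g = (∑ g ∈ Finset.univ.filter (fun g : G => IsPRegular p g), f g) +
      (Nat.card (Sylow p G) : ℂ) * ∑ y ∈ Finset.univ.erase (1 : (P : Subgroup G)), f y := by
  haveI : Fintype (Sylow p G) := Fintype.ofFinite _
  rw [← Finset.sum_filter_add_sum_filter_not Finset.univ (fun g : G => IsPRegular p g)]
  congr 1
  let T : Sylow p G → Finset G := fun Q =>
    Finset.univ.filter fun g => g ∈ (Q : Subgroup G) ∧ g ≠ 1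
  have hcardQ : ∀ Q : Sylow p G, Nat.card (Q : Subgroup G) = p := fun Q => by
    rw [Q.card_eq_multiplicity, ← P.card_eq_multiplicity]; exact sc.card
  have hz : ∀ (Q : Sylow p G) (g : G), g ∈ (Q : Subgroup G) → g ≠ 1 →
      Subgroup.zpowers g = (Q : Subgroup G) ∧ orderOf g = p := fun Q g hg hg1 => by
    have ho : orderOf g = p := ((Nat.dvd_prime hp.out).1
      (hcardQ Q ▸ Subgroup.orderOf_dvd_natCard _ hg)).resolve_left
        fun h => hg1 (orderOf_eq_one_iff.1 h)
    exact ⟨Subgroup.eq_of_le_of_card_ge (Subgroup.zpowers_le.2 hg)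
      (by rw [hcardQ, Nat.card_zpowers, ho]), ho⟩
  have hset : Finset.univ.filter (fun g : G => ¬ IsPRegular p g) = Finset.univ.biUnion T := by
    ext g
    simp only [Finset.mem_filter, Finset.mem_univ, true_and, Finset.mem_biUnion, T]
    constructor
    · intro hg
      obtain ⟨x, hx, hx1⟩ := exists_conj_mem sc hg
      refine ⟨x • P, ⟨x⁻¹ * g * x, hx, ?_⟩, fun h => hx1 (by rw [h]; group)⟩
      show x * (x⁻¹ * g * x) * x⁻¹ = g
      group
    · rintro ⟨Q, hg, hg1⟩ h
      exact h ((hz Q g hg hg1).2 ▸ dvd_refl p)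
  rw [hset, Finset.sum_biUnion]
  · rw [Finset.sum_congr rfl fun Q _ =>
      show ∑ g ∈ T Q, f g = ∑ y ∈ Finset.univ.erase (1 : (P : Subgroup G)), f y from ?_,
      Finset.sum_const, Finset.card_univ, ← Nat.card_eq_fintype_card, nsmul_eq_mul]
    obtain ⟨x, rfl⟩ := MulAction.exists_smul_eq G P Q
    refine (Finset.sum_bij (fun (y : (P : Subgroup G)) _ => x * (y : G) * x⁻¹) ?_ ?_ ?_ ?_).symm
    · intro y hy
      simp only [T, Finset.mem_filter, Finset.mem_univ, true_and]
      refine ⟨⟨y, y.2, rfl⟩, fun h => (Finset.mem_erase.1 hy).1 (Subtype.ext ?_)⟩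
      exact conj_eq_one_iff.1 h
    · intro a _ b _ h
      exact Subtype.ext (mul_left_cancel (mul_right_cancel h))
    · intro g hg
      simp only [T, Finset.mem_filter, Finset.mem_univ, true_and] at hg
      obtain ⟨⟨v, hv, rfl⟩, hg1⟩ := hg
      refine ⟨⟨v, hv⟩, Finset.mem_erase.2 ⟨fun e => hg1 ?_, Finset.mem_univ _⟩, rfl⟩
      have : v = 1 := congrArg Subtype.val e
      simp [this]
    · intro y _
      exact (hf _ _).symm
  · intro Q _ Q' _ hne
    refine Finset.disjoint_left.2 fun g hg hg' => hne ?_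
    simp only [T, Finset.mem_filter, Finset.mem_univ, true_and] at hg hg'
    exact Sylow.ext ((hz Q g hg.1 hg.2).1.symm.trans (hz Q' g hg'.1 hg'.2).1)

variable (B : Block P θ₀) (hf : ∀ g : G, θ₀.1 g = θ₀.1 1 → g = 1)

/-- The elements with a given value. -/
noncomputable def Block.level (v : ℤ) : Finset G :=
  Finset.univ.filter fun g => IsPRegular p g ∧ g ≠ 1 ∧ B.val g = v

include B in
theorem Block.card_G : Nat.card G = Nat.card (Sylow p G) * (2 * p) := by
  rw [← B.card_N, ← SmallSimple.card_sylow_mul_card_normalizer P]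

include hf in
theorem Block.sum_regular (φ : ℤ → ℤ) (hφ : φ 0 = 0) (hne : (p : ℤ) - 3 ≠ 1) :
    (∑ g ∈ Finset.univ.filter (fun g : G => IsPRegular p g), φ (B.val g)) =
      φ ((p : ℤ) - 2) + φ (-1) * (B.level (-1)).card + φ 1 * (B.level 1).card +
        φ ((p : ℤ) - 3) * (B.level ((p : ℤ) - 3)).card := by
  have h5 : (5 : ℤ) ≤ p := by exact_mod_cast B.five
  have key : ∀ g ∈ Finset.univ.filter (fun g : G => IsPRegular p g), φ (B.val g) =
      (if g = 1 then φ ((p : ℤ) - 2) else 0) + (if g ∈ B.level (-1) then φ (-1) else 0) +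
        (if g ∈ B.level 1 then φ 1 else 0) +
          (if g ∈ B.level ((p : ℤ) - 3) then φ ((p : ℤ) - 3) else 0) := by
    intro g hg
    have hg' : IsPRegular p g := (Finset.mem_filter.1 hg).2
    by_cases hg1 : g = 1
    · subst hg1
      simp [Block.level, B.val_one]
    simp only [Block.level, Finset.mem_filter, Finset.mem_univ, true_and, hg', hg1, ne_eq,
      not_false_eq_true, if_false, zero_add]
    rcases B.val_cases hf hg' hg1 with ⟨h, -⟩ | ⟨h | h, -, -⟩ | ⟨hp5, h, -, -, -⟩ <;> rw [h]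
    · simp [show (-1 : ℤ) ≠ (p : ℤ) - 3 by omega]
    · simp [hφ, show (0 : ℤ) ≠ (p : ℤ) - 3 by omega]
    · simp [hne, show (p : ℤ) - 3 ≠ -1 by omega]
    · simp [hne.symm]
  have hsub : ∀ v, (Finset.univ.filter fun g : G => IsPRegular p g) ∩ B.level v = B.level v :=
    fun v => Finset.inter_eq_right.2 fun g hg => Finset.mem_filter.2
      ⟨Finset.mem_univ _, (Finset.mem_filter.1 hg).2.1⟩
  rw [Finset.sum_congr rfl key, Finset.sum_add_distrib, Finset.sum_add_distrib,
    Finset.sum_add_distrib, Finset.sum_ite_eq',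
    if_pos (Finset.mem_filter.2 ⟨Finset.mem_univ _, by simp [IsPRegular, hp.out.ne_one]⟩),
    Finset.sum_ite_mem, Finset.sum_ite_mem, Finset.sum_ite_mem, hsub, hsub, hsub,
    Finset.sum_const, Finset.sum_const, Finset.sum_const]
  simp only [nsmul_eq_mul]
  ring

include hf in
/-- The two orthogonality relations of `θ₀`. -/
theorem Block.counts :
    ((B.level (-1)).card : ℤ) = (p : ℤ) - 2 + (B.level 1).card +
        ((p : ℤ) - 3) * (B.level ((p : ℤ) - 3)).card + 2 * Nat.card (Sylow p G) ∧
      2 * (Nat.card (Sylow p G) : ℤ) = ((p : ℤ) - 1) * ((p : ℤ) - 2) + 2 * (B.level 1).card +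
        ((p : ℤ) - 2) * ((p : ℤ) - 3) * (B.level ((p : ℤ) - 3)).card := by
  have h5 : (5 : ℤ) ≤ p := by exact_mod_cast B.five
  have hne : (p : ℤ) - 3 ≠ 1 := by omega
  have hθ := B.θ₀_mem
  have hcard : Nat.card (P : Subgroup G) = p := B.sc.card
  have hcls : IsClassFunction G θ₀.1 := Char.IsCharacter.isClassFunction (Char.irr_isCharacter θ₀)
  have hcls2 : IsClassFunction G fun g => θ₀.1 g * θ₀.1 g := fun g h => by
    show θ₀.1 (h * g * h⁻¹) * θ₀.1 (h * g * h⁻¹) = θ₀.1 g * θ₀.1 g
    rw [hcls g h]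
  have htriv : θ₀ ≠ Char.trivialChar G := fun h => B.triv_notMem (h ▸ hθ)
  have hcast : ((p - 2 : ℕ) : ℂ) = (p : ℂ) - 2 := by
    rw [Nat.cast_sub (show 2 ≤ p by omega), Nat.cast_ofNat]
  -- `⟨θ, 1⟩ = 0`
  have h1 : ∑ g : G, θ₀.1 g = 0 := by
    have h := Char.classInner_irr_of_ne θ₀.2 (Char.trivialChar G).2
      (fun e => htriv (Subtype.ext e))
    simp only [classInner, Char.trivialChar_apply, map_one, mul_one] at h
    exact (mul_eq_zero.1 h).resolve_left (inv_ne_zero Char.card_ne_zero)
  rw [sum_split_regular B.sc hcls] at h1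
  have hS1 : ∑ y ∈ Finset.univ.erase (1 : (P : Subgroup G)), θ₀.1 y = 2 := by
    have := DefectOne.sum_split (P := P) θ₀
    rw [(B.sum_P hθ).1, B.deg_Y θ₀ hθ, hcast] at this
    linear_combination -this
  rw [hS1, Finset.sum_congr rfl fun g hg => (B.val_spec (Finset.mem_filter.1 hg).2).2,
    ← Int.cast_sum] at h1
  have e1 := B.sum_regular hf (fun v => v) rfl hne
  rw [e1] at h1
  have E1 : (p : ℤ) - 2 + -1 * (B.level (-1)).card + 1 * (B.level 1).card +
      ((p : ℤ) - 3) * (B.level ((p : ℤ) - 3)).card + (Nat.card (Sylow p G) : ℤ) * 2 = 0 := by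
    exact_mod_cast h1
  -- `⟨θ, θ⟩ = 1`
  have hreal : ∀ g, conj (θ₀.1 g) = θ₀.1 g := fun g =>
    Complex.conj_eq_iff_im.2 (B.im_eq_zero hθ g)
  have h2 : ∑ g : G, θ₀.1 g * θ₀.1 g = Nat.card G := by
    have h := Char.classInner_irr_self θ₀.2
    simp only [classInner, hreal] at h
    field_simp [Char.card_ne_zero] at h
    rw [Finset.sum_congr rfl fun g _ => (pow_two (θ₀.1 g)).symm]
    exact h
  rw [sum_split_regular B.sc hcls2] at h2
  have hS2 : ∑ y ∈ Finset.univ.erase (1 : (P : Subgroup G)), θ₀.1 y * θ₀.1 y =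
      2 * ((p : ℂ) - 2) := by
    have h := (B.sum_P hθ).2
    rw [← Finset.add_sum_erase _ _ (Finset.mem_univ (1 : (P : Subgroup G))), Subgroup.coe_one,
      Char.apply_one_eq_degree, B.deg_Y θ₀ hθ, hcast] at h
    linear_combination h
  rw [hS2, B.card_G,
    Finset.sum_congr rfl fun g hg => show θ₀.1 g * θ₀.1 g = ((B.val g * B.val g : ℤ) : ℂ) by
      rw [(B.val_spec (Finset.mem_filter.1 hg).2).2]; push_cast; ring,
    ← Int.cast_sum] at h2
  have e2 := B.sum_regular hf (fun v => v * v) (mul_zero _) hne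
  rw [e2] at h2
  have E2 : ((p : ℤ) - 2) * ((p : ℤ) - 2) + -1 * -1 * (B.level (-1)).card +
      1 * 1 * (B.level 1).card + ((p : ℤ) - 3) * ((p : ℤ) - 3) * (B.level ((p : ℤ) - 3)).card +
        (Nat.card (Sylow p G) : ℤ) * (2 * ((p : ℤ) - 2)) =
      (Nat.card (Sylow p G) : ℤ) * (2 * p) := by
    exact_mod_cast h2
  exact ⟨by linear_combination -E1, by linear_combination -E1 - E2⟩

theorem Block.mem_level {v : ℤ} {g : G} :
    g ∈ B.level v ↔ IsPRegular p g ∧ g ≠ 1 ∧ B.val g = v := by
  simp [Block.level]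

theorem Block.conj_mem_level {v : ℤ} {g h : G} (hg : g ∈ B.level v) (hgh : IsConj g h) :
    h ∈ B.level v := by
  rw [B.mem_level] at hg ⊢
  obtain ⟨hr, hg1, hv⟩ := hg
  obtain ⟨x, rfl⟩ := isConj_iff.1 hgh
  have ho : orderOf (x * g * x⁻¹) = orderOf g :=
    (orderOf_injective (MulAut.conj x).toMonoidHom (MulAut.conj x).injective g)
  have hr' : IsPRegular p (x * g * x⁻¹) := by rw [IsPRegular, ho]; exact hr
  refine ⟨hr', fun e => hg1 (conj_eq_one_iff.1 e), ?_⟩
  have h1 := (B.val_spec hr').2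
  rw [Char.IsCharacter.isClassFunction (Char.irr_isCharacter θ₀) g x, (B.val_spec hr).2] at h1
  rw [← hv]
  exact_mod_cast h1.symm

theorem Block.card_le_mul_level {v : ℤ} {g : G} (hg : g ∈ B.level v) :
    Nat.card G ≤ Nat.card (Subgroup.centralizer ({g} : Set G)) * (B.level v).card := by
  rw [← Char.card_centralizer_mul_card_conj g]
  refine Nat.mul_le_mul_left _ ?_
  rw [Nat.card_eq_fintype_card, Fintype.card_subtype]
  exact Finset.card_le_card fun h hh => B.conj_mem_level hg (Finset.mem_filter.1 hh).2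

include B hf in
theorem Block.not_eight_dvd (g : G) : ¬ 8 ∣ orderOf g := by
  intro h8
  set m := orderOf g / 8
  have hm : m ≠ 0 := fun h => by
    have := Nat.div_mul_cancel h8
    rw [show orderOf g / 8 = 0 from h, zero_mul] at this
    exact (orderOf_pos g).ne' this.symm
  have hord : orderOf (g ^ m) = 8 := by
    rw [orderOf_pow_of_dvd hm ⟨8, (Nat.div_mul_cancel h8).symm⟩]
    exact Nat.div_div_self h8 (orderOf_pos g).ne'
  set h := g ^ m
  have hreg : IsPRegular p h := B.isPRegular_of_two_dvd (by rw [hord]; norm_num)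
  have hpow : ∀ k, k < 8 → k ≠ 0 → h ^ k ≠ 1 := fun k hk hk0 =>
    pow_ne_one_of_lt_orderOf hk0 (by rw [hord]; exact hk)
  have hh1 : h ≠ 1 := by simpa using hpow 1 (by norm_num) one_ne_zero
  rcases B.val_cases hf hreg hh1 with ⟨-, h2⟩ | ⟨-, -, h0⟩ | ⟨-, -, -, h2, -⟩
  · exact hpow 2 (by norm_num) (by norm_num) h2
  · rcases B.val_cases hf (B.isPRegular_sq hreg) (hpow 2 (by norm_num) (by norm_num)) with
      ⟨h', -⟩ | ⟨-, -, h'⟩ | ⟨-, h', -, -, -⟩
    · omega
    · have h4 : orderOf ((h ^ 2) ^ 2) = 2 := by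
        rw [← pow_mul, orderOf_pow_of_dvd (by norm_num) (by rw [hord]; norm_num), hord]
      have := B.val_involution hf h4
      omega
    · omega
  · exact hpow 4 (by norm_num) (by norm_num) h2

include hf in
theorem Block.val_two_element {g : G} (hg1 : g ≠ 1) {k : ℕ} (hg : orderOf g = 2 ^ k) :
    B.val g = -1 ∨ B.val g = 1 := by
  have hk : k = 1 ∨ k = 2 := by
    have h1 : k ≠ 0 := fun h => hg1 (orderOf_eq_one_iff.1 (by rw [hg, h, pow_zero]))
    have h2 : k < 3 := by
      by_contra h
      exact B.not_eight_dvd hf g (hg ▸ (pow_dvd_pow 2 (show 3 ≤ k by omega)))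
    omega
  rcases hk with rfl | rfl
  · exact Or.inl (B.val_involution hf (by simpa using hg))
  have hreg : IsPRegular p g := B.isPRegular_of_two_dvd (by rw [hg]; norm_num)
  rcases B.val_cases hf hreg hg1 with ⟨h, -⟩ | ⟨-, -, h0⟩ | ⟨-, h, -, -, -⟩
  · exact Or.inl h
  · exfalso
    have := B.val_involution hf (z := g ^ 2)
      (by rw [orderOf_pow_of_dvd (by norm_num) (by rw [hg]; norm_num), hg]; norm_num)
    omega
  · exact Or.inr h

include B hf in
/-- For `p = 5` an involution centraliser has order at most 24. -/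
theorem Block.centralizer_le (hp5 : p = 5) {z : G} (hz : orderOf z = 2) :
    Nat.card (Subgroup.centralizer ({z} : Set G)) ≤ 24 := by
  set C := Subgroup.centralizer ({z} : Set G)
  have hprime : ∀ q : ℕ, q.Prime → q ∣ Nat.card C → q = 2 ∨ q = 3 := by
    intro q hq hqC
    by_contra hcon
    haveI : Fact q.Prime := ⟨hq⟩
    obtain ⟨⟨s, hs⟩, hord⟩ := exists_prime_orderOf_dvd_card' (G := C) q hqC
    rw [Subgroup.orderOf_mk] at hord
    have hcomm : Commute s z := Subgroup.mem_centralizer_singleton_iff.1 hs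
    have hsz : orderOf (s * z) = 2 * q := by
      rw [hcomm.orderOf_mul_eq_mul_orderOf_of_coprime (by
        rw [hord, hz]; exact (Nat.coprime_primes hq Nat.prime_two).2 (by omega)), hord, hz, mul_comm]
    have h4 : ¬ 4 ∣ orderOf (s * z) := by
      rw [hsz]
      intro h
      have h2q : 2 ∣ q := Nat.dvd_of_mul_dvd_mul_left (k := 2) (by norm_num) h
      rcases (Nat.dvd_prime hq).1 h2q with h' | h' <;> omega
    obtain ⟨K, l, hl, -, ⟨a, ha⟩, ⟨b, hb⟩, -⟩ := B.even_order hf ⟨q, hsz⟩ h4
    have hlq : l = q := by omega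
    subst hlq
    have hl5 : 5 ≤ l := by
      have := hq.two_le
      rcases Nat.lt_or_ge l 5 with h | h
      · interval_cases l
        · omega
        · omega
        · exact absurd hq (by norm_num)
      · exact h
    rw [hp5] at ha hb
    push_cast at ha hb
    have h1 : 0 ≤ (2 * (l : ℤ)) * b := by positivity
    have h2 : (a : ℤ) = 0 := by
      by_contra hne
      have : (1 : ℤ) ≤ a := by omega
      nlinarith
    rw [h2, mul_zero] at ha
    omega
  -- Sylow 2 and 3 parts
  have hpart : ∀ q : ℕ, q.Prime → ∀ e : ℕ, q ^ e ∣ Nat.card C →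
      (q = 2 → q ^ e ∣ 8) ∧ (q = 3 → q ^ e ∣ 3) := by
    intro q hq e he
    haveI : Fact q.Prime := ⟨hq⟩
    obtain ⟨X, hX⟩ := Sylow.exists_subgroup_card_pow_prime q he
    set X' := X.map C.subtype with hX'
    have hX'c : Nat.card X' = q ^ e := by
      rw [Subgroup.card_map_of_injective C.subtype_injective, hX]
    have hcard : (p - 2 : ℕ) = 3 := by omega
    have hone : θ₀.1 1 = 3 := by
      rw [Char.apply_one_eq_degree, B.deg_Y θ₀ B.θ₀_mem, hcard]; norm_num
    have hordx : ∀ x ∈ X', ∃ k, orderOf x = q ^ k := fun x hx => by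
      obtain ⟨k, -, hk⟩ := (Nat.dvd_prime_pow hq).1 (hX'c ▸ Subgroup.orderOf_dvd_natCard X' hx)
      exact ⟨k, hk⟩
    constructor
    · rintro rfl
      obtain ⟨n, hn⟩ := dvd_sum_subgroup
        (Char.IsCharacter.mul (Char.irr_isCharacter θ₀) (Char.irr_isCharacter θ₀)) X'
      simp only [Pi.mul_apply] at hn
      have h1 : ∀ x ∈ Finset.univ.erase (1 : X'), θ₀.1 x * θ₀.1 x = 1 := by
        intro x hx
        have hx1 : (x : G) ≠ 1 := fun e => (Finset.mem_erase.1 hx).1 (Subtype.ext e)
        obtain ⟨k, hk⟩ := hordx x x.2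
        have hreg : IsPRegular p (x : G) := by
          intro h
          rw [hk] at h
          have := (Nat.prime_dvd_prime_iff_eq hp.out Nat.prime_two).1 (hp.out.dvd_of_dvd_pow h)
          omega
        rw [(B.val_spec hreg).2]
        rcases B.val_two_element hf hx1 hk with h | h <;> simp [h]
      simp only [← Finset.add_sum_erase _ _ (Finset.mem_univ (1 : X')), Subgroup.coe_one] at hn
      rw [Finset.sum_congr rfl h1, hone, Finset.sum_const, Finset.card_erase_of_mem
        (Finset.mem_univ _), Finset.card_univ, ← Nat.card_eq_fintype_card, hX'c, nsmul_eq_mul,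
        mul_one] at hn
      have hpos : 1 ≤ 2 ^ e := Nat.one_le_two_pow
      have h2 : (8 : ℤ) + (2 ^ e : ℕ) = (2 ^ e : ℕ) * n := by
        rw [Nat.cast_sub hpos] at hn
        have : ((8 : ℤ) + (2 ^ e : ℕ) : ℂ) = (((2 ^ e : ℕ) * n : ℤ) : ℂ) := by
          push_cast at hn ⊢
          linear_combination hn
        exact_mod_cast this
      exact Int.natCast_dvd_natCast.1 ⟨(n : ℤ) - 1, by push_cast at h2 ⊢; linarith⟩
    · rintro rfl
      obtain ⟨n, hn⟩ := dvd_sum_subgroup (Char.irr_isCharacter θ₀) X'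
      have h1 : ∀ x ∈ Finset.univ.erase (1 : X'), θ₀.1 x = 0 := by
        intro x hx
        have hx1 : (x : G) ≠ 1 := fun e => (Finset.mem_erase.1 hx).1 (Subtype.ext e)
        obtain ⟨k, hk⟩ := hordx x x.2
        have hreg : IsPRegular p (x : G) := by
          intro h
          rw [hk] at h
          have := (Nat.prime_dvd_prime_iff_eq hp.out Nat.prime_three).1 (hp.out.dvd_of_dvd_pow h)
          omega
        rw [(B.val_spec hreg).2,
          B.val_ne_of_odd hf hreg (by rw [hk]; exact Odd.pow (by decide)) hx1, Int.cast_zero]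
      simp only [← Finset.add_sum_erase _ _ (Finset.mem_univ (1 : X')), Subgroup.coe_one] at hn
      rw [Finset.sum_congr rfl h1, hone, Finset.sum_const_zero, add_zero, hX'c] at hn
      exact ⟨n, by exact_mod_cast hn⟩
  have hdvd : Nat.card C ∣ 24 := by
    refine (Nat.dvd_iff_prime_pow_dvd_dvd _ _).2 fun q e hq he => ?_
    rcases Nat.eq_zero_or_pos e with rfl | he0
    · simp
    rcases hprime q hq ((dvd_pow_self q he0.ne').trans he) with rfl | rfl
    · exact ((hpart 2 hq e he).1 rfl).trans (by norm_num)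
    · exact ((hpart 3 hq e he).2 rfl).trans (by norm_num)
  exact Nat.le_of_dvd (by norm_num) hdvd

include B in
theorem Block.orderOf_two_dvd {z : G} (hz : orderOf z = 2) : IsPRegular p z :=
  B.isPRegular_of_two_dvd (by rw [hz])

include hf in
/-- No element has value `p - 3`. -/
theorem Block.level_top : B.level ((p : ℤ) - 3) = ∅ := by
  have h5 := B.five
  by_contra hne
  obtain ⟨g, hg⟩ := Finset.nonempty_iff_ne_empty.2 hne
  obtain ⟨hreg, hg1, hv⟩ := B.mem_level.1 hg
  obtain ⟨h0, hp6⟩ : B.val (g ^ 2) = 0 ∧ p ≤ 6 := by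
    rcases B.val_cases hf hreg hg1 with ⟨h, -⟩ | ⟨-, -, h⟩ | ⟨-, h, -, -, -⟩
    · omega
    · refine ⟨h, ?_⟩
      have hpos := positivity (Char.irr_isCharacter θ₀) g
      rw [(B.val_spec hreg).2, (B.val_spec (B.isPRegular_sq hreg)).2,
        (B.val_spec (g := (1 : G)) (by simp [IsPRegular, hp.out.ne_one])).2, h, hv, B.val_one] at hpos
      simp only [Complex.intCast_re] at hpos
      push_cast at hpos
      have : (p : ℝ) ≤ 6 := by linarith
      exact_mod_cast this
    · omega
  have hp5 : p = 5 := by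
    have : p ≠ 6 := fun h => absurd hp.out (by rw [h]; norm_num)
    omega
  have h2 : 2 ∣ orderOf g := by
    by_contra h
    have := B.val_ne_of_odd hf hreg (Nat.odd_iff.2 (by omega)) hg1
    omega
  set z := g ^ (orderOf g / 2)
  have hz : orderOf z = 2 := by
    rw [orderOf_pow_of_dvd (by have := Nat.div_mul_cancel h2; have := orderOf_pos g; omega)
      ⟨2, (Nat.div_mul_cancel h2).symm⟩]
    exact Nat.div_div_self h2 (orderOf_pos g).ne'
  have hle : Nat.card (Subgroup.centralizer ({g} : Set G)) ≤ 24 := by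
    refine le_trans ?_ (B.centralizer_le hf hp5 hz)
    refine Nat.le_of_dvd Nat.card_pos (Subgroup.card_dvd_of_le fun x hx => ?_)
    rw [Subgroup.mem_centralizer_singleton_iff] at hx ⊢
    exact ((show Commute x g from hx).pow_right _).eq
  have h1 := B.card_le_mul_level hg
  have h3 := (B.counts hf).2
  have h4 : Nat.card G ≤ 24 * (B.level ((p : ℤ) - 3)).card :=
    h1.trans (Nat.mul_le_mul_right _ hle)
  rw [B.card_G] at h4
  subst hp5
  norm_num [-Nat.card_eq_fintype_card] at h3 h4
  omega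

include B hf in
theorem Block.no_six {g : G} (hg : 2 ∣ orderOf g) (h4 : ¬ 4 ∣ orderOf g) : g ^ 2 = 1 := by
  obtain ⟨K, l, hl, -, ⟨a, ha⟩, ⟨b, hb⟩, hK⟩ := B.even_order hf hg h4
  have hreg : IsPRegular p g := B.isPRegular_of_two_dvd hg
  have h5 := B.five
  have hK0 : K = 0 := by
    rw [hK, Finset.card_eq_zero, Finset.filter_eq_empty_iff]
    intro j hj h
    have hj1 : g ^ j ≠ 1 := fun e => by rw [e, B.val_one] at h; omega
    have hmem : g ^ j ∈ B.level ((p : ℤ) - 3) :=
      B.mem_level.2 ⟨fun h' => hreg (h'.trans (orderOf_pow_dvd _)), hj1, h⟩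
    rw [B.level_top hf] at hmem
    exact absurd hmem (Finset.notMem_empty _)
  subst hK0
  simp only [Nat.cast_zero, mul_zero, add_zero, sub_zero] at ha hb
  have h2 : ((l : ℤ) * ((b : ℤ) - a)) = 1 := by linarith
  have hl1 : l = 1 := by
    have := Int.eq_one_of_mul_eq_one_right (by positivity) h2
    exact_mod_cast this
  rw [← show orderOf g = 2 by omega, pow_orderOf_eq_one]

include hf in
/-- No element has value `1`. -/
theorem Block.level_one : B.level 1 = ∅ := by
  have h5 := B.five
  by_contra hne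
  obtain ⟨g, hg⟩ := Finset.nonempty_iff_ne_empty.2 hne
  obtain ⟨hreg, hg1, hv⟩ := B.mem_level.1 hg
  rcases B.val_cases hf hreg hg1 with ⟨h, -⟩ | ⟨h, -, -⟩ | ⟨hp5, -, hg2, hg4, -⟩
  · omega
  · omega
  have hord : orderOf g = 4 := by
    obtain ⟨i, hi, he⟩ := (Nat.dvd_prime_pow Nat.prime_two).1
      (orderOf_dvd_of_pow_eq_one (show g ^ 2 ^ 2 = 1 from hg4))
    interval_cases i
    · exact absurd (orderOf_eq_one_iff.1 (by simpa using he)) hg1
    · exact absurd (by rw [show 2 = orderOf g by simpa using he.symm, pow_orderOf_eq_one]) hg2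
    · simpa using he
  set C := Subgroup.centralizer ({g} : Set G)
  have hz : orderOf (g ^ 2) = 2 := by
    rw [orderOf_pow_of_dvd (by norm_num) (by rw [hord]; norm_num), hord]
  have hle24 : C ≤ Subgroup.centralizer ({g ^ 2} : Set G) := fun x hx => by
    rw [Subgroup.mem_centralizer_singleton_iff] at hx ⊢
    exact ((show Commute x g from hx).pow_right _).eq
  have h3 : ¬ 3 ∣ Nat.card C := by
    intro h
    haveI : Fact (Nat.Prime 3) := ⟨Nat.prime_three⟩
    obtain ⟨⟨s, hs⟩, hso⟩ := exists_prime_orderOf_dvd_card' (G := C) 3 h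
    rw [Subgroup.orderOf_mk] at hso
    have hc : Commute s (g ^ 2) :=
      Subgroup.mem_centralizer_singleton_iff.1 (hle24 hs)
    have h6 : orderOf (s * g ^ 2) = 6 := by
      rw [hc.orderOf_mul_eq_mul_orderOf_of_coprime (by rw [hso, hz]; norm_num), hso, hz]
    have := B.no_six hf (g := s * g ^ 2) (by rw [h6]; norm_num) (by rw [h6]; norm_num)
    have h7 := orderOf_dvd_of_pow_eq_one this
    rw [h6] at h7
    norm_num at h7
  have hC24 : Nat.card C ∣ Nat.card (Subgroup.centralizer ({g ^ 2} : Set G)) :=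
    Subgroup.card_dvd_of_le hle24
  have hCle : Nat.card C ≤ 24 := (Nat.le_of_dvd Nat.card_pos hC24).trans (B.centralizer_le hf hp5 hz)
  have hC8 : Nat.card C ≤ 16 ∨ Nat.card C = 17 ∨ Nat.card C = 19 ∨ Nat.card C = 20 ∨
      Nat.card C = 22 ∨ Nat.card C = 23 := by omega
  have h1 := B.card_le_mul_level hg
  have hc := (B.counts hf).2
  rw [B.level_top hf, Finset.card_empty] at hc
  rw [B.card_G] at h1
  subst hp5
  norm_num [-Nat.card_eq_fintype_card] at hc h1
  have hC9 : Nat.card C ≤ 8 := by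
    rcases Nat.lt_or_ge 8 (Nat.card C) with h | h
    · exfalso
      have hp2 : ∀ q : ℕ, q.Prime → q ∣ Nat.card C → q = 2 := by
        intro q hq hqC
        haveI : Fact q.Prime := ⟨hq⟩
        obtain ⟨⟨s, hs⟩, hso⟩ := exists_prime_orderOf_dvd_card' (G := C) q hqC
        rw [Subgroup.orderOf_mk] at hso
        by_contra hne2
        have hc : Commute s (g ^ 2) := Subgroup.mem_centralizer_singleton_iff.1 (hle24 hs)
        have h6 : orderOf (s * g ^ 2) = q * 2 := by
          rw [hc.orderOf_mul_eq_mul_orderOf_of_coprime (by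
            rw [hso, hz]; exact (Nat.coprime_primes hq Nat.prime_two).2 hne2), hso, hz]
        have := B.no_six hf (g := s * g ^ 2) (by rw [h6]; exact dvd_mul_left 2 q) (by
          rw [h6]
          intro h'
          rcases (Nat.dvd_prime hq).1 (Nat.dvd_of_mul_dvd_mul_right two_pos (show 2 * 2 ∣ q * 2 from h'))
            with h'' | h'' <;> omega)
        have h7 := orderOf_dvd_of_pow_eq_one this
        rw [h6] at h7
        have h8 := Nat.le_of_dvd two_pos h7
        have := hq.two_le
        omega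
      obtain ⟨k, hk⟩ : ∃ k, Nat.card C = 2 ^ k :=
        ⟨_, Nat.eq_prime_pow_of_unique_prime_dvd Nat.card_pos.ne' fun {q} hq hqC => hp2 q hq hqC⟩
      have hk4 : k = 4 := by
        have a : k < 5 := (Nat.pow_lt_pow_iff_right (by norm_num : 1 < 2)).1
          (show 2 ^ k < 2 ^ 5 by omega)
        interval_cases k <;> omega
      subst hk4
      haveI : Fact (Nat.Prime 2) := ⟨Nat.prime_two⟩
      obtain ⟨n, hn⟩ := dvd_sum_subgroup
        (Char.IsCharacter.mul (Char.irr_isCharacter θ₀) (Char.irr_isCharacter θ₀)) C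
      simp only [Pi.mul_apply] at hn
      have h1' : ∀ x ∈ Finset.univ.erase (1 : C), θ₀.1 x * θ₀.1 x = 1 := by
        intro x hx
        have hx1 : (x : G) ≠ 1 := fun e => (Finset.mem_erase.1 hx).1 (Subtype.ext e)
        obtain ⟨k, -, hk'⟩ := (Nat.dvd_prime_pow Nat.prime_two).1
          (hk ▸ Subgroup.orderOf_dvd_natCard C x.2)
        have hregx : IsPRegular 5 (x : G) := by
          intro h
          rw [hk'] at h
          have := (Nat.prime_dvd_prime_iff_eq (by norm_num) Nat.prime_two).1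
            ((by norm_num : Nat.Prime 5).dvd_of_dvd_pow h)
          omega
        rw [(B.val_spec hregx).2]
        rcases B.val_two_element hf hx1 hk' with h | h <;> simp [h]
      simp only [← Finset.add_sum_erase _ _ (Finset.mem_univ (1 : C)), Subgroup.coe_one] at hn
      rw [Finset.sum_congr rfl h1', Char.apply_one_eq_degree, B.deg_Y θ₀ B.θ₀_mem, Finset.sum_const,
        Finset.card_erase_of_mem (Finset.mem_univ _), Finset.card_univ, ← Nat.card_eq_fintype_card,
        hk, nsmul_eq_mul, mul_one] at hn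
      norm_num at hn
      have : (24 : ℕ) = 16 * n := by exact_mod_cast hn
      omega
    · exact h
  have h4 := h1.trans (Nat.mul_le_mul_right _ hC9)
  omega

include B hf in
/-- Every element of even order is an involution. -/
theorem Block.sq_of_even {g : G} (hg : 2 ∣ orderOf g) : g ^ 2 = 1 := by
  refine B.no_six hf hg fun h4 => ?_
  have h5 := B.five
  set m := orderOf g / 4
  have hm : m ≠ 0 := fun h => by
    have := Nat.div_mul_cancel h4
    rw [show orderOf g / 4 = 0 from h, zero_mul] at this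
    exact (orderOf_pos g).ne' this.symm
  have hord : orderOf (g ^ m) = 4 := by
    rw [orderOf_pow_of_dvd hm ⟨4, (Nat.div_mul_cancel h4).symm⟩]
    exact Nat.div_div_self h4 (orderOf_pos g).ne'
  have hne1 : g ^ m ≠ 1 := fun e => by rw [e, orderOf_one] at hord; omega
  rcases B.val_two_element hf hne1 (k := 2) (by rw [hord]; norm_num) with h | h
  · have hreg : IsPRegular p (g ^ m) := B.isPRegular_of_two_dvd (by rw [hord]; norm_num)
    rcases B.val_cases hf hreg hne1 with ⟨-, h2⟩ | ⟨h', -, -⟩ | ⟨-, h', -, -, -⟩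
    · have := orderOf_dvd_of_pow_eq_one h2
      rw [hord] at this
      norm_num at this
    · omega
    · omega
  · have hmem : g ^ m ∈ B.level 1 := B.mem_level.2
      ⟨B.isPRegular_of_two_dvd (by rw [hord]; norm_num), hne1, h⟩
    rw [B.level_one hf] at hmem
    exact absurd hmem (Finset.notMem_empty _)

include B hf in
/-- The structure theorem. -/
theorem Block.structure_thm :
    2 * Nat.card (Sylow p G) = (p - 1) * (p - 2) ∧ Nat.card G = p * ((p - 1) * (p - 2)) ∧
      (∀ g : G, 2 ∣ orderOf g → g ^ 2 = 1) ∧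
      ∀ z : G, orderOf z = 2 → Nat.card (Subgroup.centralizer ({z} : Set G)) = p - 1 ∧
        (∀ u ∈ Subgroup.centralizer ({z} : Set G), u * u = 1) ∧
        ∀ u : G, orderOf u = 2 → IsConj z u := by
  have h5 := B.five
  obtain ⟨c1, c2⟩ := B.counts hf
  rw [B.level_top hf, B.level_one hf, Finset.card_empty] at c1 c2
  have hn : 2 * Nat.card (Sylow p G) = (p - 1) * (p - 2) := by
    have : ((2 * Nat.card (Sylow p G) : ℕ) : ℤ) = (((p - 1) * (p - 2) : ℕ) : ℤ) := by
      push_cast [Nat.cast_sub (show 1 ≤ p by omega), Nat.cast_sub (show 2 ≤ p by omega)]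
      linear_combination c2
    exact_mod_cast this
  have hG : Nat.card G = p * ((p - 1) * (p - 2)) := by rw [B.card_G, ← hn]; ring
  refine ⟨hn, hG, fun g hg => B.sq_of_even hf hg, fun z hz => ?_⟩
  have hI : (B.level (-1)).card = p * (p - 2) := by
    have : (((B.level (-1)).card : ℕ) : ℤ) = ((p * (p - 2) : ℕ) : ℤ) := by
      rw [c1]
      push_cast [Nat.cast_sub (show 2 ≤ p by omega)]
      linear_combination c2
    exact_mod_cast this
  have hmem : ∀ u : G, orderOf u = 2 → u ∈ B.level (-1) := fun u hu => B.mem_level.2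
    ⟨B.isPRegular_of_two_dvd (by rw [hu]), fun e => by rw [e, orderOf_one] at hu; omega,
      B.val_involution hf hu⟩
  set C := Subgroup.centralizer ({z} : Set G)
  have hexp : ∀ u ∈ C, u * u = 1 := by
    intro u hu
    rw [← pow_two]
    by_cases h : 2 ∣ orderOf u
    · exact B.sq_of_even hf h
    have hc : Commute u z := Subgroup.mem_centralizer_singleton_iff.1 hu
    have hord : orderOf (u * z) = orderOf u * 2 := by
      rw [hc.orderOf_mul_eq_mul_orderOf_of_coprime (by
        rw [hz]; exact Nat.coprime_two_right.2 (Nat.odd_iff.2 (by omega))), hz]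
    have h1 := orderOf_dvd_of_pow_eq_one (B.sq_of_even hf (g := u * z) ⟨orderOf u, by rw [hord, mul_comm]⟩)
    rw [hord] at h1
    have hu1 : orderOf u = 1 := by
      have := Nat.le_of_dvd two_pos h1
      have := orderOf_pos u
      omega
    rw [orderOf_eq_one_iff.1 hu1, one_pow]
  have hdvd : Nat.card C ∣ p - 1 := by
    obtain ⟨n, hn'⟩ := dvd_sum_subgroup (Char.irr_isCharacter θ₀) C
    simp only [← Finset.add_sum_erase _ _ (Finset.mem_univ (1 : C)), Subgroup.coe_one] at hn'
    have h1 : ∀ x ∈ Finset.univ.erase (1 : C), θ₀.1 x = -1 := by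
      intro x hx
      have hx1 : (x : G) ≠ 1 := fun e => (Finset.mem_erase.1 hx).1 (Subtype.ext e)
      have hx2 : orderOf (x : G) = 2 :=
        orderOf_eq_prime (by rw [pow_two]; exact hexp x x.2) hx1
      rw [(B.val_spec (B.orderOf_two_dvd hx2)).2, B.val_involution hf hx2]
      simp
    rw [Finset.sum_congr rfl h1, Char.apply_one_eq_degree, B.deg_Y θ₀ B.θ₀_mem, Finset.sum_const,
      Finset.card_erase_of_mem (Finset.mem_univ _), Finset.card_univ, ← Nat.card_eq_fintype_card,
      nsmul_eq_mul] at hn'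
    rw [Nat.cast_sub (show 2 ≤ p by omega), Nat.cast_sub (Nat.card_pos : 0 < Nat.card C)] at hn'
    refine Int.natCast_dvd_natCast.1 ⟨(n : ℤ) + 1, ?_⟩
    have h2 : ((((p - 1 : ℕ) : ℤ)) : ℂ) = (((Nat.card C : ℤ) * ((n : ℤ) + 1) : ℤ) : ℂ) := by
      rw [Int.cast_natCast, Nat.cast_sub (show 1 ≤ p by omega)]
      push_cast at hn' ⊢
      linear_combination hn'
    exact_mod_cast h2
  set K := Finset.univ.filter fun u : G => IsConj z u
  have hK : K ⊆ B.level (-1) := fun u hu => B.conj_mem_level (hmem z hz) (Finset.mem_filter.1 hu).2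
  have hprod : Nat.card C * K.card = Nat.card G := by
    rw [← Char.card_centralizer_mul_card_conj z, Nat.card_eq_fintype_card (α := {h : G // IsConj z h}),
      Fintype.card_subtype]
  have hCle : Nat.card C ≤ p - 1 := Nat.le_of_dvd (by omega) hdvd
  have hKle : K.card ≤ p * (p - 2) := hI ▸ Finset.card_le_card hK
  rw [hG] at hprod
  have hC : Nat.card C = p - 1 := by
    refine le_antisymm hCle (Nat.le_of_mul_le_mul_right (c := p * (p - 2)) ?_
      (Nat.mul_pos hp.out.pos (by omega)))
    calc (p - 1) * (p * (p - 2)) = Nat.card C * K.card := by rw [hprod]; ring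
      _ ≤ Nat.card C * (p * (p - 2)) := Nat.mul_le_mul_left _ hKle
  refine ⟨hC, hexp, fun u hu => ?_⟩
  have hKeq : K = B.level (-1) := by
    refine Finset.eq_of_subset_of_card_le hK ?_
    rw [hI]
    rw [hC] at hprod
    exact (Nat.eq_of_mul_eq_mul_left (show 0 < p - 1 by omega)
      (hprod.trans (by ring : p * ((p - 1) * (p - 2)) = (p - 1) * (p * (p - 2))))).ge
  have := hmem u hu
  rw [← hKeq] at this
  exact (Finset.mem_filter.1 this).2

end Cfsg.Agent.DegreePSubTwo
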