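import Cfsg.Agent.Lib.DegreePSubTwo.LocalFinal
import Cfsg.Agent.Lib.DegreePSubTwo.Structure
import Cfsg.Agent.Lib.BrauerPSL.Recognition
import Cfsg.Agent.Lib.Char.Descend

/-!
# A faithful character of degree `p - 2`: `G = SL(2, 2^a) × Z(G)`
-/

set_option autoImplicit false
set_option linter.style.haveILetI false
set_option linter.unusedSectionVars false

namespace Cfsg.Agent.DegreePSubTwo

open Cfsg Cfsg.Agent DefectOne.Local
open scoped ComplexConjugate Classical

-- match the classical instances of `DefectOne.Coord`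
attribute [-instance] Subtype.instDecidableEq

universe u

variable {G : Type u} [Group G] [Fintype G] {p : ℕ} [hp : Fact p.Prime] {P : Sylow p G}

theorem zpowers_eq (hP : Nat.card P = p) {y : G} (hy : y ∈ (P : Subgroup G)) (hy1 : y ≠ 1) :
    Subgroup.zpowers y = (P : Subgroup G) := by
  refine Subgroup.eq_of_le_of_card_ge (Subgroup.zpowers_le.2 hy) ?_
  rw [Nat.card_zpowers, hP]
  have hd : orderOf y ∣ p := (Subgroup.orderOf_dvd_natCard _ hy).trans (dvd_of_eq hP)
  rcases (Nat.dvd_prime hp.out).1 hd with h | h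
  · exact absurd (orderOf_eq_one_iff.1 h) hy1
  · exact h.ge

/-- An automiser of order two inverts. -/
theorem apply_eq_inv {A : Type u} [Group A] [Fintype A] (hA : Nat.card A = p) {E : Subgroup (MulAut A)}
    (hE : Nat.card E = 2) {φ : MulAut A} (hφ : φ ∈ E) (hne : φ ≠ 1) (y : A) : φ y = y⁻¹ := by
  have hsq : ∀ x, φ (φ x) = x := fun x => by
    have h1 : (⟨φ, hφ⟩ : E) ^ 2 = 1 := hE ▸ pow_card_eq_one'
    have h2 := DFunLike.congr_fun (congrArg Subtype.val h1) x
    rwa [SubgroupClass.coe_pow, pow_two] at h2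
  have hfix : φ (φ y * y) = φ y * y := by
    rw [map_mul, hsq, DefectOne.Coord.comm_of_card hA]
  by_contra hy
  have hu : φ y * y ≠ 1 := fun h => hy (eq_inv_of_mul_eq_one_left h)
  exact hne (DefectOne.Coord.eq_of_apply_eq hA hu (φ' := 1) hfix)

/-- The local hypotheses of `Twist` hold. -/
theorem exists_twist (hP : Nat.card P = p) (h7 : 7 ≤ p) (hnn : ¬ (P : Subgroup G).Normal)
    (he : Nat.card (autGroup P) = 2) (hV : ∀ v ∈ Vsub P, v ∈ Subgroup.center G) :
    Nonempty (Twist P) := by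
  obtain ⟨φ, hφ, hφ1⟩ : ∃ φ ∈ autGroup P, φ ≠ 1 := by
    haveI : Nontrivial (autGroup P) := Finite.one_lt_card_iff_nontrivial.1 (by rw [he]; norm_num)
    obtain ⟨⟨φ, hφ⟩, hne⟩ := exists_ne (1 : autGroup P)
    exact ⟨φ, hφ, fun h => hne (Subtype.ext h)⟩
  obtain ⟨w, rfl⟩ := hφ
  have hinv : ∀ y ∈ (P : Subgroup G), (w : G) * y * (w : G)⁻¹ = y⁻¹ := fun y hy => by
    have h1 := congrArg Subtype.val (apply_eq_inv (p := p) hP he ⟨w, rfl⟩ hφ1 ⟨y, hy⟩)
    exact h1
  have hcent : ∀ y ∈ (P : Subgroup G), y ≠ 1 → ∀ g : G, g * y = y * g →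
      ∃ u ∈ (P : Subgroup G), ∃ z ∈ Subgroup.center G, g = u * z := by
    intro y hy hy1 g hg
    have hgC : g ∈ Csub P := centralizer_eq hP hy hy1 ▸ Subgroup.mem_centralizer_singleton_iff.2 hg
    obtain ⟨u, hu, v, hv, rfl⟩ := exists_mul_eq hP hgC
    exact ⟨u, hu, v, hV v hv, rfl⟩
  have hpreg : ¬ p ∣ Nat.card (Subgroup.center G) := by
    intro hd
    obtain ⟨⟨z, hz⟩, hzo⟩ := exists_prime_orderOf_dvd_card' (G := Subgroup.center G) p hd
    rw [Subgroup.orderOf_mk] at hzo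
    obtain ⟨Q, hQ⟩ := (IsPGroup.of_card (n := 1)
      (show Nat.card (Subgroup.zpowers z) = p ^ 1 by rw [Nat.card_zpowers, hzo, pow_one])).exists_le_sylow
    obtain ⟨g, rfl⟩ := MulAction.exists_smul_eq G P Q
    obtain ⟨x, hx, hxz⟩ := hQ (Subgroup.mem_zpowers z)
    have hxz' : g * x * g⁻¹ = z := hxz
    have hxc : x = z := by
      rw [show x = g⁻¹ * (g * x * g⁻¹) * g by group, hxz', Subgroup.mem_center_iff.1 hz g⁻¹,
        inv_mul_cancel_right]
    subst hxc
    have hx1 : x ≠ 1 := fun h => by rw [h, orderOf_one] at hzo; exact hp.out.ne_one hzo.symm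
    refine hnn ⟨fun a ha b => ?_⟩
    rw [← zpowers_eq hP hx hx1] at ha ⊢
    obtain ⟨k, rfl⟩ := Subgroup.mem_zpowers_iff.1 ha
    rw [Subgroup.mem_center_iff.1 (Subgroup.zpow_mem _ hz k) b, mul_inv_cancel_right]
    exact Subgroup.zpow_mem_zpowers _ _
  refine ⟨⟨hP, h7, hcent, hpreg, w, hinv, ?_, ?_⟩⟩
  · -- `w ^ 2` is central
    obtain ⟨y, hy⟩ : ∃ y : (P : Subgroup G), y ≠ 1 := by
      haveI : Nontrivial (P : Subgroup G) :=
        Finite.one_lt_card_iff_nontrivial.1 (hp.out.one_lt.trans_le hP.ge)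
      exact exists_ne 1
    have hyy : (y : G) ≠ 1 := fun h => hy (Subtype.ext h)
    obtain ⟨u, hu, z, hz, hwu⟩ := hcent y y.2 hyy ((w : G) * w) (by
      have h1 := hinv y y.2
      have h2 := hinv _ (inv_mem y.2)
      rw [inv_inv] at h2
      have h3 : (w : G) * w * y * ((w : G) * w)⁻¹ = y := by
        rw [mul_inv_rev, show (w : G) * w * y * ((w : G)⁻¹ * (w : G)⁻¹) =
          w * ((w : G) * y * (w : G)⁻¹) * (w : G)⁻¹ by group, h1, h2]
      exact mul_inv_eq_iff_eq_mul.1 h3)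
    have h4 : (w : G) * u * (w : G)⁻¹ = u := by
      have : (w : G) * (u * z) * (w : G)⁻¹ = u * z := by rw [← hwu]; group
      rw [show (w : G) * (u * z) * (w : G)⁻¹ = w * u * (w : G)⁻¹ * (w * z * (w : G)⁻¹) by group,
        Subgroup.mem_center_iff.1 hz w, mul_inv_cancel_right] at this
      exact mul_right_cancel this
    rw [hinv u hu] at h4
    have hu1 : u = 1 := by
      by_contra hu1
      have h5 : u ^ 2 = 1 := by rw [pow_two]; exact inv_eq_iff_mul_eq_one.1 h4
      have h6 : orderOf u = p := by rw [← Nat.card_zpowers, zpowers_eq hP hu hu1]; exact hP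
      have := Nat.le_of_dvd two_pos (h6 ▸ orderOf_dvd_of_pow_eq_one h5)
      omega
    rw [hwu, hu1, one_mul]
    exact hz
  · intro y hy y' hy' hy1 hc
    obtain ⟨g, rfl⟩ := isConj_iff.1 hc
    have hy'1 : g * y * g⁻¹ ≠ 1 := fun h => hy1 (conj_eq_one_iff.1 h)
    have hgN : g ∈ Nsub P := by
      show g ∈ Subgroup.normalizer ((P : Subgroup G) : Set G)
      rw [Subgroup.mem_normalizer_iff_map_conj_eq]
      have h1 : (Subgroup.zpowers y).map (MulAut.conj g).toMonoidHom =
          Subgroup.zpowers (g * y * g⁻¹) := by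
        rw [MonoidHom.map_zpowers]
        rfl
      rw [zpowers_eq hP hy hy1, zpowers_eq hP hy' hy'1] at h1
      exact h1
    by_cases hg : (P : Subgroup G).normalizerMonoidHom ⟨g, hgN⟩ = 1
    · left
      exact congrArg Subtype.val (DFunLike.congr_fun hg (⟨y, hy⟩ : (P : Subgroup G)))
    · right
      exact congrArg Subtype.val (apply_eq_inv (p := p) hP he ⟨⟨g, hgN⟩, rfl⟩ hg ⟨y, hy⟩)

/-- The configuration of the structure theorem is simple. -/
theorem isSimpleGroup_of_structure {θ₀ : IrrCharacter G} (B : Block P θ₀)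
    (hf : ∀ g : G, θ₀.1 g = θ₀.1 1 → g = 1) : IsSimpleGroup G := by
  obtain ⟨hn, hG, -, hinvol⟩ := B.structure_thm hf
  have hP : Nat.card (P : Subgroup G) = p := B.sc.card
  have h5 := B.five
  obtain ⟨y, hy, hy1⟩ := B.exists_ne_one
  haveI : Nontrivial G := nontrivial_of_ne _ _ hy1
  obtain ⟨z, hz⟩ : ∃ z : G, orderOf z = 2 := exists_prime_orderOf_dvd_card' 2 (by
    rw [hG]
    obtain ⟨k, hk⟩ := hp.out.odd_of_ne_two (by omega)
    exact Dvd.dvd.mul_left (Dvd.dvd.mul_right (show 2 ∣ p - 1 from ⟨k, by omega⟩) _) _)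
  obtain ⟨hzC, hzexp, hconj⟩ := hinvol z hz
  obtain ⟨a, ha⟩ : ∃ a, p - 1 = 2 ^ a := by
    haveI : Fact (Nat.Prime 2) := ⟨Nat.prime_two⟩
    obtain ⟨a, ha⟩ := IsPGroup.iff_card.1 (fun u : Subgroup.centralizer ({z} : Set G) =>
      ⟨1, Subtype.ext (by rw [pow_one, SubgroupClass.coe_pow, pow_two]; exact hzexp _ u.2)⟩ :
        IsPGroup 2 (Subgroup.centralizer ({z} : Set G)))
    exact ⟨a, hzC ▸ ha⟩
  have h4 : 4 ∣ p - 1 := by
    rw [ha]
    rcases a with _ | _ | a
    · omega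
    · omega
    · exact ⟨2 ^ a, by rw [pow_succ, pow_succ]; ring⟩
  have hall : ∀ K : Subgroup G, K.Normal → 2 ∣ Nat.card K → ∀ u : G, orderOf u = 2 → u ∈ K := by
    intro K hK h2 u hu
    haveI : Fact (Nat.Prime 2) := ⟨Nat.prime_two⟩
    obtain ⟨⟨t, ht⟩, hto⟩ := exists_prime_orderOf_dvd_card' (G := K) 2 h2
    rw [Subgroup.orderOf_mk] at hto
    obtain ⟨x, rfl⟩ := isConj_iff.1 ((hinvol t hto).2.2 u hu)
    exact hK.conj_mem t ht x
  -- no normal subgroup of order prime to `p`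
  have hp' : ∀ L : Subgroup G, L.Normal → L ≠ ⊥ → p ∣ Nat.card L := by
    intro L hL hL1
    by_contra hpL
    have hdvd : Nat.card L ∣ (p - 1) * (p - 2) :=
      ((hp.out.coprime_iff_not_dvd.2 hpL).symm).dvd_of_dvd_mul_left
        (hG ▸ L.card_subgroup_dvd_card)
    by_cases h2 : 2 ∣ Nat.card L
    · have hzL := hall L hL h2 z hz
      have hsub : Nat.card {u : G // IsConj z u} ≤ Nat.card L :=
        Nat.card_le_card_of_injective (fun u => (⟨u.1, by
          obtain ⟨x, hx⟩ := isConj_iff.1 u.2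
          rw [← hx]; exact hL.conj_mem z hzL x⟩ : L))
          fun a b h => Subtype.ext (congrArg (fun t : L => (t : G)) h)
      have hcl := Char.card_centralizer_mul_card_conj z
      rw [hzC, hG, show p * ((p - 1) * (p - 2)) = (p - 1) * (p * (p - 2)) by ring] at hcl
      have h3 := Nat.eq_of_mul_eq_mul_left (by omega) hcl
      have h4' := Nat.le_of_dvd (Nat.mul_pos (by omega) (by omega)) hdvd
      have h5' : (p - 1) * (p - 2) < p * (p - 2) :=
        Nat.mul_lt_mul_of_pos_right (by omega) (by omega)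
      omega
    · have hle : Nat.card L ≤ p - 2 := by
        refine Nat.le_of_dvd (by omega) (Nat.Coprime.dvd_of_dvd_mul_left ?_ hdvd)
        rw [ha]
        exact Nat.Coprime.pow_right _ (Nat.coprime_two_right.2 (Nat.odd_iff.2 (by omega)))
      obtain ⟨⟨l, hl⟩, hl1⟩ : ∃ l : L, l ≠ 1 := by
        haveI := (Subgroup.nontrivial_iff_ne_bot L).2 hL1
        exact exists_ne 1
      have hinj : Function.Injective (fun v : (P : Subgroup G) =>
          (⟨(v : G) * l * (v : G)⁻¹, hL.conj_mem l hl v⟩ : L)) := by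
        intro v v' h
        have h1 : (v : G) * l * (v : G)⁻¹ = (v' : G) * l * (v' : G)⁻¹ := congrArg Subtype.val h
        by_contra hne
        set u := (v : G)⁻¹ * v' with hu
        have hu1 : u ≠ 1 := fun e => hne (Subtype.ext (inv_mul_eq_one.1 e))
        have hcm : l * u = u * l := by
          have h2 : l = u * l * u⁻¹ := by
            calc l = (v : G)⁻¹ * ((v : G) * l * (v : G)⁻¹) * v := by group
              _ = u * l * u⁻¹ := by rw [h1, hu]; group
          calc l * u = u * l * u⁻¹ * u := by rw [← h2]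
            _ = u * l := by group
        have hlP : l ∈ (P : Subgroup G) :=
          B.sc.centralizer_singleton (mul_mem (inv_mem v.2) v'.2) hu1 ▸
            Subgroup.mem_centralizer_singleton_iff.2 hcm
        have hl1' : l ≠ 1 := fun e => hl1 (Subtype.ext e)
        exact hpL (hP ▸ zpowers_eq B.sc.card hlP hl1' ▸
          Subgroup.card_dvd_of_le (Subgroup.zpowers_le.2 hl))
      have := Nat.card_le_card_of_injective _ hinj
      omega
  refine { exists_pair_ne := exists_pair_ne G, eq_bot_or_eq_top_of_normal := fun K hK => ?_ }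
  haveI := hK
  refine or_iff_not_imp_left.2 fun hKne => ?_
  obtain ⟨⟨x, hxK⟩, hx⟩ := exists_prime_orderOf_dvd_card' (G := K) p (hp' K hK hKne)
  rw [Subgroup.orderOf_mk] at hx
  have hPK : (P : Subgroup G) ≤ K := by
    obtain ⟨Q, hQ⟩ := (IsPGroup.of_card (n := 1)
      (show Nat.card (Subgroup.zpowers x) = p ^ 1 by rw [Nat.card_zpowers, hx, pow_one])).exists_le_sylow
    have hQx : Subgroup.zpowers x = (Q : Subgroup G) := Subgroup.eq_of_le_of_card_ge hQ (by
      rw [Nat.card_zpowers, hx, Q.card_eq_multiplicity, ← P.card_eq_multiplicity]; exact hP.le)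
    obtain ⟨g, rfl⟩ := MulAction.exists_smul_eq G Q P
    intro u hu
    obtain ⟨v, hv, rfl⟩ := hu
    exact hK.conj_mem v ((Subgroup.zpowers_le.2 hxK) (hQx.ge hv)) g
  have hfr := Sylow.normalizer_sup_eq_top (P.subtype hPK)
  rw [show ((P.subtype hPK : Sylow p K) : Subgroup K).map K.subtype = (P : Subgroup G) from
    Subgroup.map_subgroupOf_eq_of_le hPK] at hfr
  set N := Subgroup.normalizer ((P : Subgroup G) : Set G) with hNdef
  have hNcard : Nat.card N = 2 * p := B.card_N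
  have hidx : K.index ∣ 2 * p := by
    rw [← Subgroup.relIndex_top_right, ← hfr, Subgroup.relIndex_sup_right, ← hNcard]
    exact Subgroup.relIndex_dvd_card _ _
  have h2K : 2 ∣ Nat.card K := by
    have h1 := K.card_mul_index
    have h8 : 4 ∣ Nat.card G := hG ▸ (h4.mul_right _).mul_left _
    have h9 : 4 ∣ Nat.card K * (2 * p) := (h1 ▸ h8 : 4 ∣ Nat.card K * K.index).trans
      (Nat.mul_dvd_mul_left _ hidx)
    rw [show Nat.card K * (2 * p) = 2 * (Nat.card K * p) by ring] at h9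
    have h10 : 2 ∣ Nat.card K * p := Nat.dvd_of_mul_dvd_mul_left two_pos h9
    exact (Nat.prime_two.dvd_mul.1 h10).resolve_right fun h => by
      rcases (Nat.dvd_prime hp.out).1 h with h | h <;> omega
  obtain ⟨⟨t, htN⟩, ht⟩ : ∃ t : N, orderOf t = 2 := by
    haveI : Fact (Nat.Prime 2) := ⟨Nat.prime_two⟩
    exact exists_prime_orderOf_dvd_card' 2 (by rw [hNcard]; exact dvd_mul_right _ _)
  rw [Subgroup.orderOf_mk] at ht
  have htK := hall K hK h2K t ht
  have hNK : N ≤ K := by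
    refine inf_eq_left.1 (Subgroup.eq_of_le_of_card_ge inf_le_left (Nat.le_of_dvd Nat.card_pos ?_))
    rw [hNcard]
    refine Nat.Coprime.mul_dvd_of_dvd_of_dvd ?_ ?_ ?_
    · exact (Nat.coprime_primes Nat.prime_two hp.out).2 (by omega)
    · exact ht ▸ Subgroup.orderOf_dvd_natCard _ (Subgroup.mem_inf.2 ⟨htN, htK⟩)
    · exact hP ▸ Subgroup.card_dvd_of_le (le_inf Subgroup.le_normalizer hPK)
  rwa [sup_eq_right.2 hNK] at hfr

/-- The quotient by the centre. -/
theorem exists_product (hP : Nat.card P = p) (h7 : 7 ≤ p) (hnn : ¬ (P : Subgroup G).Normal)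
    {ζ : IrrCharacter G} (hdeg : Char.degree ζ = p - 2) (hfaith : ∀ g, ζ.1 g = ζ.1 1 → g = 1) :
    ∃ (a : ℕ) (F : Type) (_ : Field F) (_ : Fintype F), p = 2 ^ a + 1 ∧ Fintype.card F = 2 ^ a ∧
      Nonempty (G ≃* Matrix.SpecialLinearGroup (Fin 2) F × Subgroup.center G) := by
  obtain ⟨he, hfix, hV⟩ := exists_local hP h7 hnn hdeg hfaith
  obtain ⟨T⟩ := exists_twist hP h7 hnn he hV
  have hker : ∀ z ∈ Subgroup.center G, omega ζ z = 1 → z = 1 := fun z _ h =>
    hfaith z ((div_eq_one_iff_eq (apply_one_ne_zero ζ)).1 h)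
  obtain ⟨β, hβ, hβ1⟩ := T.exists_linear hdeg hfix hker
  have hβ1' : β.1 1 = 1 := by rw [Char.apply_one_eq_degree, hβ1, Nat.cast_one]
  obtain ⟨lam, hlam⟩ := Char.IsCharacter.exists_monoidHom (Char.irr_isCharacter β) hβ1'
  have hu : ∀ g : G, lam g * conj (lam g) = 1 := Char.normSq_linear lam
  have homega : ∀ z ∈ Subgroup.center G, omega ζ z = lam z := fun z hz => by
    rw [← hβ z hz, omega, hβ1', div_one, hlam]
  have hkerZ : ∀ z ∈ Subgroup.center G, lam z = 1 → z = 1 := fun z hz h =>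
    hker z hz ((homega z hz).trans h)
  -- the twist of `ζ` is trivial on the centre
  let lam' : G →* ℂ := (starRingEnd ℂ).toMonoidHom.comp lam
  let θ' : IrrCharacter G := ⟨⇑lam' * ζ.1, Char.IsIrrCharacter.mul_linear ζ.2 lam'⟩
  have hθ' : ∀ g, θ'.1 g = conj (lam g) * ζ.1 g := fun g => rfl
  set Z := Subgroup.center G with hZ
  have hθdeg : θ'.1 1 = ((p - 2 : ℕ) : ℂ) := by
    rw [hθ', map_one, map_one, one_mul, Char.apply_one_eq_degree, hdeg]
  have htriv : Char.TrivOn Z θ'.1 := fun z hz => by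
    rw [hθdeg, hθ', ← mul_one z, apply_center_mul ζ hz, homega z hz, Char.apply_one_eq_degree, hdeg,
      ← mul_assoc, mul_one, mul_comm (conj _), hu, one_mul]
  obtain ⟨ψ, hψ⟩ := Char.exists_descend Z θ' htriv
  have hψdeg : Char.degree ψ = p - 2 := by
    have h1 := hψ 1
    rw [QuotientGroup.mk_one, Char.apply_one_eq_degree, hθdeg] at h1
    exact_mod_cast h1
  obtain ⟨n, ρ, -, hρ⟩ := ζ.2
  have hinjρ : Function.Injective ρ := by
    intro g g' h
    refine inv_mul_eq_one.1 (hfaith _ ?_)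
    have h1 : ρ (g⁻¹ * g') = ρ 1 := by rw [map_mul, ← h, ← map_mul, inv_mul_cancel]
    rw [← hρ]
    simp only [Representation.character, h1]
  have hψf : ∀ q : G ⧸ Z, ψ.1 q = ψ.1 1 → q = 1 := by
    intro q hq
    obtain ⟨g, rfl⟩ := QuotientGroup.mk_surjective q
    rw [hψ, ← QuotientGroup.mk_one, hψ, hθdeg, hθ'] at hq
    refine (QuotientGroup.eq_one_iff g).2 ?_
    have hnl : ‖lam g‖ = 1 := by
      have h1 := congrArg norm (hu g)
      rw [norm_mul, Complex.norm_conj, norm_one] at h1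
      nlinarith [norm_nonneg (lam g)]
    have h1 : ‖ρ.character g‖ = ‖ρ.character 1‖ := by
      rw [hρ, Char.apply_one_eq_degree, hdeg, ← hq, norm_mul, Complex.norm_conj, hnl, one_mul]
    obtain ⟨c, hc⟩ := (CharInt.norm_eq_iff_scalar ρ g).1 h1
    rw [hZ, Subgroup.mem_center_iff]
    intro x
    apply hinjρ
    rw [map_mul, map_mul, hc, mul_smul_comm, smul_mul_assoc, one_mul, mul_one]
  -- the Sylow subgroup of the quotient
  set π := QuotientGroup.mk' Z with hπ
  have hπ1 : ∀ g, π g = 1 ↔ g ∈ Z := fun g => QuotientGroup.eq_one_iff g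
  set P' : Sylow p (G ⧸ Z) := P.mapSurjective (f := π) (QuotientGroup.mk'_surjective Z) with hP'
  have hP'coe : (P' : Subgroup (G ⧸ Z)) = (P : Subgroup G).map π := rfl
  have hinjP : ∀ y ∈ (P : Subgroup G), π y = 1 → y = 1 := fun y hy h =>
    T.eq_one_of_mem ((hπ1 y).1 h) hy
  have hP'card : Nat.card (P' : Subgroup (G ⧸ Z)) = p := by
    rw [hP'coe]
    refine (Nat.card_congr (Equiv.ofBijective (fun y : (P : Subgroup G) =>
      (⟨π y, Subgroup.mem_map_of_mem _ y.2⟩ : (P : Subgroup G).map π)) ⟨?_, ?_⟩).symm).trans hP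
    · intro a b h
      have h1 : π ((a : G)⁻¹ * b) = 1 := by
        rw [map_mul, map_inv, show π a = π b from congrArg Subtype.val h, inv_mul_cancel]
      exact Subtype.ext (inv_mul_eq_one.1 (hinjP _ (mul_mem (inv_mem a.2) b.2) h1))
    · rintro ⟨_, y, hy, rfl⟩
      exact ⟨⟨y, hy⟩, rfl⟩
  -- conjugation modulo the centre
  have hmod : ∀ (g y y' : G), y ∈ (P : Subgroup G) → y' ∈ (P : Subgroup G) →
      π g * π y * (π g)⁻¹ = π y' → g * y * g⁻¹ = y' := by
    intro g y y' hy hy' h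
    have hz : g * y * g⁻¹ * y'⁻¹ ∈ Z := (hπ1 _).1 (by
      rw [map_mul, map_mul, map_mul, map_inv, map_inv, h, mul_inv_cancel])
    have h1 := T.center_eq_one_of_conj hy' hz hy
      (isConj_iff.2 ⟨g⁻¹, by group⟩)
    exact mul_inv_eq_one.1 h1
  have hC' : Subgroup.centralizer ((P' : Subgroup (G ⧸ Z)) : Set (G ⧸ Z)) = (P' : Subgroup (G ⧸ Z)) := by
    obtain ⟨y, hy, hy1⟩ : ∃ y ∈ (P : Subgroup G), y ≠ 1 := by
      haveI : Nontrivial (P : Subgroup G) :=
        Finite.one_lt_card_iff_nontrivial.1 (hp.out.one_lt.trans_le hP.ge)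
      obtain ⟨⟨y, hy⟩, hy1⟩ := exists_ne (1 : (P : Subgroup G))
      exact ⟨y, hy, fun h => hy1 (Subtype.ext h)⟩
    refine le_antisymm (fun q hq => ?_) (fun q hq => Subgroup.mem_centralizer_iff.2 fun r hr => ?_)
    · obtain ⟨g, rfl⟩ := QuotientGroup.mk_surjective q
      have h1 : π y * π g = π g * π y :=
        Subgroup.mem_centralizer_iff.1 hq (π y) (Subgroup.mem_map_of_mem _ hy)
      have h2 := hmod g y y hy hy (by rw [← h1, mul_inv_cancel_right])
      obtain ⟨u, hu', z, hz, rfl⟩ := T.cent y hy hy1 g (mul_inv_eq_iff_eq_mul.1 h2)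
      show π (u * z) ∈ (P' : Subgroup (G ⧸ Z))
      rw [map_mul, (hπ1 z).2 hz, mul_one]
      exact Subgroup.mem_map_of_mem _ hu'
    · obtain ⟨a, ha, rfl⟩ := hq
      obtain ⟨b, hb, rfl⟩ := hr
      rw [← map_mul, ← map_mul]
      exact congrArg π (congrArg Subtype.val (T.comm ⟨b, hb⟩ ⟨a, ha⟩))
  have sc : DefectOne.SelfCent P' := ⟨hP'card, hC'⟩
  -- the automiser of the quotient
  have hidx : (Subgroup.centralizer ((P' : Subgroup (G ⧸ Z)) : Set (G ⧸ Z))).relIndex
      (Subgroup.normalizer ((P' : Subgroup (G ⧸ Z)) : Set (G ⧸ Z))) = 2 := by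
    rw [show (Subgroup.centralizer ((P' : Subgroup (G ⧸ Z)) : Set (G ⧸ Z))).relIndex
      (Subgroup.normalizer ((P' : Subgroup (G ⧸ Z)) : Set (G ⧸ Z))) = Nat.card (autGroup P') from
      (card_autGroup P').symm]
    have hmem : ∀ y : (P' : Subgroup (G ⧸ Z)), ∃ u ∈ (P : Subgroup G), π u = y := fun y => y.2
    have hwN : π T.w ∈ Subgroup.normalizer ((P' : Subgroup (G ⧸ Z)) : Set (G ⧸ Z)) := by
      have h0 : T.w ∈ Subgroup.normalizer ((P : Subgroup G) : Set G) := by
        rw [Subgroup.mem_normalizer_iff]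
        intro y
        refine ⟨fun hy => by rw [T.w_inv y hy]; exact inv_mem hy, fun hy => ?_⟩
        have h2 := T.w_inv _ hy
        rw [show T.w * (T.w * y * T.w⁻¹) * T.w⁻¹ = (T.w * T.w) * y * (T.w * T.w)⁻¹ by group,
          show T.w * T.w * y = y * (T.w * T.w) from (Subgroup.mem_center_iff.1 T.w_sq y).symm,
          mul_inv_cancel_right] at h2
        rw [h2]
        exact inv_mem hy
      exact Subgroup.le_normalizer_map π (Subgroup.mem_map_of_mem _ h0)
    set i : MulAut (P' : Subgroup (G ⧸ Z)) :=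
      (P' : Subgroup (G ⧸ Z)).normalizerMonoidHom ⟨π T.w, hwN⟩ with hi
    have hiy : ∀ y : (P' : Subgroup (G ⧸ Z)), i y = y⁻¹ := fun y => by
      obtain ⟨u, hu', hue⟩ := hmem y
      apply Subtype.ext
      show π T.w * (y : G ⧸ Z) * (π T.w)⁻¹ = (y : G ⧸ Z)⁻¹
      rw [← hue, ← map_inv, ← map_mul, ← map_mul, T.w_inv u hu', map_inv]
    obtain ⟨y₀, hy₀⟩ : ∃ y : (P' : Subgroup (G ⧸ Z)), y ≠ 1 := by
      haveI : Nontrivial (P' : Subgroup (G ⧸ Z)) :=
        Finite.one_lt_card_iff_nontrivial.1 (hp.out.one_lt.trans_le hP'card.ge)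
      exact exists_ne 1
    have hi1 : i ≠ 1 := fun h => by
      have h1 := hiy y₀
      rw [h, MulAut.one_apply] at h1
      have h2 : orderOf y₀ = p := ((Nat.dvd_prime hp.out).1 ((orderOf_dvd_natCard y₀).trans (dvd_of_eq hP'card))).resolve_left
        fun h => hy₀ (orderOf_eq_one_iff.1 h)
      have h3 : y₀ ^ 2 = 1 := by rw [pow_two, mul_eq_one_iff_eq_inv]; exact h1
      have := Nat.le_of_dvd two_pos (h2 ▸ orderOf_dvd_of_pow_eq_one h3)
      omega
    rw [Nat.card_eq_two_iff]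
    refine ⟨1, ⟨i, ⟨_, rfl⟩⟩, fun h => hi1 (congrArg Subtype.val h).symm, ?_⟩
    refine Set.eq_univ_of_forall fun φ => ?_
    obtain ⟨φ, ⟨m, rfl⟩⟩ := φ
    simp only [Set.mem_insert_iff, Set.mem_singleton_iff, Subtype.ext_iff, OneMemClass.coe_one]
    obtain ⟨u, hu', hue⟩ := hmem y₀
    obtain ⟨g, hg⟩ := QuotientGroup.mk_surjective (m : G ⧸ Z)
    obtain ⟨v, hv', hve⟩ := hmem ((P' : Subgroup (G ⧸ Z)).normalizerMonoidHom m y₀)
    have hve' : π v = (m : G ⧸ Z) * y₀ * (m : G ⧸ Z)⁻¹ := hve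
    rw [← hue, ← hg] at hve'
    have hguv := hmod g u v hu' hv' hve'.symm
    have hu1 : u ≠ 1 := fun h => hy₀ (Subtype.ext (by rw [← hue, h, map_one]; rfl))
    rcases T.conj_cases u hu' v hv' hu1 (isConj_iff.2 ⟨g, hguv⟩) with h | h
    · left
      refine DefectOne.Coord.eq_of_apply_eq hP'card hy₀ (Subtype.ext ?_)
      rw [← hve, h, hue]
      rfl
    · right
      refine DefectOne.Coord.eq_of_apply_eq hP'card hy₀ (Subtype.ext ?_)
      rw [hiy, ← hve, h, map_inv, hue]
      rfl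
  obtain ⟨B⟩ := exists_block sc (by omega) hidx ψ hψdeg
  obtain ⟨hn', hG', -, hinvol⟩ := B.structure_thm hψf
  haveI hsimple := isSimpleGroup_of_structure B hψf
  obtain ⟨s, hs⟩ : ∃ s : G ⧸ Z, orderOf s = 2 := by
    haveI : Fact (Nat.Prime 2) := ⟨Nat.prime_two⟩
    refine exists_prime_orderOf_dvd_card' 2 ?_
    rw [hG']
    obtain ⟨k, hk⟩ := hp.out.odd_of_ne_two (by omega)
    exact Dvd.dvd.mul_left (Dvd.dvd.mul_right (show 2 ∣ p - 1 from ⟨k, by omega⟩) _) _
  obtain ⟨hsC, hsexp, hsconj⟩ := hinvol s hs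
  obtain ⟨a, F, iF, iFt, hF, hpa, ⟨e⟩⟩ := BrauerPSL.exists_sl_two hp.out (by omega) hG' hs hsC
    fun u hu' => ⟨hsexp u hu', fun hu1 => hsconj u (orderOf_eq_prime (by rw [pow_two]; exact hsexp u hu') hu1)⟩
  -- the kernel of the linear character is a complement of the centre
  set K : Subgroup G := lam.toHomUnits.ker with hK
  have hmemK : ∀ g, g ∈ K ↔ lam g = 1 := fun g => by
    rw [hK, MonoidHom.mem_ker, Units.ext_iff]; rfl
  have hKtop : K.map π = ⊤ := by
    haveI : (K.map π).Normal := Subgroup.Normal.map inferInstance π (QuotientGroup.mk'_surjective Z)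
    rcases IsSimpleGroup.eq_bot_or_eq_top_of_normal (K.map π) inferInstance with h | h
    · exfalso
      have hcomm : ∀ q r : G ⧸ Z, q * r = r * q := fun q r => by
        obtain ⟨g, rfl⟩ := QuotientGroup.mk_surjective q
        obtain ⟨x, rfl⟩ := QuotientGroup.mk_surjective r
        have hk : g * x * g⁻¹ * x⁻¹ ∈ K := by
          rw [hmemK]
          have h2 : ∀ c : G, lam c * lam c⁻¹ = 1 := fun c => by rw [← map_mul, mul_inv_cancel, map_one]
          rw [map_mul, map_mul, map_mul]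
          linear_combination (lam x * lam x⁻¹) * h2 g + h2 x
        have h1 : π (g * x * g⁻¹ * x⁻¹) = 1 := by
          have := Subgroup.mem_map_of_mem π hk
          rwa [h, Subgroup.mem_bot] at this
        rw [map_mul, map_mul, map_mul, map_inv, map_inv, mul_inv_eq_one, mul_inv_eq_iff_eq_mul] at h1
        exact h1
      have hle : (⊤ : Subgroup (G ⧸ Z)) ≤ (P' : Subgroup (G ⧸ Z)) :=
        hC' ▸ fun q _ => Subgroup.mem_centralizer_iff.2 fun r _ => hcomm r q
      have h2 := Subgroup.card_le_of_le hle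
      rw [Subgroup.card_top, hG', hP'card] at h2
      have h3 : 2 ≤ (p - 1) * (p - 2) := le_trans (by omega) (Nat.le_mul_of_pos_right _ (by omega))
      have h4 := Nat.mul_le_mul_left p h3
      omega
    · exact h
  have hsurj : ∀ g : G, ∃ k ∈ K, ∃ z ∈ Z, g = k * z := fun g => by
    obtain ⟨k, hk, hkg⟩ : π g ∈ K.map π := hKtop ▸ Subgroup.mem_top _
    exact ⟨k, hk, k⁻¹ * g, (QuotientGroup.eq).1 hkg, by group⟩
  let m : K × Z →* G :=
    { toFun := fun x => (x.1 : G) * x.2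
      map_one' := by simp
      map_mul' := fun x y => by
        simp only [Prod.fst_mul, Prod.snd_mul, Subgroup.coe_mul]
        rw [mul_assoc, mul_assoc, ← mul_assoc (y.1 : G), Subgroup.mem_center_iff.1 x.2.2 y.1,
          mul_assoc] }
  have hm : Function.Bijective m := by
    refine ⟨(injective_iff_map_eq_one m).2 ?_, fun g => ?_⟩
    · rintro ⟨⟨k, hk⟩, ⟨z, hz⟩⟩ (h : k * z = 1)
      have hz1 : z = 1 := hkerZ z hz (by
        have h1 := congrArg lam h
        rwa [map_mul, (hmemK k).1 hk, one_mul, map_one] at h1)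
      subst hz1
      rw [mul_one] at h
      subst h
      rfl
    · obtain ⟨k, hk, z, hz, rfl⟩ := hsurj g
      exact ⟨⟨⟨k, hk⟩, ⟨z, hz⟩⟩, rfl⟩
  have hKbij : Function.Bijective (π.comp K.subtype) := by
    refine ⟨(injective_iff_map_eq_one _).2 ?_, fun q => ?_⟩
    · rintro ⟨k, hk⟩ h
      exact Subtype.ext (hkerZ k ((hπ1 k).1 h) ((hmemK k).1 hk))
    · obtain ⟨g, rfl⟩ := QuotientGroup.mk_surjective q
      obtain ⟨k, hk, z, hz, rfl⟩ := hsurj g
      refine ⟨⟨k, hk⟩, ?_⟩
      show π k = π (k * z)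
      rw [map_mul, (hπ1 z).2 hz, mul_one]
  exact ⟨a, F, iF, iFt, hpa, hF, ⟨(MulEquiv.ofBijective m hm).symm.trans
    (MulEquiv.prodCongr ((MulEquiv.ofBijective _ hKbij).trans e) (MulEquiv.refl _))⟩⟩

end Cfsg.Agent.DegreePSubTwo
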