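import Cfsg.Agent.Lib.SmallDegree.Half

/-!
# Few eigenvalues of an element of order `p` in degree less than `p`

If a faithful complex representation of degree less than `p` gives an element of order `p` fewer
than `p / 2` distinct eigenvalues and its Sylow subgroup is not normal, then
`p - 1 ≤ 2 |N(P) : C(P)|`.
-/

set_option autoImplicit false
set_option linter.style.haveILetI false

namespace Cfsg.Agent.DegreePSubTwo

open DerivedLength SmallDegree
open scoped Pointwise

universe u v w

variable {K : Type v} [Field K] [IsAlgClosed K] {p : ℕ} [hp : Fact p.Prime] [CharP K p]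
  {G : Type u} [Group G] [Finite G]

/-- The irreducible subquotients keep the nilpotency index. -/
theorem exists_irreducible_or_unipotent_of_nilpotent {x : G} {P : Subgroup G}
    (hx : Subgroup.zpowers x = P) (hgen : Subgroup.normalClosure (P : Set G) = ⊤) (l d : ℕ) :
    ∀ (V : Type w) [AddCommGroup V] [Module K V] [FiniteDimensional K V] (θ : G →* Module.End K V),
      (θ x - 1) ^ l = 0 → Module.finrank K V = d →
      (∃ (U : Type w) (_ : AddCommGroup U) (_ : Module K U) (_ : FiniteDimensional K U)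
        (φ : G →* Module.End K U), Module.finrank K U ≤ d ∧ φ x ≠ 1 ∧ (φ x - 1) ^ l = 0 ∧
          ∀ W : Submodule K U, Invariant φ W → W = ⊥ ∨ W = ⊤) ∨
      ∀ g, (θ g - 1) ^ d = 0 := by
  induction d using Nat.strong_induction_on with
  | _ d ih =>
  intro V _ _ _ θ hl hd
  by_cases hirr : ∀ W : Submodule K V, Invariant θ W → W = ⊥ ∨ W = ⊤
  · by_cases h1 : θ x = 1
    · right
      intro g
      rcases Nat.eq_zero_or_pos d with h0 | h0
      · haveI : Subsingleton V := Module.finrank_zero_iff.1 (hd.trans h0)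
        exact LinearMap.ext fun v => Subsingleton.elim _ _
      · rw [eq_one_of_normalClosure θ hgen (eq_one_of_generator θ hx h1) g, sub_self, zero_pow h0.ne']
    · exact Or.inl ⟨V, inferInstance, inferInstance, inferInstance, θ, hd.le, h1, hl, hirr⟩
  · simp only [not_forall, not_or] at hirr
    obtain ⟨W, hW, hWb, hWt⟩ := hirr
    have hWlt : Module.finrank K W < d := by
      rw [← hd]; exact Submodule.finrank_lt hWt
    have hQlt : Module.finrank K (V ⧸ W) < d := by
      have h1 := Submodule.finrank_quotient_add_finrank W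
      have h2 : 0 < Module.finrank K W := Nat.pos_of_ne_zero fun h0 =>
        hWb (Submodule.finrank_eq_zero.1 h0)
      omega
    have hq' : ∀ (g : G) (i : ℕ) (v : V),
        Submodule.Quotient.mk (((θ g - 1) ^ i : Module.End K V) v) =
        ((quotAct θ hW g - 1) ^ i : Module.End K (V ⧸ W)) (Submodule.Quotient.mk v) := fun g i => by
      induction i with
      | zero => intro v; rfl
      | succ i ihi =>
        intro v
        rw [pow_succ, pow_succ, Module.End.mul_apply, Module.End.mul_apply, ihi]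
        rfl
    have hw' : ∀ (g : G) (i : ℕ) (w : W), ((((subAct θ hW g - 1) ^ i : Module.End K W) w : W) : V) =
        ((θ g - 1) ^ i : Module.End K V) (w : V) := fun g i => by
      induction i with
      | zero => intro w; rfl
      | succ i ihi =>
        intro w
        rw [pow_succ, pow_succ, Module.End.mul_apply, Module.End.mul_apply, ihi]
        rfl
    have hlW : (subAct θ hW x - 1) ^ l = 0 := LinearMap.ext fun w => Subtype.ext (by
      rw [hw', hl]; rfl)
    have hlQ : (quotAct θ hW x - 1) ^ l = 0 := LinearMap.ext fun q => by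
      induction q using Submodule.Quotient.induction_on with
      | _ v => rw [← hq', hl]; rfl
    rcases ih _ hWlt W (subAct θ hW) hlW rfl with ⟨U, i1, i2, i3, φ, h1, h2, h3, h4⟩ | hu
    · exact Or.inl ⟨U, i1, i2, i3, φ, h1.trans hWlt.le, h2, h3, h4⟩
    rcases ih _ hQlt (V ⧸ W) (quotAct θ hW) hlQ rfl with ⟨U, i1, i2, i3, φ, h1, h2, h3, h4⟩ | hq
    · exact Or.inl ⟨U, i1, i2, i3, φ, h1.trans hQlt.le, h2, h3, h4⟩
    right
    intro g
    have e : d = Module.finrank K W + Module.finrank K (V ⧸ W) := by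
      have h1 := Submodule.finrank_quotient_add_finrank W
      omega
    refine LinearMap.ext fun v => ?_
    rw [e, pow_add, Module.End.mul_apply, LinearMap.zero_apply]
    have hmem : ((θ g - 1) ^ Module.finrank K (V ⧸ W) : Module.End K V) v ∈ W := by
      rw [← Submodule.Quotient.mk_eq_zero, hq', hq g, LinearMap.zero_apply]
    rw [← hw' g _ ⟨_, hmem⟩, hu g]
    rfl

omit [Field K] [IsAlgClosed K] [CharP K p] in
/-- `|N(P) : C(P)|` does not grow on passing to the normal closure of `P`. -/
theorem relIndex_subgroupOf_le {P L : Subgroup G} (hPL : P ≤ L) :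
    (Subgroup.centralizer ((P.subgroupOf L : Subgroup L) : Set L)).relIndex
        (Subgroup.normalizer ((P.subgroupOf L : Subgroup L) : Set L)) ≤
      (Subgroup.centralizer (P : Set G)).relIndex (Subgroup.normalizer (P : Set G)) := by
  have hC : (Subgroup.centralizer (P : Set G)).comap L.subtype ≤
      Subgroup.centralizer ((P.subgroupOf L : Subgroup L) : Set L) := fun c hc =>
    Subgroup.mem_centralizer_iff.2 fun v hv => Subtype.ext
      (Subgroup.mem_centralizer_iff.1 hc (v : G) hv)
  have hN : (Subgroup.normalizer ((P.subgroupOf L : Subgroup L) : Set L)).map L.subtype ≤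
      Subgroup.normalizer (P : Set G) := by
    rintro _ ⟨g, hg, rfl⟩
    rw [Subgroup.mem_normalizer_iff]
    intro u
    constructor
    · intro hu
      exact ((Subgroup.mem_normalizer_iff.1 hg ⟨u, hPL hu⟩).1 hu : _)
    · intro hu
      have hu' : u ∈ L := by
        have := L.mul_mem (L.mul_mem (L.inv_mem g.2) (hPL hu)) g.2
        rwa [show (g : G)⁻¹ * (L.subtype g * u * (L.subtype g)⁻¹) * g = u by
          simp [mul_assoc]] at this
      exact ((Subgroup.mem_normalizer_iff.1 hg ⟨u, hu'⟩).2 hu : _)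
  refine le_trans (Nat.le_of_dvd ?_ (Subgroup.relIndex_dvd_of_le_left _ hC)) ?_
  · exact Nat.pos_of_ne_zero Subgroup.index_ne_zero_of_finite
  · rw [Subgroup.relIndex_comap]
    exact Subgroup.relIndex_le_of_le_right hN Subgroup.index_ne_zero_of_finite

omit [Field K] [IsAlgClosed K] [CharP K p] in
/-- Few eigenvalues force a large automiser. -/
theorem le_two_mul_relIndex_of_eigenvalues {n : ℕ} (ρ : G →* Module.End ℂ (Fin n → ℂ))
    (hρ : Function.Injective ρ) (hn : n < p) (h5 : 5 ≤ p) {P : Subgroup G} (hP : Nat.card P = p)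
    (hsq : ¬ p ^ 2 ∣ Nat.card G) (hnn : ¬ P.Normal) {x : G} (hx : Subgroup.zpowers x = P)
    {s : Finset ℂ} (hs : ∀ ζ ∈ s, ζ ^ p = 1) (hs2 : 2 * s.card < p)
    (hann : Polynomial.aeval (ρ x) (∏ ζ ∈ s, (Polynomial.X - Polynomial.C ζ)) = 0) :
    p - 1 ≤ 2 * (Subgroup.centralizer (P : Set G)).relIndex (Subgroup.normalizer (P : Set G)) := by
  classical
  obtain ⟨hP0, hsq0, hgen0, hnn0⟩ := normalClosure_data hP hsq hnn
  set L := Subgroup.normalClosure (P : Set G) with hL
  have hPL : P ≤ L := Subgroup.le_normalClosure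
  refine le_trans ?_ (Nat.mul_le_mul_left 2 (relIndex_subgroupOf_le hPL))
  set P0 := P.subgroupOf L
  have hxP : x ∈ P := hx ▸ Subgroup.mem_zpowers x
  set x0 : L := ⟨x, hPL hxP⟩
  have hx0 : Subgroup.zpowers x0 = P0 := by
    refine Subgroup.eq_of_le_of_card_ge (Subgroup.zpowers_le.2 hxP) ?_
    rw [hP0, Nat.card_zpowers, ← Subgroup.orderOf_coe]
    show p ≤ orderOf x
    rw [← Nat.card_zpowers, hx, hP]
  let e : Module.End ℂ (Fin n → ℂ) ≃ₐ[ℂ] Matrix (Fin n) (Fin n) ℂ := LinearMap.toMatrixAlgEquiv'
  let M : L →* Matrix (Fin n) (Fin n) ℂ := e.toAlgHom.toMonoidHom.comp (ρ.comp L.subtype)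
  have hM : ∀ g, M g = 1 → g = 1 := fun g hg => L.subtype_injective (hρ (by
    rw [map_one, map_one]
    exact e.injective (by rw [map_one]; exact hg)))
  obtain ⟨k, iF, iA, iC, θ, hker, hpoly⟩ := exists_reduction_poly p M hM
  have hMx : Polynomial.aeval (M x0) (∏ ζ ∈ s, (Polynomial.X - Polynomial.C ζ)) = 0 := by
    show Polynomial.aeval (e.toAlgHom (ρ x)) _ = 0
    rw [Polynomial.aeval_algHom_apply, hann, map_zero]
  have hnil := hpoly x0 s hs hMx
  have hn0 : n ≠ 0 := by
    rintro rfl
    refine hnn ⟨fun u hu g => ?_⟩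
    have htriv : ∀ g : G, g = 1 := fun g => hρ (LinearMap.ext fun v => Subsingleton.elim _ _)
    rwa [htriv g, one_mul, inv_one, mul_one]
  haveI : Nonempty (Fin n) := ⟨⟨0, Nat.pos_of_ne_zero hn0⟩⟩
  rcases exists_irreducible_or_unipotent_of_nilpotent (x := x0) hx0 hgen0 s.card _ (Fin n → k) θ
      hnil rfl with ⟨U, i1, i2, i3, φ, h1, h2, h3, h4⟩ | h
  · rw [Module.finrank_fin_fun] at h1
    obtain ⟨H, _, _, f, hf, -, -, -, j, hj, -, hd, hpos⟩ :=
      exists_conic_image_of_nilpotent (h1.trans_lt hn) φ h4 hP0 hsq0 hgen0 hx0 h2 hs2 h3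
    have a1 := Nat.le_of_dvd (by omega) hd
    have a2 : 1 * (p - 2) ≤ j * (p - 2) := Nat.mul_le_mul_right _ hj
    have a3 := relIndex_map_le (p := p) f hf hP0 hsq0
    omega
  · exact absurd h (not_forall_unipotent hP0 hsq0 hnn0 θ hker _)

end Cfsg.Agent.DegreePSubTwo
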