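import Cfsg.Agent.Lib.DegreePSubTwo.CentralSum
import Cfsg.Agent.Lib.DefectOne.PrimeCoord

/-!
# The characters with a given central character for `C(P) = P × Z(G)`, `|N(P) : C(P)| = 2`

Column orthogonality at the elements of `P` for a fixed central character gives an exceptional
configuration without any block theory.
-/

set_option autoImplicit false
set_option linter.style.haveILetI false
set_option linter.unusedSectionVars false

namespace Cfsg.Agent.DegreePSubTwo

open Cfsg Cfsg.Agent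
open scoped ComplexConjugate Classical

-- match the classical instances of `DefectOne.Coord`
attribute [-instance] Subtype.instDecidableEq

universe u

variable {G : Type u} [Group G] [Fintype G] {p : ℕ} [hp : Fact p.Prime]

/-- The local hypotheses. -/
structure Twist (P : Sylow p G) where
  card : Nat.card P = p
  seven : 7 ≤ p
  cent : ∀ y ∈ (P : Subgroup G), y ≠ 1 → ∀ g : G, g * y = y * g →
    ∃ u ∈ (P : Subgroup G), ∃ z ∈ Subgroup.center G, g = u * z
  pregZ : ¬ p ∣ Nat.card (Subgroup.center G)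
  w : G
  w_inv : ∀ y ∈ (P : Subgroup G), w * y * w⁻¹ = y⁻¹
  w_sq : w * w ∈ Subgroup.center G
  conj_cases : ∀ y ∈ (P : Subgroup G), ∀ y' ∈ (P : Subgroup G), y ≠ 1 → IsConj y y' →
    y' = y ∨ y' = y⁻¹

variable {P : Sylow p G} (T : Twist P)
include T

theorem Twist.order {y : G} (hy : y ∈ (P : Subgroup G)) (hy1 : y ≠ 1) : orderOf y = p :=
  ((Nat.dvd_prime hp.out).1 (T.card ▸ Subgroup.orderOf_dvd_natCard _ hy)).resolve_left
    fun h => hy1 (orderOf_eq_one_iff.1 h)

theorem Twist.regular_center {z : G} (hz : z ∈ Subgroup.center G) : IsPRegular p z :=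
  fun h => T.pregZ (h.trans (Subgroup.orderOf_dvd_natCard _ hz))

theorem Twist.eq_one_of_mem {z : G} (hz : z ∈ Subgroup.center G) (hzP : z ∈ (P : Subgroup G)) :
    z = 1 := by
  by_contra h
  exact T.regular_center hz (by rw [T.order hzP h])

theorem Twist.w_regular : IsPRegular p T.w := by
  intro h
  have h7 := T.seven
  have h2 : orderOf T.w ∣ orderOf (T.w * T.w) * 2 := by
    apply orderOf_dvd_of_pow_eq_one
    rw [mul_comm, pow_mul, pow_two, pow_orderOf_eq_one]
  rcases hp.out.dvd_mul.1 (h.trans h2) with h3 | h3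
  · exact T.regular_center T.w_sq h3
  · have := Nat.le_of_dvd (by norm_num) h3
    omega

theorem Twist.regular_mul {g z : G} (hg : IsPRegular p g) (hz : z ∈ Subgroup.center G) :
    IsPRegular p (z * g) := by
  intro h
  have hc : Commute z g := (Subgroup.mem_center_iff.1 hz g).symm
  rcases hp.out.dvd_mul.1 (h.trans (hc.orderOf_mul_dvd_lcm.trans (Nat.lcm_dvd_mul _ _))) with h' | h'
  · exact T.regular_center hz h'
  · exact hg h'

theorem Twist.not_conj_regular {g y : G} (hy : y ∈ (P : Subgroup G)) (hy1 : y ≠ 1)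
    (hg : IsPRegular p g) : ¬ IsConj g y := by
  intro h
  obtain ⟨x, rfl⟩ := isConj_iff.1 h
  refine hg ?_
  rw [← (MulAut.conj x).orderOf_eq g, MulAut.conj_apply, T.order hy hy1]

/-- Only `z = 1` gives a conjugate of `y'` in `P`. -/
theorem Twist.center_eq_one_of_conj {y y' z : G} (hy : y ∈ (P : Subgroup G))
    (hz : z ∈ Subgroup.center G) (hy' : y' ∈ (P : Subgroup G)) (h : IsConj (z * y) y') : z = 1 := by
  obtain ⟨x, hx⟩ := isConj_iff.1 h
  have hyp : ∀ u ∈ (P : Subgroup G), u ^ p = 1 := fun u hu => by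
    have := pow_card_eq_one' (x := (⟨u, hu⟩ : (P : Subgroup G)))
    rw [show Nat.card (P : Subgroup G) = p from T.card] at this
    exact congrArg Subtype.val this
  have h1 : (z * y) ^ p = 1 := by
    have h2 : x * (z * y) ^ p * x⁻¹ = 1 := by rw [← conj_pow, hx, hyp y' hy']
    exact conj_eq_one_iff.1 h2
  rw [(show Commute z y from (Subgroup.mem_center_iff.1 hz y).symm).mul_pow, hyp y hy,
    mul_one] at h1
  rcases (Nat.dvd_prime hp.out).1 (orderOf_dvd_of_pow_eq_one h1) with h2 | h2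
  · exact orderOf_eq_one_iff.1 h2
  · exact absurd (h2 ▸ dvd_refl p) (T.regular_center hz)

theorem Twist.card_centralizer {y : G} (hy : y ∈ (P : Subgroup G)) (hy1 : y ≠ 1) :
    Nat.card (Subgroup.centralizer ({y} : Set G)) = p * Nat.card (Subgroup.center G) := by
  have hcomm : ∀ a ∈ (P : Subgroup G), a * y = y * a := fun a ha => by
    haveI : IsCyclic (P : Subgroup G) := isCyclic_of_prime_card T.card
    exact congrArg Subtype.val (IsMulCommutative.is_comm.comm
      ⟨a, ha⟩ ⟨y, hy⟩)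
  rw [← T.card, ← Nat.card_prod]
  refine (Nat.card_congr (Equiv.ofBijective
    (fun x : ↥(P : Subgroup G) × ↥(Subgroup.center G) =>
      (⟨(x.1 : G) * x.2, Subgroup.mem_centralizer_singleton_iff.2 (by
        rw [mul_assoc, ← Subgroup.mem_center_iff.1 x.2.2 y, ← mul_assoc, hcomm _ x.1.2, mul_assoc])⟩ :
        Subgroup.centralizer ({y} : Set G))) ⟨?_, ?_⟩)).symm
  · rintro ⟨a, z⟩ ⟨b, z'⟩ h
    have h1 : (a : G) * z = b * z' := congrArg Subtype.val h
    have h2 : (z : G) * (z' : G)⁻¹ = (a : G)⁻¹ * b := by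
      rw [eq_inv_mul_iff_mul_eq, ← mul_assoc, h1, mul_inv_cancel_right]
    have h3 := T.eq_one_of_mem (mul_mem z.2 (inv_mem z'.2))
      (h2 ▸ mul_mem (inv_mem a.2) b.2)
    rw [h3, eq_comm, inv_mul_eq_one] at h2
    exact Prod.ext (Subtype.ext h2) (Subtype.ext (mul_inv_eq_one.1 h3))
  · rintro ⟨g, hg⟩
    obtain ⟨u, hu, z, hz, rfl⟩ := T.cent y hy hy1 g (Subgroup.mem_centralizer_singleton_iff.1 hg)
    exact ⟨(⟨u, hu⟩, ⟨z, hz⟩), rfl⟩

theorem Twist.comm (a b : (P : Subgroup G)) : a * b = b * a :=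
  haveI : IsCyclic (P : Subgroup G) := isCyclic_of_prime_card T.card
  IsMulCommutative.is_comm.comm a b

/-- Inversion of `P`. -/
def Twist.inv : MulAut (P : Subgroup G) where
  toFun y := y⁻¹
  invFun y := y⁻¹
  left_inv := inv_inv
  right_inv := inv_inv
  map_mul' a b := by rw [mul_inv_rev, T.comm]

theorem Twist.inv_apply (y : (P : Subgroup G)) : T.inv y = y⁻¹ := rfl

/-- The group generated by the inversion. -/
def Twist.aut : Subgroup (MulAut (P : Subgroup G)) := Subgroup.zpowers T.inv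

theorem Twist.inv_mul_inv : T.inv * T.inv = 1 :=
  MulEquiv.ext fun y => inv_inv y

theorem Twist.mem_aut {φ : MulAut (P : Subgroup G)} (h : φ ∈ T.aut) : φ = 1 ∨ φ = T.inv := by
  obtain ⟨k, rfl⟩ := (mem_powers_iff_mem_zpowers (x := T.inv)).2 h
  induction k with
  | zero => exact Or.inl rfl
  | succ k ih =>
    simp only [pow_succ] at ih ⊢
    rcases ih (Subgroup.mem_zpowers_iff.2 ⟨k, by simp⟩) with e | e
    · exact Or.inr (by rw [e, one_mul])
    · exact Or.inl (by rw [e, T.inv_mul_inv])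

theorem Twist.card_aut : Nat.card T.aut = 2 := by
  rw [Twist.aut, Nat.card_zpowers]
  refine orderOf_eq_prime (by rw [pow_two, T.inv_mul_inv]) fun h => ?_
  obtain ⟨y, hy⟩ : ∃ y : (P : Subgroup G), y ≠ 1 := by
    haveI : Nontrivial (P : Subgroup G) :=
      Finite.one_lt_card_iff_nontrivial.1 (hp.out.one_lt.trans_le T.card.ge)
    exact exists_ne 1
  have h1 : y⁻¹ = y := by rw [← T.inv_apply, h]; rfl
  have h2 : orderOf y ∣ 2 := orderOf_dvd_of_pow_eq_one (by
    rw [pow_two]; nth_rewrite 2 [← h1]; exact mul_inv_cancel y)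
  have h3 : (orderOf y : ℕ) = p := by
    rw [← Subgroup.orderOf_coe]; exact T.order y.2 fun e => hy (Subtype.ext e)
  have := Nat.le_of_dvd two_pos h2
  have := T.seven
  omega

theorem Twist.apply_inv (ψ : IrrCharacter G) {y : G} (hy : y ∈ (P : Subgroup G)) :
    ψ.1 y⁻¹ = ψ.1 y := by
  rw [← T.w_inv y hy]
  exact Char.IsCharacter.isClassFunction (Char.irr_isCharacter ψ) y T.w

/-- The relevant characters with the central character of `ψ₀`. -/
noncomputable def Twist.set (_T : Twist P) (ψ₀ : IrrCharacter G) : Finset (IrrCharacter G) :=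
  Finset.univ.filter fun ψ => SameCentral ψ₀ ψ ∧ ∃ y : (P : Subgroup G), y ≠ 1 ∧ ψ.1 y ≠ 0

theorem Twist.mem_set {ψ₀ ψ : IrrCharacter G} :
    ψ ∈ T.set ψ₀ ↔ SameCentral ψ₀ ψ ∧ ∃ y : (P : Subgroup G), y ≠ 1 ∧ ψ.1 y ≠ 0 := by
  simp [Twist.set]

theorem Twist.sum_set (ψ₀ : IrrCharacter G) (f : IrrCharacter G → ℂ)
    (hf : ∀ ψ, (∀ y : (P : Subgroup G), y ≠ 1 → ψ.1 y = 0) → f ψ = 0) :
    ∑ ψ ∈ T.set ψ₀, f ψ = ∑ ψ ∈ Finset.univ.filter (fun ψ => SameCentral ψ₀ ψ), f ψ := by
  refine Finset.sum_subset (fun ψ h => Finset.mem_filter.2 ⟨Finset.mem_univ _, (T.mem_set.1 h).1⟩)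
    fun ψ h1 h2 => hf ψ fun y hy => ?_
  by_contra h3
  exact h2 (T.mem_set.2 ⟨(Finset.mem_filter.1 h1).2, y, hy, h3⟩)

/-- Orthogonality to the columns of `P`. -/
theorem Twist.orth_regular (ψ₀ : IrrCharacter G) {g : G} (hg : IsPRegular p g)
    {y : (P : Subgroup G)} (hy : y ≠ 1) :
    ∑ ψ ∈ T.set ψ₀, ψ.1 g * conj (ψ.1 y) = 0 := by
  have hy1 : (y : G) ≠ 1 := fun e => hy (Subtype.ext e)
  rw [T.sum_set ψ₀ _ fun ψ h => by rw [h y hy, map_zero, mul_zero]]
  have hall : ∀ z ∈ Subgroup.center G, ∑ ψ, omega ψ z * (ψ.1 g * conj (ψ.1 y)) = 0 := fun z hz => by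
    rw [Finset.sum_congr rfl fun (ψ : IrrCharacter G) _ =>
      show omega ψ z * (ψ.1 g * conj (ψ.1 y)) = ψ.1 (z * g) * conj (ψ.1 y) by
        rw [apply_center_mul ψ hz, mul_assoc]]
    rw [Char.sum_irr_mul_conj, if_neg (T.not_conj_regular y.2 hy1 (T.regular_mul hg hz))]
  have h1 := card_mul_sum_sameCentral ψ₀ (fun ψ => ψ.1 g * conj (ψ.1 y)) fun z hz _ => hall z hz
  have h2 := hall 1 (one_mem _)
  simp only [omega_one, one_mul] at h2
  rw [h2] at h1
  exact (mul_eq_zero.1 h1).resolve_left (Nat.cast_ne_zero.2 Nat.card_pos.ne')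

/-- Orthogonality of the columns of `P`. -/
theorem Twist.orth (ψ₀ : IrrCharacter G) {y y' : (P : Subgroup G)} (hy : y ≠ 1) (hy' : y' ≠ 1) :
    ∑ ψ ∈ T.set ψ₀, ψ.1 y * conj (ψ.1 y') =
      if ∃ φ ∈ T.aut, φ y = y' then (p : ℂ) else 0 := by
  have hy1' : (y' : G) ≠ 1 := fun e => hy' (Subtype.ext e)
  have hy1 : (y : G) ≠ 1 := fun e => hy (Subtype.ext e)
  rw [T.sum_set ψ₀ _ fun ψ h => by rw [h y' hy', map_zero, mul_zero]]
  have h1 := card_mul_sum_sameCentral ψ₀ (fun ψ => ψ.1 y * conj (ψ.1 y')) fun z hz hz1 => by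
    rw [Finset.sum_congr rfl fun (ψ : IrrCharacter G) _ =>
      show omega ψ z * (ψ.1 y * conj (ψ.1 y')) = ψ.1 (z * y) * conj (ψ.1 y') by
        rw [apply_center_mul ψ hz, mul_assoc],
      Char.sum_irr_mul_conj, if_neg fun h => hz1 (T.center_eq_one_of_conj y.2 hz y'.2 h)]
  rw [Char.sum_irr_mul_conj, T.card_centralizer y'.2 hy1'] at h1
  have hiff : IsConj (y : G) y' ↔ ∃ φ ∈ T.aut, φ y = y' := by
    constructor
    · intro h
      rcases T.conj_cases y y.2 y' y'.2 hy1 h with e | e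
      · exact ⟨1, one_mem _, Subtype.ext e.symm⟩
      · exact ⟨T.inv, Subgroup.mem_zpowers _, Subtype.ext e.symm⟩
    · rintro ⟨φ, hφ, rfl⟩
      rcases T.mem_aut hφ with rfl | rfl
      · exact IsConj.refl _
      · exact isConj_iff.2 ⟨T.w, T.w_inv y y.2⟩
  have hZ : (Nat.card (Subgroup.center G) : ℂ) ≠ 0 := Nat.cast_ne_zero.2 Nat.card_pos.ne'
  refine mul_left_cancel₀ hZ (h1.trans ?_)
  by_cases h : ∃ φ ∈ T.aut, φ y = y'
  · rw [if_pos h, if_pos (hiff.2 h)]; push_cast; ring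
  · rw [if_neg h, if_neg fun hc => h (hiff.1 hc), mul_zero]

theorem Twist.data (ψ₀ : IrrCharacter G) :
    DefectOne.Coord.Data p (T.set ψ₀) (fun ψ (y : (P : Subgroup G)) => ψ.1 y) T.aut
      Char.degree where
  card := T.card
  int := fun χ _ l => by
    obtain ⟨n, hn⟩ := Char.IsCharacter.exists_nat_classInner
      (Char.IsCharacter.restrict (Char.irr_isCharacter χ) (P : Subgroup G)) (Char.irr_isCharacter l)
    refine ⟨n, ?_⟩
    rw [Int.cast_natCast]
    exact hn
  orth := fun y y' hy hy' => by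
    rw [T.orth ψ₀ hy hy']
  deg_pos := fun χ _ => Char.degree_pos χ
  deg_orth := fun y hy => by
    have := T.orth_regular ψ₀ (g := (1 : G)) (by simp [IsPRegular, hp.out.ne_one]) hy
    simpa only [Char.apply_one_eq_degree] using this
  nonzero := fun χ hχ => (T.mem_set.1 hχ).2

/-- The exceptional configuration. -/
theorem Twist.exists_shape (ψ₀ : IrrCharacter G) :
    ∃ S : DefectOne.Coord.Shape p (T.set ψ₀) (fun ψ (y : (P : Subgroup G)) => ψ.1 y) T.aut,
      3 ≤ (T.set ψ₀ \ S.X).card := by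
  obtain ⟨S⟩ := DefectOne.Coord.shape (T.data ψ₀) (fun χ _ φ hφ y => by
    rcases T.mem_aut hφ with rfl | rfl
    · rfl
    · exact T.apply_inv χ y.2) (by rw [T.card_aut]; have := T.seven; omega)
  refine ⟨S, ?_⟩
  have h := S.card_mul
  rw [T.card_aut] at h
  have h2 : ∀ r : ℕ, r * 2 + 1 = p → 3 ≤ r := fun r hr => by have := T.seven; omega
  exact h2 _ h

/-- The class sum term. -/
noncomputable def Twist.term (T : Twist P) (y : (P : Subgroup G)) (ψ : IrrCharacter G) : ℂ :=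
  ψ.1 T.w * conj (ψ.1 T.w) * conj (ψ.1 y) / ψ.1 1

/-- The class sums do not depend on the central character. -/
theorem Twist.sum_term_eq {ζ : IrrCharacter G} (hζw : ζ.1 T.w ≠ 0)
    (hker : ∀ z ∈ Subgroup.center G, omega ζ z = 1 → z = 1) {y : (P : Subgroup G)} (hy : y ≠ 1)
    (ψ₁ ψ₂ : IrrCharacter G) :
    ∑ ψ ∈ T.set ψ₁, T.term y ψ = ∑ ψ ∈ T.set ψ₂, T.term y ψ := by
  have hy1 : (y : G) ≠ 1 := fun e => hy (Subtype.ext e)
  have hcls := Char.IsCharacter.isClassFunction (Char.irr_isCharacter ζ)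
  have key : ∀ z ∈ Subgroup.center G, z ≠ 1 → ∑ ψ, omega ψ z * T.term y ψ = 0 := by
    intro z hz hz1
    have h1 := Agent.BlockCount.sum_irr_mul_mul_conj_div T.w T.w⁻¹ (z⁻¹ * (y : G))
    rw [Finset.sum_congr rfl fun (ψ : IrrCharacter G) _ =>
      show ψ.1 T.w * ψ.1 T.w⁻¹ * conj (ψ.1 (z⁻¹ * (y : G))) / ψ.1 1 = omega ψ z * T.term y ψ by
        rw [CharInt.char_inv (Char.irr_isCharacter ψ), apply_center_mul ψ (inv_mem hz), map_mul,
          omega_inv, Complex.conj_conj, Twist.term]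
        ring] at h1
    rw [h1]
    have hnone : IsEmpty {x : G // IsConj (T.w * (x * T.w⁻¹ * x⁻¹)) (z⁻¹ * (y : G))} := by
      refine ⟨fun ⟨x, hx⟩ => hz1 ?_⟩
      obtain ⟨h, hh⟩ := isConj_iff.1 hx
      obtain ⟨a, ha⟩ : ∃ a, a = h * T.w * h⁻¹ := ⟨_, rfl⟩
      obtain ⟨b, hb⟩ : ∃ b, b = h * (x * T.w * x⁻¹) * h⁻¹ := ⟨_, rfl⟩
      obtain ⟨m, hm⟩ : ∃ m, m = z⁻¹ * (y : G) := ⟨_, rfl⟩
      have hab : a * b⁻¹ = m := by rw [hm, ← hh, ha, hb]; group
      have hsq : ∀ g : G, (g * T.w * g⁻¹) * (g * T.w * g⁻¹) = T.w * T.w := fun g => by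
        rw [show (g * T.w * g⁻¹) * (g * T.w * g⁻¹) = g * (T.w * T.w) * g⁻¹ by group,
          Subgroup.mem_center_iff.1 T.w_sq g, mul_inv_cancel_right]
      have ha2 : a * a = T.w * T.w := by rw [ha]; exact hsq h
      have hb2 : b * b = T.w * T.w := by
        rw [hb, show h * (x * T.w * x⁻¹) * h⁻¹ = (h * x) * T.w * (h * x)⁻¹ by group]; exact hsq _
      have hz0 := Subgroup.mem_center_iff.1 T.w_sq
      -- `a` inverts `m`
      have hinv : a * m * a⁻¹ = m⁻¹ := by
        rw [← hab, mul_inv_rev, inv_inv]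
        calc a * (a * b⁻¹) * a⁻¹ = (T.w * T.w) * b⁻¹ * a⁻¹ := by rw [← ha2]; group
          _ = b⁻¹ * (T.w * T.w) * a⁻¹ := by rw [hz0 b⁻¹]
          _ = b⁻¹ * (b * b) * a⁻¹ := by rw [hb2]
          _ = b * a⁻¹ := by group
      -- the parts
      have hzc := Subgroup.mem_center_iff.1 (inv_mem hz)
      have hay : a * (y : G) * a⁻¹ * (y : G) = z * z := by
        have h2 : z⁻¹ * (a * (y : G) * a⁻¹) = (y : G)⁻¹ * z := by
          rw [← hzc (a * (y : G) * a⁻¹)]
          calc a * (y : G) * a⁻¹ * z⁻¹ = a * ((y : G) * z⁻¹) * a⁻¹ := by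
                rw [mul_assoc (a * (y : G)), hzc a⁻¹]; group
            _ = a * m * a⁻¹ := by rw [hm, hzc (y : G)]
            _ = m⁻¹ := hinv
            _ = (y : G)⁻¹ * z := by rw [hm]; group
        calc a * (y : G) * a⁻¹ * (y : G) = z * (z⁻¹ * (a * (y : G) * a⁻¹)) * (y : G) := by group
          _ = z * ((y : G)⁻¹ * z) * (y : G) := by rw [h2]
          _ = z * z := by
            rw [← mul_assoc z, mul_assoc (z * (y : G)⁻¹),
              ← Subgroup.mem_center_iff.1 hz (y : G)]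
            group
      have hyp : (y : G) ^ p = 1 := by
        have h' := pow_orderOf_eq_one (y : G)
        rwa [T.order y.2 hy1] at h'
      have hzz : z * z = 1 := by
        have hc : Commute (a * (y : G) * a⁻¹) (y : G) := by
          have hzzc := Subgroup.mem_center_iff.1 (mul_mem hz hz)
          have e : a * (y : G) * a⁻¹ = z * z * (y : G)⁻¹ := eq_mul_inv_of_mul_eq hay
          rw [e]
          exact (Commute.mul_left (hzzc (y : G)).symm (Commute.inv_left (Commute.refl _)))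
        have h3 : (z * z) ^ p = 1 := by
          rw [← hay, hc.mul_pow, conj_pow, hyp]; simp
        rcases (Nat.dvd_prime hp.out).1 (orderOf_dvd_of_pow_eq_one h3) with h4 | h4
        · exact orderOf_eq_one_iff.1 h4
        · exact absurd (h4 ▸ dvd_refl p) (T.regular_center (mul_mem hz hz))
      rw [hzz] at hay
      have haP : ∀ u ∈ (P : Subgroup G), a * u * a⁻¹ = u⁻¹ := by
        have hzp : Subgroup.zpowers (y : G) = (P : Subgroup G) := by
          refine Subgroup.eq_of_le_of_card_ge (Subgroup.zpowers_le.2 y.2) ?_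
          rw [Nat.card_zpowers, T.order y.2 hy1]; exact T.card.le
        intro u hu
        obtain ⟨k, rfl⟩ := Subgroup.mem_zpowers_iff.1 (hzp.ge hu)
        rw [← conj_zpow, eq_inv_of_mul_eq_one_left hay, inv_zpow]
      -- a square root of `y`
      set c := (y : G) ^ ((p + 1) / 2)
      have hc2 : c * c = y := by
        have hodd : p % 2 = 1 := Nat.odd_iff.1 (hp.out.odd_of_ne_two (by have := T.seven; omega))
        rw [← pow_add, show (p + 1) / 2 + (p + 1) / 2 = p + 1 by omega, pow_succ, hyp, one_mul]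
      have hca : c⁻¹ * a * c = (y : G)⁻¹ * a := by
        have h4 := haP c (pow_mem y.2 _)
        calc c⁻¹ * a * c = c⁻¹ * (a * c * a⁻¹) * a := by group
          _ = c⁻¹ * c⁻¹ * a := by rw [h4]
          _ = (y : G)⁻¹ * a := by rw [← mul_inv_rev, hc2]
      have hbz : b = z * (c⁻¹ * a * c) := by
        rw [hca]
        calc b = (a * b⁻¹)⁻¹ * a := by group
          _ = z * ((y : G)⁻¹ * a) := by
            rw [hab, hm, mul_inv_rev, inv_inv, Subgroup.mem_center_iff.1 hz (y : G)⁻¹, mul_assoc]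
      have hζb : ζ.1 b = ζ.1 T.w := by
        rw [hb, show h * (x * T.w * x⁻¹) * h⁻¹ = (h * x) * T.w * (h * x)⁻¹ by group]
        exact hcls _ _
      have hζa : ζ.1 (c⁻¹ * a * c) = ζ.1 T.w := by
        rw [ha, show c⁻¹ * (h * T.w * h⁻¹) * c = (c⁻¹ * h) * T.w * (c⁻¹ * h)⁻¹ by group]
        exact hcls _ _
      rw [hbz, apply_center_mul ζ hz, hζa] at hζb
      exact hker z hz ((mul_eq_right₀ hζw).1 hζb)
    rw [@Nat.card_of_isEmpty _ hnone, Nat.cast_zero, mul_zero, zero_div]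
  refine mul_left_cancel₀ (Nat.cast_ne_zero.2 (Nat.card_pos (α := Subgroup.center G)).ne' :
    (Nat.card (Subgroup.center G) : ℂ) ≠ 0) ?_
  rw [T.sum_set ψ₁ _ fun ψ h => by rw [Twist.term, h y hy, map_zero, mul_zero, zero_div],
    T.sum_set ψ₂ _ fun ψ h => by rw [Twist.term, h y hy, map_zero, mul_zero, zero_div],
    card_mul_sum_sameCentral ψ₁ _ key, card_mul_sum_sameCentral ψ₂ _ key]

end Cfsg.Agent.DegreePSubTwo
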