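import Cfsg.Agent.Lib.DegreePSubTwo.Core
import Cfsg.Agent.Lib.DegreePSubTwo.AltSquare
import Cfsg.Agent.Lib.BlockCount.Involve
import Cfsg.Agent.Lib.Char.OddDegree
import Cfsg.Agent.Lib.Char.RealChar

/-!
# Values of the exceptional characters of degree `p - 2`

On `p`-regular elements the exceptional characters take integer values `θ(g) ≥ -1` with
`θ(g²) = θ(g) (θ(g) - (p - 3))`.
-/

set_option autoImplicit false
set_option linter.style.haveILetI false
set_option linter.unusedSectionVars false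

namespace Cfsg.Agent.DegreePSubTwo

open Cfsg Cfsg.Agent
open scoped ComplexConjugate Classical

universe u

variable {G : Type u} [Group G] [Fintype G] {p : ℕ} [hp : Fact p.Prime]
variable {P : Sylow p G} {θ₀ : IrrCharacter G} (B : Block P θ₀)

/-- A rational algebraic integer is an integer. -/
theorem exists_int_of_integral {z : ℂ} (hz : IsIntegral ℤ z) (r : ℚ) (hr : z = r) :
    ∃ k : ℤ, z = k := by
  subst hr
  have h1 : IsIntegral ℤ r := by
    have h2 : IsIntegral ℤ (algebraMap ℚ ℂ r) := by simpa using hz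
    exact (isIntegral_algebraMap_iff (algebraMap ℚ ℂ).injective).1 h2
  obtain ⟨k, hk⟩ := IsIntegrallyClosed.isIntegral_iff.1 h1
  exact ⟨k, by rw [← hk]; simp⟩

/-- An element of order divisible by `p` is conjugate into `P`. -/
theorem exists_conj_mem (sc : DefectOne.SelfCent P) {g : G} (hg : ¬ IsPRegular p g) :
    ∃ x : G, x⁻¹ * g * x ∈ (P : Subgroup G) ∧ x⁻¹ * g * x ≠ 1 := by
  have hdvd : p ∣ orderOf g := not_not.1 hg
  set m := orderOf g / p with hm
  have hmp : m * p = orderOf g := Nat.div_mul_cancel hdvd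
  have hm0 : m ≠ 0 := fun h => (orderOf_pos g).ne' (by rw [← hmp, h, zero_mul])
  have hord : orderOf (g ^ m) = p := by
    rw [orderOf_pow_of_dvd hm0 ⟨p, hmp.symm⟩, ← hmp, Nat.mul_div_cancel_left _ (Nat.pos_of_ne_zero hm0)]
  have hpg : IsPGroup p (Subgroup.zpowers (g ^ m)) :=
    IsPGroup.of_card (n := 1) (by rw [Nat.card_zpowers, hord, pow_one])
  obtain ⟨Q, hQ⟩ := hpg.exists_le_sylow
  obtain ⟨x, hx⟩ := MulAction.exists_smul_eq G P Q
  have hu : x⁻¹ * g ^ m * x ∈ (P : Subgroup G) := by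
    have h1 : g ^ m ∈ ((x • P : Sylow p G) : Subgroup G) := hx ▸ hQ (Subgroup.mem_zpowers _)
    obtain ⟨v, hv, hve⟩ := h1
    rw [show g ^ m = x * v * x⁻¹ from hve.symm, show x⁻¹ * (x * v * x⁻¹) * x = v by group]
    exact hv
  have hu1 : x⁻¹ * g ^ m * x ≠ 1 := fun h => hp.out.ne_one (by
    rw [← hord, orderOf_eq_one_iff]
    calc g ^ m = x * (x⁻¹ * g ^ m * x) * x⁻¹ := by group
      _ = 1 := by rw [h]; group)
  refine ⟨x, ?_, fun h => hp.out.ne_one ?_⟩
  · rw [← sc.centralizer_singleton hu hu1, Subgroup.mem_centralizer_singleton_iff]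
    calc x⁻¹ * g * x * (x⁻¹ * g ^ m * x) = x⁻¹ * (g * g ^ m) * x := by group
      _ = x⁻¹ * (g ^ m * g) * x := by rw [← pow_succ', ← pow_succ]
      _ = x⁻¹ * g ^ m * x * (x⁻¹ * g * x) := by group
  · refine Nat.eq_one_of_dvd_one ?_
    have : g = 1 := by
      calc g = x * (x⁻¹ * g * x) * x⁻¹ := by group
        _ = 1 := by rw [h]; group
    rw [this, orderOf_one] at hdvd
    exact hdvd

include B

theorem Block.card_centralizer {y : G} (hy : y ∈ (P : Subgroup G)) (hy1 : y ≠ 1) :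
    Nat.card (Subgroup.centralizer ({y} : Set G)) = p := B.sc.card_centralizer hy hy1

theorem Block.exists_ne_one : ∃ y ∈ (P : Subgroup G), y ≠ 1 := by
  haveI : Nontrivial (P : Subgroup G) :=
    Finite.one_lt_card_iff_nontrivial.1 (hp.out.one_lt.trans_le B.sc.card.ge)
  obtain ⟨y, hy⟩ := exists_ne (1 : (P : Subgroup G))
  exact ⟨y, y.2, fun h => hy (Subtype.ext h)⟩

theorem Block.conj_of_mem (ψ : IrrCharacter G) {y : G} (hy : y ∈ (P : Subgroup G)) :
    conj (ψ.1 y) = ψ.1 y := by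
  rw [← CharInt.char_inv (Char.irr_isCharacter ψ) y]
  exact (Char.IsClassFunction.apply_of_isConj (Char.IsCharacter.isClassFunction (Char.irr_isCharacter ψ))
    (B.inv y hy)).symm

/-- `χ` takes natural values on regular elements. -/
theorem Block.exists_nat_χ {g : G} (hg : IsPRegular p g) : ∃ k : ℕ, B.χ.1 g = k := by
  obtain ⟨y, hy, hy1⟩ := B.exists_ne_one
  have h5 := B.five
  have hp1 : ((p - 1 : ℕ) : ℂ) ≠ 0 := Nat.cast_ne_zero.2 (by omega)
  have hp2 : ((p - 2 : ℕ) : ℂ) ≠ 0 := Nat.cast_ne_zero.2 (by omega)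
  have hpc : (p : ℂ) ≠ 0 := Nat.cast_ne_zero.2 (by omega)
  have h1 := Agent.BlockCount.sum_irr_mul_mul_conj_div y y⁻¹ g
  rw [B.sum_irr (f := fun ψ : IrrCharacter G => ψ.1 y * ψ.1 y⁻¹ * conj (ψ.1 g) / ψ.1 1)
    fun ψ a b c => by simp [B.vanish ψ a b c y hy hy1]] at h1
  simp only [Char.trivialChar_apply, CharInt.char_inv (Char.irr_isCharacter _), map_one, mul_one,
    div_one, B.val_χ y hy hy1, map_neg, neg_mul_neg, one_mul] at h1
  have hY : ∑ θ ∈ B.Y, θ.1 y * conj (θ.1 y) * conj (θ.1 g) / θ.1 1 = conj (B.χ.1 g) - 1 := by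
    rw [Finset.sum_congr rfl fun θ hθ => show θ.1 y * conj (θ.1 y) * conj (θ.1 g) / θ.1 1 =
        (θ.1 y * conj (θ.1 y)) * ((conj (B.χ.1 g) - 1) / ((p - 2 : ℕ) : ℂ)) by
          rw [B.regular θ hθ g hg, Char.apply_one_eq_degree, B.deg_Y θ hθ, map_sub, map_one,
            mul_div_assoc],
      ← Finset.sum_mul, B.sum_Y_sq y hy hy1]
    field_simp
  rw [hY, Char.apply_one_eq_degree, B.deg_χ] at h1
  set q : ℚ := (Nat.card (Subgroup.centralizer ({g} : Set G)) : ℚ) *
    (Nat.card {x : G // IsConj (y * (x * y⁻¹ * x⁻¹)) g} : ℚ) / (Nat.card G : ℚ) with hq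
  have hq0 : 0 ≤ q := by rw [hq]; positivity
  set r : ℚ := ((p - 1 : ℕ) : ℚ) * q / (p : ℚ) with hr
  have hr0 : 0 ≤ r := by rw [hr]; positivity
  have hc : conj (B.χ.1 g) = (r : ℂ) := by
    have hcast : ((p - 1 : ℕ) : ℂ) = (p : ℂ) - 1 := by
      rw [Nat.cast_sub (show 1 ≤ p by omega), Nat.cast_one]
    rw [hr, hq]
    push_cast
    rw [← h1, hcast]
    rw [hcast] at hp1
    field_simp
    ring
  have hχ : B.χ.1 g = (r : ℂ) := by
    have := congrArg conj hc
    rwa [Complex.conj_conj, map_ratCast] at this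
  obtain ⟨k, hk⟩ := exists_int_of_integral
    (CharInt.isIntegral_char (Char.irr_isCharacter B.χ) g) r hχ
  have hk0 : 0 ≤ k := by
    have h2 : (r : ℂ) = ((k : ℚ) : ℂ) := by rw [← hχ, hk]; norm_cast
    have h3 : r = (k : ℚ) := by exact_mod_cast h2
    rw [h3] at hr0
    exact_mod_cast hr0
  exact ⟨k.toNat, by rw [hk]; exact_mod_cast (Int.toNat_of_nonneg hk0).symm⟩

/-- The exceptional characters take integer values `≥ -1` on regular elements. -/
theorem Block.exists_int {g : G} (hg : IsPRegular p g) :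
    ∃ k : ℤ, -1 ≤ k ∧ ∀ θ ∈ B.Y, θ.1 g = k := by
  obtain ⟨k, hk⟩ := B.exists_nat_χ hg
  exact ⟨(k : ℤ) - 1, by omega, fun θ hθ => by rw [B.regular θ hθ g hg, hk]; push_cast; ring⟩

theorem Block.im_eq_zero {θ : IrrCharacter G} (hθ : θ ∈ B.Y) (g : G) : (θ.1 g).im = 0 := by
  by_cases hg : IsPRegular p g
  · obtain ⟨k, -, hk⟩ := B.exists_int hg
    rw [hk θ hθ]; simp
  · obtain ⟨x, hx, -⟩ := exists_conj_mem B.sc hg
    have h1 : θ.1 g = θ.1 (x⁻¹ * g * x) := Char.IsClassFunction.apply_of_isConj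
      (Char.IsCharacter.isClassFunction (Char.irr_isCharacter θ)) (isConj_iff.2 ⟨x⁻¹, by group⟩)
    rw [h1]
    exact Complex.conj_eq_iff_im.1 (B.conj_of_mem θ hx)

/-- Sums over `P`: each exceptional character has exactly one fixed vector and is multiplicity
free on `P`. -/
theorem Block.sum_P {θ : IrrCharacter G} (hθ : θ ∈ B.Y) :
    ∑ y : (P : Subgroup G), θ.1 y = p ∧
      ∑ y : (P : Subgroup G), θ.1 y * θ.1 y = (p : ℂ) * (p - 2 : ℕ) := by
  have h5 := B.five
  have hcard : Nat.card (P : Subgroup G) = p := B.sc.card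
  choose N hN hN' using fun ψ : IrrCharacter G => DefectOne.exists_sum_sq_ge (P := P) hcard ψ
  choose n hn using fun ψ : IrrCharacter G => DefectOne.exists_sum_eq_mul (P := P) hcard ψ
  have hpt : (p : ℂ) = 2 * B.t + 1 := by exact_mod_cast B.ht.symm
  have hcast : ((p - 2 : ℕ) : ℂ) = (p : ℂ) - 2 := by
    rw [Nat.cast_sub (show 2 ≤ p by omega), Nat.cast_ofNat]
  have hsumN : ∑ ψ ∈ B.Y, N ψ = B.t * (p - 2) := by
    have h1 : ∑ ψ ∈ B.Y, ∑ y : (P : Subgroup G), ψ.1 y * conj (ψ.1 y) =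
        (p : ℂ) * (B.t * (p - 2) : ℕ) := by
      rw [Finset.sum_comm, ← Finset.add_sum_erase _ _ (Finset.mem_univ (1 : (P : Subgroup G))),
        Finset.sum_congr rfl fun ψ hψ => by
          rw [Subgroup.coe_one, Char.apply_one_eq_degree, B.deg_Y ψ hψ, Complex.conj_natCast],
        Finset.sum_congr rfl fun (y : (P : Subgroup G)) hy => B.sum_Y_sq y y.2
          fun e => (Finset.mem_erase.1 hy).1 (Subtype.ext e),
        Finset.sum_const, Finset.sum_const, DefectOne.card_erase hcard, B.card_Y]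
      simp only [nsmul_eq_mul, Nat.cast_mul, hcast, Nat.cast_sub hp.out.one_le, Nat.cast_one]
      rw [hpt]
      ring
    rw [Finset.sum_congr rfl fun ψ _ => hN' ψ, ← Finset.mul_sum] at h1
    exact_mod_cast mul_left_cancel₀ (Nat.cast_ne_zero.2 hp.out.ne_zero) h1
  have hNeq : ∀ ψ ∈ B.Y, N ψ = p - 2 := fun ψ hψ => by
    have h3 : ∑ _ψ ∈ B.Y, (p - 2) = ∑ ψ ∈ B.Y, N ψ := by simp [hsumN, B.card_Y]
    exact ((Finset.sum_eq_sum_iff_of_le fun ψ hψ => (B.deg_Y ψ hψ) ▸ hN ψ).1 h3 ψ hψ).symm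
  have hle : ∀ ψ ∈ B.Y, n ψ ≤ 1 := by
    intro ψ hψ
    have hcomm : ∀ a b : (P : Subgroup G), a * b = b * a := fun a b =>
      Subtype.ext ((DefectOne.freeData_of_card_eq hcard).mul_comm a.2 b.2)
    obtain ⟨c, hc, hci⟩ := Char.IsCharacter.exists_decomp
      (Char.IsCharacter.restrict (Char.irr_isCharacter ψ) (P : Subgroup G))
    have h1 := Char.IsGeneralizedCharacter.classInner_self_eq_sum
      (m := fun l => (c l : ℤ)) (θ := fun y : (P : Subgroup G) => ψ.1 y) (by simpa using hc)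
    rw [classInner, hcard, hN' ψ, hNeq ψ hψ, inv_mul_cancel_left₀
      (Nat.cast_ne_zero.2 hp.out.ne_zero)] at h1
    have h2 : ∑ l, c l ^ 2 = p - 2 := by exact_mod_cast h1.symm
    have h3 : ∑ l, c l = p - 2 := by
      have h := congrFun hc 1
      simp only [Finset.sum_apply, Pi.smul_apply, smul_eq_mul, Subgroup.coe_one,
        Char.apply_one_of_comm hcomm, mul_one, Char.apply_one_eq_degree, B.deg_Y ψ hψ] at h
      exact_mod_cast h.symm
    have h4 := (Finset.sum_eq_sum_iff_of_le fun l _ => Nat.le_self_pow two_ne_zero (c l)).1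
      (h3.trans h2.symm) (Char.trivialChar _) (Finset.mem_univ _)
    have h6 := hci (Char.trivialChar _)
    rw [classInner, hcard] at h6
    simp only [Char.trivialChar_apply, map_one, mul_one, hn ψ,
      inv_mul_cancel_left₀ (Nat.cast_ne_zero.2 hp.out.ne_zero : (p : ℂ) ≠ 0)] at h6
    have h7 : n ψ = c (Char.trivialChar _) := by exact_mod_cast h6
    rw [h7]
    by_contra h8
    have : c (Char.trivialChar _) * 2 ≤ c (Char.trivialChar _) * c (Char.trivialChar _) :=
      Nat.mul_le_mul_left _ (by omega)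
    rw [pow_two] at h4
    omega
  have hsumn : ∑ ψ ∈ B.Y, n ψ = B.t := by
    have h1 : ∑ ψ ∈ B.Y, ∑ y : (P : Subgroup G), ψ.1 y = (p : ℂ) * (B.t : ℕ) := by
      rw [Finset.sum_comm, ← Finset.add_sum_erase _ _ (Finset.mem_univ (1 : (P : Subgroup G))),
        Finset.sum_congr rfl fun ψ hψ => by
          rw [Subgroup.coe_one, Char.apply_one_eq_degree, B.deg_Y ψ hψ],
        Finset.sum_congr rfl fun (y : (P : Subgroup G)) hy => B.sum_Y y y.2
          fun e => (Finset.mem_erase.1 hy).1 (Subtype.ext e),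
        Finset.sum_const, Finset.sum_const, DefectOne.card_erase hcard, B.card_Y]
      simp only [nsmul_eq_mul, hcast, Nat.cast_sub hp.out.one_le, Nat.cast_one, mul_one]
      rw [hpt]
      ring
    rw [Finset.sum_congr rfl fun ψ _ => hn ψ, ← Finset.mul_sum] at h1
    exact_mod_cast mul_left_cancel₀ (Nat.cast_ne_zero.2 hp.out.ne_zero) h1
  have hn1 : n θ = 1 := (Finset.sum_eq_sum_iff_of_le hle).1
    (by rw [hsumn, Finset.sum_const, B.card_Y, smul_eq_mul, mul_one]) θ hθ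
  refine ⟨by rw [hn θ, hn1, Nat.cast_one, mul_one], ?_⟩
  rw [← hNeq θ hθ, ← hN' θ]
  exact Finset.sum_congr rfl fun y _ => by rw [B.conj_of_mem θ y.2]

/-- `θ(g²) = θ(g)² - (p - 3) θ(g)` on regular elements. -/
theorem Block.apply_sq {θ : IrrCharacter G} (hθ : θ ∈ B.Y) {g : G} (hg : IsPRegular p g) :
    θ.1 (g ^ 2) = θ.1 g * (θ.1 g - ((p - 3 : ℕ) : ℂ)) := by
  have h5 := B.five
  have ht := B.ht
  have hcard : Nat.card (P : Subgroup G) = p := B.sc.card
  obtain ⟨c, hc, hci⟩ := Char.IsCharacter.exists_decomp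
    (isCharacter_altSq (Char.irr_isCharacter θ))
  choose n hn using fun ψ : IrrCharacter G => DefectOne.exists_sum_eq_mul (P := P) hcard ψ
  have happ : ∀ h, altSq θ.1 h = ∑ ψ : IrrCharacter G, (c ψ : ℂ) * ψ.1 h := fun h => by
    rw [congrFun hc h]; simp [Finset.sum_apply]
  -- no trivial constituent
  have hreal := B.im_eq_zero hθ
  have hc0 : c (Char.trivialChar G) = 0 := by
    have hν : Char.fsIndicator θ.1 = 1 :=
      (Char.fsIndicator_of_real θ hreal).resolve_right (Char.fsIndicator_ne_neg_one_of_odd θ (by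
        rw [Char.charDegree_eq_degree, B.deg_Y θ hθ]
        exact ⟨B.t - 1, by omega⟩))
    have h1 := hci (Char.trivialChar G)
    have h2 : (Nat.card G : ℂ)⁻¹ * ∑ h : G, θ.1 h * θ.1 h = 1 := by
      rw [Char.avg_sq_eq_classInner, (Char.conjIrr_eq_self_iff θ).2 hreal]
      exact Char.classInner_irr_self θ.2
    have h3 : classInner (altSq θ.1) (Char.trivialChar G).1 = 0 := by
      simp only [classInner, Char.trivialChar_apply, map_one, mul_one, altSq, pow_two]
      rw [← Finset.sum_div, Finset.sum_sub_distrib, ← mul_div_assoc, mul_sub, h2,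
        ← Char.fsIndicator_eq_sum, hν, sub_self, zero_div]
    rw [h3] at h1
    exact_mod_cast h1.symm
  -- degree
  have hdeg : ∑ ψ, c ψ * Char.degree ψ = (B.t - 1) * (p - 2) := by
    have h1 := happ 1
    rw [altSq_one] at h1
    simp only [Char.apply_one_eq_degree, B.deg_Y θ hθ] at h1
    have h2 : ((p - 2 : ℕ) : ℂ) = 2 * ((B.t - 1 : ℕ) : ℂ) + 1 := by
      exact_mod_cast (show p - 2 = 2 * (B.t - 1) + 1 by omega)
    have : ((∑ ψ, c ψ * Char.degree ψ : ℕ) : ℂ) = (((B.t - 1) * (p - 2) : ℕ) : ℂ) := by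
      push_cast
      rw [← h1, h2]
      ring
    exact_mod_cast this
  -- fixed points of `P`
  have hfix : ∑ ψ, c ψ * n ψ = B.t - 1 := by
    have hodd : (Nat.card (P : Subgroup G)).Coprime 2 := by
      rw [hcard]
      exact (Nat.coprime_primes hp.out Nat.prime_two).2 (by omega)
    have h2 : ∑ y : (P : Subgroup G), θ.1 ((y : G) ^ 2) = p := by
      conv_rhs => rw [← (B.sum_P hθ).1]
      exact Fintype.sum_equiv (powCoprime hodd) _ _ fun y => by simp [powCoprime]
    have h1 : ∑ y : (P : Subgroup G), altSq θ.1 y = (p : ℂ) * ((B.t - 1 : ℕ) : ℂ) := by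
      simp only [altSq]
      rw [← Finset.sum_div, Finset.sum_sub_distrib, h2]
      simp only [pow_two, (B.sum_P hθ).2]
      have h3 : ((p - 2 : ℕ) : ℂ) = 2 * ((B.t - 1 : ℕ) : ℂ) + 1 := by
        exact_mod_cast (show p - 2 = 2 * (B.t - 1) + 1 by omega)
      rw [h3]
      ring
    simp only [happ] at h1
    rw [Finset.sum_comm] at h1
    simp only [← Finset.mul_sum, hn, mul_left_comm _ (p : ℂ)] at h1
    exact_mod_cast mul_left_cancel₀ (Nat.cast_ne_zero.2 hp.out.ne_zero) h1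
  -- split the sums
  set O := Finset.univ \ (insert (Char.trivialChar G) (insert B.χ B.Y)) with hO
  have hsplit : ∀ f : IrrCharacter G → ℕ,
      ∑ ψ, f ψ = f (Char.trivialChar G) + f B.χ + ∑ ψ ∈ B.Y, f ψ + ∑ ψ ∈ O, f ψ := by
    intro f
    rw [hO, ← Finset.sum_sdiff (Finset.subset_univ (insert (Char.trivialChar G) (insert B.χ B.Y))),
      Finset.sum_insert (by simp [B.triv_notMem, B.χ_ne.symm]), Finset.sum_insert B.χ_notMem]
    ring
  have hOmem : ∀ ψ ∈ O, ψ ≠ Char.trivialChar G ∧ ψ ≠ B.χ ∧ ψ ∉ B.Y := fun ψ hψ => by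
    simpa [hO] using hψ
  have hnO : ∀ ψ ∈ O, Char.degree ψ = p * n ψ := fun ψ hψ => by
    obtain ⟨a, b, d⟩ := hOmem ψ hψ
    have h1 := hn ψ
    rw [DefectOne.sum_split, Finset.sum_eq_zero fun (y : (P : Subgroup G)) hy => B.vanish ψ a b d y y.2
      (fun e => (Finset.mem_erase.1 hy).1 (Subtype.ext e)), add_zero] at h1
    exact_mod_cast h1
  have hnY : ∀ ψ ∈ B.Y, n ψ = 1 := fun ψ hψ => by
    have h1 := hn ψ
    rw [(B.sum_P hψ).1] at h1
    have : (p : ℂ) * 1 = p * (n ψ : ℂ) := by rw [mul_one, ← h1]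
    exact_mod_cast (mul_left_cancel₀ (Nat.cast_ne_zero.2 hp.out.ne_zero) this).symm
  have hnχ : n B.χ = 0 := by
    have h1 := hn B.χ
    rw [DefectOne.sum_split, Finset.sum_congr rfl fun (y : (P : Subgroup G)) hy => B.val_χ y y.2
      (fun e => (Finset.mem_erase.1 hy).1 (Subtype.ext e)), Finset.sum_const,
      DefectOne.card_erase hcard, B.deg_χ, nsmul_eq_mul, mul_neg, mul_one, add_neg_cancel] at h1
    exact_mod_cast ((mul_eq_zero.1 h1.symm).resolve_left (Nat.cast_ne_zero.2 hp.out.ne_zero))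
  rw [hsplit, hc0, zero_mul, zero_add, B.deg_χ,
    Finset.sum_congr rfl fun ψ hψ => by rw [B.deg_Y ψ hψ], ← Finset.sum_mul,
    Finset.sum_congr (s₁ := O) rfl fun ψ hψ => by rw [hnO ψ hψ, mul_left_comm], ← Finset.mul_sum]
    at hdeg
  rw [hsplit, hc0, zero_mul, zero_add, hnχ, mul_zero, zero_add,
    Finset.sum_congr rfl fun ψ hψ => by rw [hnY ψ hψ, mul_one]] at hfix
  set sY := ∑ ψ ∈ B.Y, c ψ
  set sO := ∑ ψ ∈ O, c ψ * n ψ
  have hsO : sO = 0 ∧ c B.χ = 0 := by
    rw [← hfix, add_mul] at hdeg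
    have h1 : c B.χ * (p - 1) + p * sO = sO * (p - 2) := by omega
    have h2 : sO * (p - 2) + 2 * sO = p * sO := by
      rw [mul_comm sO, ← add_mul, Nat.sub_add_cancel (by omega)]
    have h3 : c B.χ * (p - 1) + 2 * sO = 0 := by omega
    refine ⟨by omega, ?_⟩
    have : c B.χ * (p - 1) = 0 := by omega
    exact (Nat.mul_eq_zero.1 this).resolve_right (by omega)
  have hOz : ∀ ψ ∈ O, c ψ = 0 := by
    intro ψ hψ
    have h1 : c ψ * n ψ = 0 := Finset.sum_eq_zero_iff.1 hsO.1 ψ hψ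
    refine (Nat.mul_eq_zero.1 h1).resolve_right fun h2 => ?_
    have := Char.degree_pos ψ
    rw [hnO ψ hψ, h2, mul_zero] at this
    exact lt_irrefl 0 this
  have hval : altSq θ.1 g = (sY : ℂ) * θ.1 g := by
    rw [happ, B.sum_irr fun ψ a b d => by
      rw [hOz ψ (by simp [hO, a, b, d]), Nat.cast_zero, zero_mul]]
    rw [hc0, hsO.2, Nat.cast_zero, zero_mul, zero_mul, zero_add, zero_add,
      Finset.sum_congr rfl fun ψ hψ => by rw [B.regular ψ hψ g hg, ← B.regular θ hθ g hg],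
      ← Finset.sum_mul]
    simp [sY]
  have hsY : 2 * sY = p - 3 := by omega
  have : (2 : ℂ) * sY = ((p - 3 : ℕ) : ℂ) := by exact_mod_cast hsY
  rw [altSq] at hval
  rw [← this]
  linear_combination -2 * hval

end Cfsg.Agent.DegreePSubTwo
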